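import Cfsg.Agent.Fg24.DegThreeP.Basic

/-!
# Transitive actions of degree `j p`

Fixed-point functions, the decomposition of the permutation character over the principal block,
and the fixed points of involutions.
-/

set_option autoImplicit false
set_option linter.unusedSectionVars false

open Cfsg MulAction
open scoped Classical

namespace Cfsg.Agent.Fg24.DegThreeP

universe u v w

variable {G : Type u} [Group G] [Fintype G]

/-- The number of fixed points. -/
noncomputable def fix (X : Type v) [MulAction G X] (g : G) : ℕ := Nat.card (fixedBy X g)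

theorem fix_one (X : Type v) [Fintype X] [MulAction G X] : fix X (1 : G) = Fintype.card X := by
  rw [fix, ← Nat.card_eq_fintype_card]
  exact Nat.card_congr (Equiv.subtypeUnivEquiv fun a => one_smul G a)

theorem fix_le (X : Type v) [Fintype X] [MulAction G X] (g : G) : fix X g ≤ Fintype.card X := by
  classical
  rw [fix, Nat.card_eq_fintype_card]
  exact Fintype.card_subtype_le _

theorem fix_conj (X : Type v) [MulAction G X] (c g : G) : fix X (c * g * c⁻¹) = fix X g :=
  (Nat.card_congr (Equiv.subtypeEquiv (MulAction.toPerm c) fun z => by simp [mul_smul])).symm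

theorem fix_isConj (X : Type v) [MulAction G X] {g g' : G} (h : IsConj g g') :
    fix X g' = fix X g := by
  obtain ⟨c, rfl⟩ := isConj_iff.1 h
  exact fix_conj X c g

/-- Double counting of fixed points against a class function. -/
theorem sum_fix_mul {X : Type v} [Fintype X] [MulAction G X] [IsPretransitive G X] (a : X)
    (φ : G → ℤ) (hφ : ∀ c g : G, φ (c * g * c⁻¹) = φ g) :
    ∑ g : G, (fix X g : ℤ) * φ g =
      Fintype.card X * ∑ g ∈ Finset.univ.filter (fun g : G => g • a = a), φ g := by
  let K : X → ℤ := fun x => ∑ g : G, if g • x = x then φ g else 0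
  have hK : ∀ x, K x = K a := by
    intro x
    obtain ⟨c, rfl⟩ := MulAction.exists_smul_eq G a x
    refine (Fintype.sum_equiv (MulAut.conj c).toEquiv _ _ fun g => ?_).symm
    refine if_congr ?_ (hφ c g).symm rfl
    simp [mul_smul]
  have h : ∀ g : G, (fix X g : ℤ) * φ g = ∑ x : X, if g • x = x then φ g else 0 := fun g => by
    rw [← Finset.sum_filter, Finset.sum_const, nsmul_eq_mul, fix, Nat.card_eq_fintype_card,
      Fintype.card_subtype]
    simp
  rw [Finset.sum_congr rfl fun g _ => h g, Finset.sum_comm,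
    Finset.sum_congr rfl fun x _ => hK x, Finset.sum_const, Finset.card_univ, nsmul_eq_mul]
  congr 1
  simp only [K, ← Finset.sum_filter]

theorem fix_embedding (X : Type v) [Fintype X] [MulAction G X] (k : ℕ) (g : G) :
    fix (Fin k ↪ X) g = (fix X g).descFactorial k := by
  classical
  let e : fixedBy (Fin k ↪ X) g ≃ (Fin k ↪ fixedBy X g) :=
    { toFun := fun x => ⟨fun i => ⟨x.1 i, by
        have h := x.2
        rw [mem_fixedBy] at h
        show g • x.1 i = x.1 i
        conv_rhs => rw [← h]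
        rfl⟩, fun i j hij => x.1.injective (congrArg Subtype.val hij)⟩
      invFun := fun y => ⟨y.trans (Function.Embedding.subtype _), by
        rw [mem_fixedBy]
        ext i
        exact (y i).2⟩
      left_inv := fun x => by ext i; rfl
      right_inv := fun y => by ext i; rfl }
  rw [fix, Nat.card_congr e, Nat.card_eq_fintype_card, Fintype.card_embedding_eq, Fintype.card_fin,
    fix, Nat.card_eq_fintype_card]

theorem card_stab_mul {X : Type v} [Fintype X] [MulAction G X] [IsPretransitive G X] (a : X) :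
    Fintype.card X * Nat.card (stabilizer G a) = Nat.card G := by
  rw [← Nat.card_eq_fintype_card, ← index_stabilizer_of_transitive G a, Subgroup.index_mul_card]

theorem card_filter_stab {X : Type v} [MulAction G X] (a : X) :
    (Finset.univ.filter (fun g : G => g • a = a)).card = Nat.card (stabilizer G a) := by
  rw [Nat.card_eq_fintype_card]
  exact (Fintype.card_subtype _).symm

theorem sum_fix {X : Type v} [Fintype X] [MulAction G X] [IsPretransitive G X] (a : X) :
    ∑ g : G, (fix X g : ℤ) = Nat.card G := by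
  have h := sum_fix_mul a (fun _ : G => 1) fun _ _ => rfl
  simp only [mul_one, Finset.sum_const, nsmul_eq_mul] at h
  rw [h, card_filter_stab, ← card_stab_mul (G := G) a]
  push_cast
  ring

/-- The orbit count of a subgroup. -/
theorem sum_fix_subgroup (H : Subgroup G) [Fintype H] (X : Type v) [Fintype X] [MulAction G X] :
    ∑ g : H, fix X (g : G) = Nat.card (orbitRel.Quotient H X) * Nat.card H := by
  classical
  rw [Nat.card_eq_fintype_card, Nat.card_eq_fintype_card,
    ← sum_card_fixedBy_eq_card_orbits_mul_card_group H X]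
  exact Finset.sum_congr rfl fun g _ => (Nat.card_eq_fintype_card).trans
    (Fintype.card_congr (Equiv.refl _))

namespace Ctx

variable [IsSimpleGroup G] {p : ℕ} [Fact p.Prime] (C : Ctx G p)
variable {X : Type v} [Fintype X] [MulAction G X] [IsPretransitive G X] {j : ℕ}
include C

theorem M_mod : ¬ p ∣ C.M := by
  intro h
  have h1 : p ∣ 1 := (Nat.dvd_add_right (dvd_mul_left p C.n)).1 h
  exact (Fact.out : p.Prime).ne_one (Nat.dvd_one.1 h1)

theorem not_dvd_stab (hX : Fintype.card X = j * p) (hjp : j < p) (a : X) :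
    ¬ p ∣ Nat.card (stabilizer G a) := by
  rintro ⟨k, hk⟩
  have h := card_stab_mul (G := G) a
  rw [hX, hk, C.hG'] at h
  have hp : p.Prime := Fact.out
  have h2 : p * (j * k) = 2 * C.M := Nat.eq_of_mul_eq_mul_left hp.pos
    (show p * (p * (j * k)) = p * (2 * C.M) by linarith)
  rcases hp.dvd_mul.1 (⟨_, h2.symm⟩ : p ∣ 2 * C.M) with h3 | h3
  · have := Nat.le_of_dvd two_pos h3; have := C.hp5; omega
  · exact C.M_mod h3

theorem fix_singular (hX : Fintype.card X = j * p) (hjp : j < p) {g : G} (hg : p ∣ orderOf g) :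
    fix X g = 0 := by
  have hempty : fixedBy X g = ∅ := Set.eq_empty_of_forall_notMem fun w hw =>
    C.not_dvd_stab hX hjp w (hg.trans (Subgroup.orderOf_dvd_natCard _ (mem_stabilizer_iff.2 hw)))
  rw [fix, hempty]
  simp

/-- The decomposition of the permutation character. -/
theorem decomp (hX : Fintype.card X = j * p) (hjp : j < p) [Nonempty X] :
    ∃ (m : IrrCharacter G → ℕ) (k : ℕ),
      (∀ θ : IrrCharacter G, classInner (fun g => (fix X g : ℂ)) (θ : G → ℂ) = m θ) ∧
      (∀ g, (fix X g : ℂ) = ∑ θ : IrrCharacter G, (m θ : ℂ) * (θ : G → ℂ) g) ∧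
      m (Blocks.triv G) = 1 ∧ (∀ η ∈ C.D.Y, m η = k) ∧
      1 + (m C.χ : ℤ) * C.a - (k : ℤ) * C.a = 0 ∧
      ∃ rest : Finset (IrrCharacter G),
        (∀ θ, θ ∈ rest ↔ θ ∉ C.D.X ∧ θ ∉ C.D.Y) ∧
        (j * p : ℤ) = 1 + (m C.χ : ℤ) * C.f + (C.D.Y.card : ℤ) * (k * ((C.f : ℤ) + C.a)) +
          ∑ θ ∈ rest, ((m θ * charDegree (θ : G → ℂ) : ℕ) : ℤ) := by
  classical
  have hπc : IsCharacter G (fun g => (fix X g : ℂ)) := Char.pi_isCharacter
  have hm : ∀ θ : IrrCharacter G,
      ∃ m : ℕ, classInner (fun g => (fix X g : ℂ)) (θ : G → ℂ) = m := fun θ =>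
    Char.classInner_isCharacter_eq_natCast hπc (Char.IsIrr.isCharacter θ.2)
  choose m hm using hm
  have hexp : ∀ g, (fix X g : ℂ) = ∑ θ : IrrCharacter G, (m θ : ℂ) * (θ : G → ℂ) g := fun g => by
    have h := congrFun (Char.classFun_expansion (Char.isClassFunction_of_isCharacter hπc)) g
    simpa [Finset.sum_apply, hm] using h
  have hmt : m (Blocks.triv G) = 1 := by
    have h := hm (Blocks.triv G)
    have h2 : classInner (fun g => (fix X g : ℂ)) (fun _ : G => (1 : ℂ)) = 1 := Char.pi_inner_one
    rw [show ((Blocks.triv G : IrrCharacter G) : G → ℂ) = fun _ => 1 from rfl, h2] at h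
    exact_mod_cast h.symm
  obtain ⟨η₀, hη₀⟩ : C.D.Y.Nonempty := Finset.card_pos.1 (by
    rw [C.D.cardY]; have := C.hp5; omega)
  have hY : ∀ η ∈ C.D.Y, m η = m η₀ := by
    intro η hη
    have h : classInner (fun g => (fix X g : ℂ)) (η : G → ℂ) =
        classInner (fun g => (fix X g : ℂ)) (η₀ : G → ℂ) := by
      unfold classInner
      congr 1
      refine Finset.sum_congr rfl fun g _ => ?_
      by_cases hg : p ∣ orderOf g
      · show (fix X g : ℂ) * _ = (fix X g : ℂ) * _
        rw [C.fix_singular hX hjp hg, Nat.cast_zero, zero_mul, zero_mul]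
      · rw [C.D.regY η hη η₀ hη₀ g hg]
    rw [hm, hm] at h
    exact_mod_cast h
  obtain ⟨z, hz, hz1, hzo⟩ := C.exists_z
  have hval : (1 : ℂ) + (m C.χ : ℂ) * C.a - (m η₀ : ℂ) * C.a = 0 := by
    have h := hexp z
    rw [C.fix_singular hX hjp (hzo ▸ dvd_rfl), Nat.cast_zero,
      ← Finset.sum_add_sum_compl (C.D.X ∪ C.D.Y), Finset.sum_union C.D.disj,
      Finset.sum_eq_zero (s := (C.D.X ∪ C.D.Y)ᶜ) (fun θ hθ => by
        rw [Finset.mem_compl, Finset.mem_union, not_or] at hθ
        rw [(C.out hθ.1 hθ.2).1 z hz hz1, mul_zero]),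
      C.sum_X,
      Finset.sum_congr (s₁ := C.D.Y) rfl (g := fun η => (m η₀ : ℂ) * (η : G → ℂ) z) (fun η hη => by
        rw [hY η hη]),
      ← Finset.mul_sum, C.sum_Y_P hz hz1, C.chi_P hz hz1, hmt] at h
    simp [Blocks.triv] at h
    linear_combination -h
  refine ⟨m, m η₀, hm, hexp, hmt, hY, by exact_mod_cast hval, (C.D.X ∪ C.D.Y)ᶜ, fun θ => ?_, ?_⟩
  · rw [Finset.mem_compl, Finset.mem_union, not_or]
  · have h := hexp 1
    rw [fix_one, hX, ← Finset.sum_add_sum_compl (C.D.X ∪ C.D.Y), Finset.sum_union C.D.disj,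
      C.sum_X,
      Finset.sum_congr (s₁ := C.D.Y) rfl (g := fun _ => (m η₀ : ℂ) * ((C.f : ℂ) + C.a))
        (fun η hη => by rw [hY η hη, C.eta_apply hη Brauer.not_dvd_one_order, C.degree_one]),
      Finset.sum_const, C.degree_one, hmt] at h
    simp only [Brauer.degree_cast, nsmul_eq_mul] at h
    simp [Blocks.triv] at h
    apply Int.cast_injective (α := ℂ)
    push_cast
    rw [h, Blocks.charDegree_eq (n := 1) (by simp [Blocks.triv]), Finset.compl_union]
    push_cast
    ring

theorem invol_inverts {x : G} (hx : orderOf x = 2) : ∃ c : G,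
    c * x * c⁻¹ ∈ Subgroup.normalizer (C.P : Set G) ∧ c * x * c⁻¹ ∉ (C.P : Subgroup G) := by
  obtain ⟨y, hy, hyN, hyP, hall, -⟩ := C.exists_key
  obtain ⟨c, hc⟩ := isConj_iff.1 (hall x hx).symm
  exact ⟨c, by rw [hc]; exact hyN, by rw [hc]; exact hyP⟩

theorem orbits_P (hX : Fintype.card X = j * p) (hjp : j < p) :
    Nat.card (orbitRel.Quotient (C.P : Subgroup G) X) = j := by
  classical
  have h := sum_fix_subgroup (C.P : Subgroup G) X
  rw [C.card_P, Finset.sum_eq_single 1 (fun w _ hw => C.fix_singular hX hjp ?_)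
    (fun h => absurd (Finset.mem_univ _) h), OneMemClass.coe_one, fix_one, hX] at h
  · exact (Nat.eq_of_mul_eq_mul_right (Fact.out : p.Prime).pos h).symm
  · rw [Subgroup.orderOf_coe]
    rcases (Nat.dvd_prime Fact.out).1 (C.card_P ▸ orderOf_dvd_natCard w) with h' | h'
    · exact absurd (orderOf_eq_one_iff.1 h') hw
    · rw [h']

theorem fix_invol_le (hX : Fintype.card X = j * p) (hjp : j < p) {x : G} (hx : orderOf x = 2) :
    fix X x ≤ j := by
  classical
  obtain ⟨c, hcN, hcP⟩ := C.invol_inverts hx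
  rw [← fix_conj X c x, fix, ← C.orbits_P hX hjp]
  set y := c * x * c⁻¹
  obtain ⟨-, hinv⟩ := C.dihedral hcN hcP
  refine Nat.card_le_card_of_injective
    (fun a => (Quotient.mk'' a.1 : orbitRel.Quotient (C.P : Subgroup G) X)) fun a b hab => ?_
  obtain ⟨⟨w, hw⟩, hwa⟩ := orbitRel_apply.1 (Quotient.eq''.1 hab)
  change w • b.1 = a.1 at hwa
  refine Subtype.ext ?_
  have ha : y • a.1 = a.1 := a.2
  have hb : y • b.1 = b.1 := b.2
  have h1 : (w * w) • b.1 = b.1 := by
    have h2 : y • (w • b.1) = w⁻¹ • b.1 := by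
      conv_lhs => rw [smul_smul, show y * w = (y * w * y⁻¹) * y by group, hinv w hw, mul_smul, hb]
    rw [hwa, ha, ← hwa, eq_inv_smul_iff, smul_smul] at h2
    exact h2
  have hw1 : w * w = 1 := by
    by_contra hne
    have hd : p ∣ orderOf (w * w) := by
      rcases (Nat.dvd_prime Fact.out).1
        (C.card_P ▸ Subgroup.orderOf_dvd_natCard _ (mul_mem hw hw)) with h' | h'
      · exact absurd (orderOf_eq_one_iff.1 h') hne
      · exact h' ▸ dvd_rfl
    have h0 := C.fix_singular hX hjp hd
    rw [fix, Nat.card_eq_zero] at h0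
    rcases h0 with h0 | h0
    · exact h0.false ⟨b.1, h1⟩
    · exact not_finite (fixedBy X (w * w))
  have hw2 : w = 1 := by
    have hd2 : orderOf w ∣ 2 := orderOf_dvd_of_pow_eq_one (by rw [sq, hw1])
    have hdp : orderOf w ∣ p := C.card_P ▸ Subgroup.orderOf_dvd_natCard _ hw
    exact orderOf_eq_one_iff.1 (Nat.eq_one_of_dvd_coprimes
      ((Nat.coprime_primes Nat.prime_two Fact.out).2 (by have := C.hp5; omega)) hd2 hdp)
  rw [← hwa, hw2, one_smul]

theorem fix_invol (hX : Fintype.card X = 3 * p) {x : G} (hx : orderOf x = 2) :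
    fix X x = if p % 4 = 1 then 3 else 1 := by
  have hle := C.fix_invol_le hX (by have := C.hp5; omega) hx
  have h := TimesPSL.four_dvd_moved C.ncomm (Ω := X) (t := x) (by
    have := pow_orderOf_eq_one x; rwa [hx, sq] at this)
  have h' : fix X x % 4 = 3 * p % 4 := by
    rw [← hX, ← Nat.card_eq_fintype_card]; exact h
  obtain ⟨t, ht⟩ := C.p_odd
  split_ifs <;> omega

theorem four_dvd_card : 4 ∣ Nat.card G := by
  obtain ⟨x, hx⟩ := C.exists_involution
  have h := TimesPSL.four_dvd_moved C.ncomm (Ω := G) (t := x) (by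
    have := pow_orderOf_eq_one x; rwa [hx, sq] at this)
  have h0 : Nat.card {ω : G // x • ω = ω} = 0 := by
    have : IsEmpty {ω : G // x • ω = ω} := ⟨fun w => by
      have := w.2
      rw [smul_eq_mul, mul_eq_right] at this
      rw [this, orderOf_one] at hx
      omega⟩
    exact Nat.card_of_isEmpty
  rw [h0] at h
  exact Nat.dvd_of_mod_eq_zero h.symm

end Ctx

end Cfsg.Agent.Fg24.DegThreeP
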