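import Cfsg.Agent.Fg24.Brauer.DegTwoP
import Cfsg.Agent.SmallOrder.Involution
import Cfsg.Agent.S0840
import Cfsg.Agent.TimesPSL.Transfer
import Cfsg.Agent.Char.Suborbit

/-!
# Simple groups with a self-centralizing Sylow subgroup of prime order and automizer of order two

The principal block data, the moments of the non-exceptional character and the class
multiplication identity used for the groups of degree `3p`.
-/

set_option autoImplicit false
set_option linter.unusedSectionVars false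

open Cfsg
open scoped ComplexConjugate

namespace Cfsg.Agent.Fg24.DegThreeP

open Cfsg.Agent.Fg24.Brauer Cfsg.Agent.BlockThms.OrderP

universe u v

/-- The standing hypotheses with the non-trivial non-exceptional character chosen. -/
structure Ctx (G : Type u) [Group G] [Fintype G] (p : ℕ) [Fact p.Prime] where
  hp5 : 5 ≤ p
  ncomm : ¬ IsMulCommutative G
  P : Sylow p G
  F : Frame P 2
  D : BlockData P 2
  n : ℕ
  hG : Nat.card G = p * 2 * (n * p + 1)
  χ : IrrCharacter G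
  mem_X : ∀ ψ : IrrCharacter G, ψ ∈ D.X ↔ ψ = Blocks.triv G ∨ ψ = χ
  hne : χ ≠ Blocks.triv G

variable {G : Type u} [Group G] [Fintype G] [IsSimpleGroup G] {p : ℕ} [Fact p.Prime]

/-- A non-abelian simple group is perfect. -/
theorem perfect (hnc : ¬ IsMulCommutative G) : commutator G = ⊤ := by
  refine (IsSimpleGroup.eq_bot_or_eq_top_of_normal _ inferInstance).resolve_left fun h => hnc ?_
  rw [commutator_def, Subgroup.commutator_eq_bot_iff_le_centralizer] at h
  exact ⟨⟨fun a b => Subgroup.mem_centralizer_iff.1 (h (Subgroup.mem_top b)) a (Subgroup.mem_top a)⟩⟩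

/-- The hypotheses of the statement give the standing ones. -/
theorem exists_ctx (hnc : ¬ IsMulCommutative G) (hp5 : 5 ≤ p) (hdvd : p ∣ Nat.card G)
    (P : Sylow p G)
    (hN : Nat.card (Subgroup.normalizer (P : Set G)) = 2 * p) : Nonempty (Ctx G p) := by
  classical
  have hp : p.Prime := Fact.out
  have hperf := perfect hnc
  have hPc : Nat.card (P : Subgroup G) = p := by
    obtain ⟨k, hk⟩ := IsPGroup.iff_card.1 P.isPGroup'
    have h1 : p ^ k ∣ 2 * p := by
      rw [← hk, ← hN]; exact Subgroup.card_dvd_of_le Subgroup.le_normalizer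
    have h2 : p ∣ Nat.card (P : Subgroup G) := P.dvd_card_of_dvd_card hdvd
    match k with
    | 0 => rw [hk, pow_zero] at h2; exact absurd h2 hp.not_dvd_one
    | 1 => rw [hk, pow_one]
    | k + 2 =>
      exfalso
      rw [pow_succ] at h1
      have h3 : p ∣ 2 := dvd_trans (dvd_pow_self p k.succ_ne_zero)
        (Nat.dvd_of_mul_dvd_mul_right hp.pos h1)
      have := Nat.le_of_dvd two_pos h3
      omega
  obtain ⟨e, hS, he, hnn⟩ := exists_setup hperf P hPc
  obtain ⟨m, hm⟩ : p ∣ Nat.card (Subgroup.centralizer (P : Set G)) := by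
    have h2 := Subgroup.card_dvd_of_le hS.le_centralizer
    rwa [hPc] at h2
  have hmul : 2 * p = e * Nat.card (Subgroup.centralizer (P : Set G)) := hN.symm.trans hS.card_normalizer
  rw [hm, mul_left_comm, mul_comm 2 p] at hmul
  have hem : 2 = e * m := Nat.eq_of_mul_eq_mul_left hp.pos hmul
  obtain rfl : e = 2 := ((Nat.dvd_prime Nat.prime_two).1 ⟨m, hem⟩).resolve_left (by omega)
  have hcent : Subgroup.centralizer (P : Set G) = (P : Subgroup G) := by
    refine (Subgroup.eq_of_le_of_card_ge hS.le_centralizer ?_).symm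
    rw [hm, show m = 1 by omega, mul_one, hPc]
  obtain ⟨F⟩ := exists_frame hS hcent
  obtain ⟨D⟩ := exists_blockData hS le_rfl
  obtain ⟨n, v, -, -, -, hC, hG, -⟩ := exists_order hS hnn
  rw [hcent, hPc] at hC
  have hv : v = 1 := (Nat.eq_of_mul_eq_mul_left hp.pos (hC.symm.trans (mul_one p).symm))
  obtain ⟨χ, hχ⟩ : (D.X.erase (Blocks.triv G)).Nonempty := Finset.card_pos.1 (by
    rw [Finset.card_erase_of_mem D.triv_mem, D.cardX]; omega)
  obtain ⟨hχt, hχX⟩ := Finset.mem_erase.1 hχ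
  have hX : D.X = {Blocks.triv G, χ} := (Finset.eq_of_subset_of_card_le
    (Finset.insert_subset D.triv_mem (Finset.singleton_subset_iff.2 hχX))
    (by rw [D.cardX, Finset.card_pair hχt.symm])).symm
  exact ⟨⟨hp5, hnc, P, F, D, n, by rw [hG, hv]; ring, χ,
    fun ψ => by rw [hX, Finset.mem_insert, Finset.mem_singleton], hχt⟩⟩

namespace Ctx

variable (C : Ctx G p)

/-- The sign of `χ`. -/
noncomputable def a : ℤ := C.D.a C.χ

/-- The degree of `χ`. -/
noncomputable def f : ℕ := charDegree (C.χ : G → ℂ)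

/-- The number of Sylow subgroups. -/
def M : ℕ := C.n * p + 1

include C

theorem hG' : Nat.card G = p * 2 * C.M := C.hG

theorem perf : commutator G = ⊤ := perfect C.ncomm

theorem χX : C.χ ∈ C.D.X := (C.mem_X _).2 (Or.inr rfl)

theorem a_or : C.a = 1 ∨ C.a = -1 := C.D.a_or _ C.χX

theorem a_sq : C.a * C.a = 1 := by rcases C.a_or with h | h <;> rw [h] <;> norm_num

theorem p_odd : ∃ t, p = 2 * t + 1 := by
  have := C.hp5
  obtain ⟨t, ht⟩ := (Fact.out : p.Prime).odd_of_ne_two (by omega)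
  exact ⟨t, ht⟩

theorem card_P : Nat.card (C.P : Subgroup G) = p := C.F.setup.card

theorem card_normalizer : Nat.card (Subgroup.normalizer (C.P : Set G)) = 2 * p :=
  C.F.card_normalizer

theorem exists_z : ∃ z ∈ (C.P : Subgroup G), z ≠ 1 ∧ orderOf z = p := C.F.setup.exists_gen

theorem degree_one : (C.χ : G → ℂ) 1 = (C.f : ℂ) := degree_cast C.χ

theorem f_ge_two : 2 ≤ C.f := by
  by_contra h
  have h1 : C.f = 1 := by
    have : 0 < C.f := Blocks.charDegree_pos C.χ.2
    omega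
  exact C.hne (eq_triv_of_degree_one C.perf (by rw [C.degree_one, h1, Nat.cast_one]))

open scoped Classical in
theorem sum_X {M : Type*} [AddCommMonoid M] (φ : IrrCharacter G → M) :
    ∑ ψ ∈ C.D.X, φ ψ = φ (Blocks.triv G) + φ C.χ := by
  rw [show C.D.X = {Blocks.triv G, C.χ} from Finset.ext fun ψ => by
    rw [C.mem_X, Finset.mem_insert, Finset.mem_singleton], Finset.sum_pair C.hne.symm]

theorem rel' {η : IrrCharacter G} (hη : η ∈ C.D.Y) {g : G} (hg : ¬ p ∣ orderOf g) :
    (C.D.s : ℂ) * (η : G → ℂ) g + (1 + (C.a : ℂ) * (C.χ : G → ℂ) g) = 0 := by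
  have h := C.D.rel η hη g hg
  rw [C.sum_X, C.D.a_triv] at h
  simpa [Blocks.triv, a] using h

theorem s_eq : C.D.s = -C.a := by
  obtain ⟨η, hη⟩ : C.D.Y.Nonempty := Finset.card_pos.1 (by
    rw [C.D.cardY]; have := C.hp5; omega)
  have h := C.rel' hη not_dvd_one_order
  rw [degree_cast η, C.degree_one] at h
  have h' : C.D.s * (charDegree (η : G → ℂ) : ℤ) + (1 + C.a * (C.f : ℤ)) = 0 := by exact_mod_cast h
  have hy : 0 < charDegree (η : G → ℂ) := Blocks.charDegree_pos η.2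
  have hf := C.f_ge_two
  rcases C.a_or with ha | ha <;> rcases C.D.s_or with hs | hs <;> rw [ha, hs] at h' ⊢ <;> omega

theorem eta_apply {η : IrrCharacter G} (hη : η ∈ C.D.Y) {g : G} (hg : ¬ p ∣ orderOf g) :
    (η : G → ℂ) g = (C.χ : G → ℂ) g + C.a := by
  have h := C.rel' hη hg
  rw [C.s_eq] at h
  have h2 : (C.a : ℂ) * C.a = 1 := by exact_mod_cast C.a_sq
  push_cast at h
  linear_combination (-(C.a : ℂ)) * h - ((η : G → ℂ) g - (C.χ : G → ℂ) g) * h2

theorem eta_degree {η : IrrCharacter G} (hη : η ∈ C.D.Y) :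
    (charDegree (η : G → ℂ) : ℤ) = C.f + C.a := by
  have h := C.eta_apply hη not_dvd_one_order
  rw [degree_cast η, C.degree_one] at h
  exact_mod_cast h

theorem f_mod : (p : ℤ) ∣ (C.f : ℤ) - C.a := Int.modEq_iff_dvd.1 (C.D.degX _ C.χX).symm

theorem f_bound : C.a = -1 → ∃ u, 0 < u ∧ C.f + 1 = u * p := by
  intro ha
  have h := C.f_mod
  rw [ha, sub_neg_eq_add] at h
  obtain ⟨u, hu⟩ : p ∣ C.f + 1 := Int.natCast_dvd_natCast.1 (by exact_mod_cast h)
  refine ⟨u, Nat.pos_of_ne_zero fun h0 => ?_, hu.trans (mul_comm _ _)⟩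
  rw [h0, mul_zero] at hu
  omega

theorem not_dvd_f : ¬ (p : ℤ) ∣ (C.f : ℤ) := by
  intro h
  have h1 : (p : ℤ) ∣ C.a := by
    have := dvd_sub h C.f_mod
    rwa [sub_sub_cancel] at this
  have h2 : (p : ℤ) ∣ 1 := by rw [← C.a_sq]; exact dvd_mul_of_dvd_left h1 _
  have := Int.le_of_dvd one_pos h2
  have := C.hp5
  omega

theorem not_dvd_h : ¬ (p : ℤ) ∣ (C.f : ℤ) + C.a := by
  intro h
  have h1 : (p : ℤ) ∣ 2 * C.a := by
    have := dvd_sub h C.f_mod
    rwa [show (C.f : ℤ) + C.a - (C.f - C.a) = 2 * C.a by ring] at this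
  have h2 : (p : ℤ) ∣ 2 := by
    have := dvd_mul_of_dvd_left h1 C.a
    rwa [mul_assoc, C.a_sq, mul_one] at this
  have := Int.le_of_dvd two_pos h2
  have := C.hp5
  omega

theorem singular {g : G} (hg : p ∣ orderOf g) :
    ∃ z ∈ (C.P : Subgroup G), z ≠ 1 ∧ ∃ c, c * g * c⁻¹ = z := by
  have hp : p.Prime := Fact.out
  obtain ⟨j, hj⟩ := hg
  have hgo : orderOf (g ^ j) = p := by
    rw [orderOf_pow_of_dvd ?_ (hj ▸ dvd_mul_left j p), hj, Nat.mul_div_cancel _ ?_]
    · exact Nat.pos_of_ne_zero fun h => by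
        rw [h, mul_zero] at hj; exact (orderOf_pos g).ne' hj
    · exact fun h => by rw [h, mul_zero] at hj; exact (orderOf_pos g).ne' hj
  obtain ⟨c, hc⟩ := exists_conj_mem C.P ⟨1, by rw [hgo, pow_one]⟩
  have hx1 : c * g ^ j * c⁻¹ ≠ 1 := fun h => by
    rw [conj_eq_one_iff] at h
    rw [h, orderOf_one] at hgo
    exact hp.one_lt.ne hgo
  refine ⟨c * g * c⁻¹, C.F.mem_of_commute hc hx1 ?_, fun h => hx1 ?_, c, rfl⟩
  · rw [← conj_pow]
    exact ((Commute.refl _).pow_right j).eq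
  · rw [← conj_pow, h, one_pow]

theorem orderOf_singular {g : G} (hg : p ∣ orderOf g) : orderOf g = p := by
  obtain ⟨z, hz, hz1, c, hc⟩ := C.singular hg
  have h1 : orderOf z ∣ p := C.card_P ▸ Subgroup.orderOf_dvd_natCard _ hz
  rw [← hc, Blocks.orderOf_conj'] at h1
  exact Nat.dvd_antisymm h1 hg

open scoped Classical in
/-- The elements of order prime to `p`. -/
noncomputable def R (_C : Ctx G p) : Finset G :=
  Finset.univ.filter fun g : G => ¬ p ∣ orderOf g

theorem mem_R {g : G} : g ∈ C.R ↔ ¬ p ∣ orderOf g := by simp [R]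

theorem one_mem_R : (1 : G) ∈ C.R := C.mem_R.2 not_dvd_one_order

open scoped Classical in
theorem sum_split {φ : G → ℂ} (hφ : IsClassFunction G φ) {c : ℂ}
    (hc : ∀ z ∈ (C.P : Subgroup G), z ≠ 1 → φ z = c) :
    ∑ g, φ g = ∑ g ∈ C.R, φ g + (C.M : ℂ) * (((p : ℂ) - 1) * c) := by
  classical
  rw [C.F.sum_eq C.hG hφ, ← Finset.add_sum_erase _ _ (Finset.mem_univ (1 : (C.P : Subgroup G))),
    Finset.sum_congr rfl (g := fun _ => c) (fun (w : (C.P : Subgroup G)) hw => hc w w.2 fun h =>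
      Finset.ne_of_mem_erase hw (Subtype.ext h)),
    Finset.sum_const, Finset.card_erase_of_mem (Finset.mem_univ _), Finset.card_univ,
    ← Nat.card_eq_fintype_card, C.card_P, nsmul_eq_mul, Nat.cast_sub (Fact.out : p.Prime).pos,
    OneMemClass.coe_one, Nat.cast_one]
  simp only [R, M]
  push_cast
  ring

theorem sum_singular_zero {φ : G → ℂ} (hφ : ∀ g, p ∣ orderOf g → φ g = 0) :
    ∑ g, φ g = ∑ g ∈ C.R, φ g :=
  (Finset.sum_subset (Finset.subset_univ _) fun g _ hg =>
    hφ g (by simpa [C.mem_R] using hg)).symm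

theorem out {θ : IrrCharacter G} (hX : θ ∉ C.D.X) (hY : θ ∉ C.D.Y) :
    (∀ z ∈ (C.P : Subgroup G), z ≠ 1 → (θ : G → ℂ) z = 0) ∧ p ∣ charDegree (θ : G → ℂ) := by
  classical
  have hz : ∀ z ∈ (C.P : Subgroup G), z ≠ 1 → (θ : G → ℂ) z = 0 := fun z hz hz1 => by
    rw [← C.F.avg_eq hz hz1 (θ : G → ℂ)]
    exact C.D.out θ hX hY z hz hz1
  refine ⟨hz, ?_⟩
  have : NeZero (2 : ℕ) := ⟨two_ne_zero⟩
  have h := C.F.sum_mu_eq θ
  rw [Finset.sum_eq_single 1 (fun (w : (C.P : Subgroup G)) _ hw1 =>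
        hz w w.2 fun h => hw1 (Subtype.ext h))
      (fun h => absurd (Finset.mem_univ _) h), OneMemClass.coe_one, degree_cast] at h
  exact ⟨_, (by exact_mod_cast h.symm : charDegree (θ : G → ℂ) = p * _)⟩

theorem chi_P {z : G} (hz : z ∈ (C.P : Subgroup G)) (hz1 : z ≠ 1) :
    (C.χ : G → ℂ) z = C.a := C.D.val_P C.χX hz hz1

theorem sum_Y_P {z : G} (hz : z ∈ (C.P : Subgroup G)) (hz1 : z ≠ 1) :
    ∑ η ∈ C.D.Y, (η : G → ℂ) z = -(C.a : ℂ) := by
  classical
  have hval : ∀ η ∈ C.D.Y, (η : G → ℂ) 1 = (C.f : ℂ) + C.a := fun η hη => by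
    rw [C.eta_apply hη not_dvd_one_order, C.degree_one]
  have h := Char.second_orthogonality z 1
  rw [if_neg (fun h => hz1 (isConj_one_right.1 h.symm)),
    ← Finset.sum_add_sum_compl (C.D.X ∪ C.D.Y), Finset.sum_union C.D.disj,
    Finset.sum_eq_zero (s := (C.D.X ∪ C.D.Y)ᶜ) (fun θ hθ => by
      rw [Finset.mem_compl, Finset.mem_union, not_or] at hθ
      rw [(C.out hθ.1 hθ.2).1 z hz hz1, zero_mul]),
    C.sum_X,
    Finset.sum_congr (s₁ := C.D.Y) rfl (g := fun η => (η : G → ℂ) z * ((C.f : ℂ) + C.a))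
      (fun η hη => by rw [hval η hη, map_add, Complex.conj_natCast, map_intCast]),
    ← Finset.sum_mul, C.chi_P hz hz1, C.degree_one] at h
  simp [Blocks.triv] at h
  have hne : (C.f : ℂ) + C.a ≠ 0 := fun h0 => C.not_dvd_h (by
    rw [show (C.f : ℤ) + C.a = 0 by exact_mod_cast h0]; exact dvd_zero _)
  have h2 : (C.a : ℂ) * C.a = 1 := by exact_mod_cast C.a_sq
  have h3 : (∑ η ∈ C.D.Y, (η : G → ℂ) z + (C.a : ℂ)) * ((C.f : ℂ) + C.a) = 0 := by
    linear_combination h + h2
  exact eq_neg_of_add_eq_zero_left ((mul_eq_zero.1 h3).resolve_right hne)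

theorem degree_unique {θ : IrrCharacter G} (hθ : charDegree (θ : G → ℂ) = C.f) : θ = C.χ := by
  by_contra hne
  by_cases hX : θ ∈ C.D.X
  · rcases (C.mem_X θ).1 hX with h | h
    · rw [h, Blocks.charDegree_eq (n := 1) (by simp [Blocks.triv])] at hθ
      have := C.f_ge_two
      omega
    · exact hne h
  by_cases hY : θ ∈ C.D.Y
  · have h := C.eta_degree hY
    rw [hθ] at h
    rcases C.a_or with ha | ha <;> omega
  · obtain ⟨-, h⟩ := C.out hX hY
    rw [hθ] at h
    exact C.not_dvd_f (by exact_mod_cast h)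

theorem exists_v (g : G) : ∃ k : ℤ, (C.χ : G → ℂ) g = k := by
  obtain ⟨q, hq⟩ := Char.IsChar.exists_rat (Char.IsIrr.isCharacter C.χ.2) g fun k hk => by
    have hd : charDegree (fun g : G => (C.χ : G → ℂ) (g ^ k)) = C.f :=
      Blocks.charDegree_eq (by rw [one_pow, C.degree_one])
    exact congrFun (congrArg Subtype.val
      (C.degree_unique (θ := ⟨_, Char.isIrr_comp_pow k hk C.χ.2⟩) hd)) g
  obtain ⟨k, hk⟩ := Char.exists_int_of_isIntegral_rat
    (q := q) (hq ▸ Char.IsChar.isIntegral (Char.IsIrr.isCharacter C.χ.2) g)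
  exact ⟨k, by rw [hq, ← hk]; norm_cast⟩

/-- The values of `χ`. -/
noncomputable def val (g : G) : ℤ := (C.exists_v g).choose

theorem val_spec (g : G) : (C.χ : G → ℂ) g = (C.val g : ℂ) := (C.exists_v g).choose_spec

theorem val_one : C.val 1 = C.f := by
  have h := C.val_spec 1
  rw [C.degree_one] at h
  exact_mod_cast h.symm

theorem val_conj (c g : G) : C.val (c * g * c⁻¹) = C.val g := by
  have h := Char.isClassFunction_of_isIrr C.χ.2 g c
  rw [C.val_spec, C.val_spec] at h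
  exact_mod_cast h

theorem val_isConj {g g' : G} (h : IsConj g g') : C.val g' = C.val g := by
  obtain ⟨c, rfl⟩ := isConj_iff.1 h
  exact C.val_conj c g

theorem val_le (g : G) : C.val g ≤ C.f := by
  have h := (Complex.re_le_norm _).trans (Char.IsChar.norm_le (Char.IsIrr.isCharacter C.χ.2) g)
  rw [C.val_spec, C.degree_one, Complex.intCast_re, Complex.natCast_re] at h
  exact_mod_cast h

theorem eq_one_of_val {g : G} (h : C.val g = C.f) : g = 1 := by
  set W := Char.kerSubgroup (Char.IsIrr.isCharacter C.χ.2) with hW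
  have hWn : W.Normal := ⟨fun w hw k => by
    rw [hW, Char.mem_kerSubgroup] at hw ⊢
    rw [Char.isClassFunction_of_isIrr C.χ.2]
    exact hw⟩
  have hgW : g ∈ W := by
    rw [hW, Char.mem_kerSubgroup, C.val_spec, h, C.degree_one, Int.cast_natCast]
  rcases hWn.eq_bot_or_eq_top with h' | h'
  · rwa [h', Subgroup.mem_bot] at hgW
  · exfalso
    obtain ⟨z, hz, hz1, -⟩ := C.exists_z
    have h1 : z ∈ W := h' ▸ Subgroup.mem_top z
    rw [hW, Char.mem_kerSubgroup, C.chi_P hz hz1, C.degree_one] at h1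
    have h2 : C.a = (C.f : ℤ) := by exact_mod_cast h1
    have := C.f_ge_two
    rcases C.a_or with ha | ha <;> omega

theorem val_lt {g : G} (h : g ≠ 1) : C.val g < C.f :=
  lt_of_le_of_ne (C.val_le g) fun e => h (C.eq_one_of_val e)

/-- The number of regular elements. -/
theorem card_R : (C.R.card : ℤ) = C.M * ((p : ℤ) + 1) := by
  have h := C.sum_split (φ := fun _ => (1 : ℂ)) (fun _ _ => rfl) (c := 1) (fun _ _ _ => rfl)
  simp only [Finset.sum_const, nsmul_eq_mul, mul_one, Finset.card_univ] at h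
  rw [← Nat.card_eq_fintype_card, C.hG'] at h
  push_cast at h
  have h3 : (C.R.card : ℂ) = ((C.M * ((p : ℤ) + 1) : ℤ) : ℂ) := by
    push_cast
    linear_combination -h
  exact_mod_cast h3

theorem sum_R_val : ∑ g ∈ C.R, C.val g = -C.a * (C.M * ((p : ℤ) - 1)) := by
  have h := C.sum_split (Char.isClassFunction_of_isIrr C.χ.2) (c := (C.a : ℂ))
    fun z hz hz1 => C.chi_P hz hz1
  have h2 : classInner (C.χ : G → ℂ) (Blocks.triv G : G → ℂ) = 0 :=
    Char.classInner_irr_ne C.χ.2 (Blocks.triv G).2 fun h => C.hne (Subtype.ext h)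
  simp only [classInner, Blocks.triv, map_one, mul_one, mul_eq_zero, inv_eq_zero,
    Char.card_ne_zero, false_or] at h2
  rw [h2] at h
  have h3 : ((∑ g ∈ C.R, C.val g : ℤ) : ℂ) = ((-C.a * (C.M * ((p : ℤ) - 1)) : ℤ) : ℂ) := by
    push_cast
    simp only [← C.val_spec]
    linear_combination -h
  exact_mod_cast h3

theorem sum_R_sq : ∑ g ∈ C.R, C.val g ^ 2 = C.M * ((p : ℤ) + 1) := by
  have hcf := Char.isClassFunction_of_isIrr C.χ.2
  have h := C.sum_split (φ := fun g => (C.χ : G → ℂ) g ^ 2)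
    (fun g k => by simp only [hcf g k]) (c := 1) fun z hz hz1 => by
      rw [C.chi_P hz hz1, sq]; exact_mod_cast C.a_sq
  have h2 := Char.classInner_irr_self C.χ.2
  simp only [classInner, C.val_spec, map_intCast] at h2
  rw [inv_mul_eq_iff_eq_mul₀ Char.card_ne_zero, mul_one] at h2
  have h3 : ((∑ g ∈ C.R, C.val g ^ 2 : ℤ) : ℂ) = ((C.M * ((p : ℤ) + 1) : ℤ) : ℂ) := by
    push_cast
    simp only [C.val_spec, sq] at h ⊢
    rw [h2, C.hG'] at h
    push_cast at h
    linear_combination -h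
  exact_mod_cast h3

/-- The order of the centralizer. -/
noncomputable def cz (_C : Ctx G p) (g : G) : ℕ := Nat.card (Subgroup.centralizer ({g} : Set G))

theorem cz_pos (g : G) : 0 < C.cz g := Nat.card_pos

theorem cz_dvd (g : G) : C.cz g ∣ Nat.card G := Subgroup.card_subgroup_dvd_card _

theorem card_class (g : G) : Nat.card {x : G // IsConj g x} * C.cz g = Nat.card G := by
  rw [Char.card_isConj_eq_index, cz, Subgroup.index_mul_card]

theorem cz_isConj {g g' : G} (h : IsConj g g') : C.cz g' = C.cz g := by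
  have h1 := C.card_class g
  have h2 := C.card_class g'
  have h3 : Nat.card {x : G // IsConj g' x} = Nat.card {x : G // IsConj g x} :=
    Nat.card_congr (Equiv.subtypeEquivRight fun x => ⟨h.trans, h.symm.trans⟩)
  rw [h3, ← h1] at h2
  exact Nat.eq_of_mul_eq_mul_left (Nat.pos_of_ne_zero fun h0 => by
    rw [h0, zero_mul] at h1; exact Nat.card_pos.ne h1) h2

theorem not_dvd_cz {g : G} (hg : ¬ p ∣ orderOf g) (hg1 : g ≠ 1) : ¬ p ∣ C.cz g := by
  intro h
  obtain ⟨w, hw⟩ := exists_prime_orderOf_dvd_card'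
    (G := Subgroup.centralizer ({g} : Set G)) p h
  rw [← Subgroup.orderOf_coe] at hw
  obtain ⟨z, hz, hz1, c, hc⟩ := C.singular (g := (w : G)) (by rw [hw])
  have hmem : c * g * c⁻¹ ∈ (C.P : Subgroup G) := by
    refine C.F.mem_of_commute hz hz1 ?_
    rw [← hc]
    have := Subgroup.mem_centralizer_singleton_iff.1 w.2
    calc c * g * c⁻¹ * (c * w * c⁻¹) = c * (g * w) * c⁻¹ := by group
      _ = c * (w * g) * c⁻¹ := by rw [this]
      _ = _ := by group
  have hd : orderOf (c * g * c⁻¹) ∣ p := C.card_P ▸ Subgroup.orderOf_dvd_natCard _ hmem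
  rw [Blocks.orderOf_conj'] at hd
  rcases (Nat.dvd_prime Fact.out).1 hd with h' | h'
  · exact hg1 (orderOf_eq_one_iff.1 h')
  · exact hg (h' ▸ dvd_rfl)

/-- The class multiplication identity against an element of `P`. -/
theorem count_eq {g g' z : G} (hg : ¬ p ∣ orderOf g) (hg' : ¬ p ∣ orderOf g')
    (hz : z ∈ (C.P : Subgroup G)) (hz1 : z ≠ 1) :
    (Nat.card {q : G × G // IsConj g q.1 ∧ IsConj g' q.2 ∧ q.1 * q.2 = z} : ℤ) * C.cz g * C.cz g' *
        (C.f * (C.f + C.a)) =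
      Nat.card G * ((C.f - C.val g) * (C.f - C.val g')) := by
  classical
  have h := S0840.result g g' z
  rw [finsum_eq_sum_of_fintype, ← Finset.sum_add_sum_compl (C.D.X ∪ C.D.Y),
    Finset.sum_union C.D.disj,
    Finset.sum_eq_zero (s := (C.D.X ∪ C.D.Y)ᶜ) (fun θ hθ => by
      rw [Finset.mem_compl, Finset.mem_union, not_or] at hθ
      rw [(C.out hθ.1 hθ.2).1 z hz hz1, map_zero, mul_zero, zero_div]),
    C.sum_X,
    Finset.sum_congr (s₁ := C.D.Y) rfl (g := fun η => ((C.val g : ℂ) + C.a) *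
      ((C.val g' : ℂ) + C.a) / ((C.f : ℂ) + C.a) * conj ((η : G → ℂ) z)) (fun η hη => by
        rw [C.eta_apply hη hg, C.eta_apply hη hg', C.eta_apply hη not_dvd_one_order,
          C.degree_one, C.val_spec, C.val_spec]
        ring),
    ← Finset.mul_sum, ← map_sum, C.sum_Y_P hz hz1, C.chi_P hz hz1, C.degree_one,
    C.val_spec, C.val_spec] at h
  simp only [Blocks.triv, map_one, mul_one, div_one, add_zero, map_neg, map_intCast] at h
  have hfa : (C.f : ℂ) + C.a ≠ 0 := fun h0 => C.not_dvd_h (by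
    rw [show (C.f : ℤ) + C.a = 0 by exact_mod_cast h0]; exact dvd_zero _)
  have hf : (C.f : ℂ) ≠ 0 := Nat.cast_ne_zero.2 (by have := C.f_ge_two; omega)
  have h2 : (C.a : ℂ) * C.a = 1 := by exact_mod_cast C.a_sq
  have hG0 : (Nat.card G : ℂ) ≠ 0 := Char.card_ne_zero
  have e1 : (Nat.card {x : G // IsConj g x} : ℂ) * C.cz g = Nat.card G := by
    exact_mod_cast C.card_class g
  have e2 : (Nat.card {x : G // IsConj g' x} : ℂ) * C.cz g' = Nat.card G := by
    exact_mod_cast C.card_class g'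
  set N := Nat.card {q : G × G // IsConj g q.1 ∧ IsConj g' q.2 ∧ q.1 * q.2 = z}
  set V : ℂ := (C.val g : ℂ) with hV
  set V' : ℂ := (C.val g' : ℂ) with hV'
  have h3 : ((N : ℂ) * C.cz g * C.cz g') * ((C.f : ℂ) * ((C.f : ℂ) + C.a)) =
      (Nat.card G : ℂ) * (((C.f : ℂ) - V) * ((C.f : ℂ) - V')) := by
    rw [h]
    field_simp
    linear_combination
      ((C.f : ℂ) * ((C.f : ℂ) + C.a) + C.a * V * V' * ((C.f : ℂ) + C.a) -
        C.a * (V + C.a) * (V' + C.a) * C.f) *
        ((Nat.card {x : G // IsConj g' x} : ℂ) * C.cz g' * e1 + (Nat.card G : ℂ) * e2) +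
      (Nat.card G : ℂ) ^ 2 * (V * V' - C.f * V - C.f * V' - C.f * C.a) * h2
  rw [hV, hV'] at h3
  exact_mod_cast h3

theorem dihedral {w : G} (hw : w ∈ Subgroup.normalizer (C.P : Set G))
    (hwP : w ∉ (C.P : Subgroup G)) :
    orderOf w = 2 ∧ ∀ x ∈ (C.P : Subgroup G), w * x * w⁻¹ = x⁻¹ :=
  SmallOrder.dihedral_normalizer (by have := C.hp5; omega) C.card_P
    (by rw [show Subgroup.centralizer ((C.P : Subgroup G) : Set G) = (C.P : Subgroup G) from C.F.cent,
      C.card_P]) C.card_normalizer hw hwP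

theorem outer_conj {w w' : G} (hw : w ∈ Subgroup.normalizer (C.P : Set G))
    (hwP : w ∉ (C.P : Subgroup G)) (hw' : w' ∈ Subgroup.normalizer (C.P : Set G))
    (hwP' : w' ∉ (C.P : Subgroup G)) : IsConj w w' := by
  have : NeZero (2 : ℕ) := ⟨two_ne_zero⟩
  have hk : ∀ a : ZMod 2, a ≠ 0 → a = 1 := by decide
  have hyP : C.F.y ∉ (C.P : Subgroup G) := fun h => by
    have := (C.F.κ_eq_zero _ C.F.y_mem).2 h
    rw [C.F.κ_y] at this
    exact one_ne_zero this
  have key : ∀ u ∈ Subgroup.normalizer (C.P : Set G), u ∉ (C.P : Subgroup G) → IsConj C.F.y u := by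
    intro u hu huP
    have h1 := hk _ (fun h => huP ((C.F.κ_eq_zero u hu).1 h))
    have h2 : u * C.F.y⁻¹ ∈ (C.P : Subgroup G) := by
      have := C.F.dec u hu
      rwa [h1, show (1 : ZMod 2).val = 1 from rfl, pow_one] at this
    obtain ⟨x, -, hx⟩ := C.F.exists_conj C.F.y_mem hyP h2
    rw [inv_mul_cancel_right] at hx
    exact isConj_iff.2 ⟨x, hx⟩
  exact (key w hw hwP).symm.trans (key w' hw' hwP')

theorem not_dvd_invol {x : G} (hx : orderOf x = 2) : ¬ p ∣ orderOf x := by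
  rw [hx]
  intro h
  have := Nat.le_of_dvd two_pos h
  have := C.hp5
  omega

/-- An involution inverting `P`, and the basic identity. -/
theorem exists_key : ∃ y : G, orderOf y = 2 ∧ y ∈ Subgroup.normalizer (C.P : Set G) ∧
    y ∉ (C.P : Subgroup G) ∧
    (∀ x : G, orderOf x = 2 → IsConj y x) ∧
    (Nat.card G : ℤ) * (C.f - C.val y) ^ 2 = p * (C.cz y) ^ 2 * (C.f * (C.f + C.a)) := by
  classical
  obtain ⟨z, hz, hz1, hzo⟩ := C.exists_z
  set N := Subgroup.normalizer (C.P : Set G) with hNdef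
  obtain ⟨y, hyN, hyP⟩ : ∃ y ∈ N, y ∉ (C.P : Subgroup G) := by
    by_contra! hall
    have h := Subgroup.card_dvd_of_le (show N ≤ (C.P : Subgroup G) from hall)
    rw [hNdef, C.card_normalizer, C.card_P] at h
    have := Nat.le_of_dvd (Fact.out : p.Prime).pos h
    have := C.hp5
    omega
  have hy2 := (C.dihedral hyN hyP).1
  have hout : ∀ a b : G, orderOf a = 2 → orderOf b = 2 → a * b = z →
      (a ∈ N ∧ a ∉ (C.P : Subgroup G)) ∧ b ∈ N ∧ b ∉ (C.P : Subgroup G) := by
    intro a b ha hb hab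
    have hai : a⁻¹ = a := inv_eq_of_mul_eq_one_right (by
      have := pow_orderOf_eq_one a; rwa [ha, sq] at this)
    have hbi : b⁻¹ = b := inv_eq_of_mul_eq_one_right (by
      have := pow_orderOf_eq_one b; rwa [hb, sq] at this)
    have hzz : a⁻¹ * z * a⁻¹⁻¹ = z⁻¹ := by
      rw [← hab, mul_inv_rev, hbi, ← mul_assoc a⁻¹, inv_mul_cancel, one_mul, inv_inv, hai]
    have haN : a ∈ N := by
      have h1 : a⁻¹ ∈ N := C.F.setup.mem_normalizer hz hz1 (by rw [inv_inv, hai]; rw [inv_inv, hai] at hzz; rw [hzz]; exact inv_mem hz)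
      exact inv_mem_iff.1 h1
    have haP : a ∉ (C.P : Subgroup G) := fun h => C.not_dvd_invol ha (by
      rcases (Nat.dvd_prime Fact.out).1 (C.card_P ▸ Subgroup.orderOf_dvd_natCard _ h) with h' | h'
      · omega
      · exact h' ▸ dvd_rfl)
    have hbN : b ∈ N := by
      rw [show b = a⁻¹ * z by rw [← hab]; group]
      exact mul_mem (inv_mem haN) (Subgroup.le_normalizer hz)
    exact ⟨⟨haN, haP⟩, hbN, fun h => C.not_dvd_invol hb (by
      rcases (Nat.dvd_prime Fact.out).1 (C.card_P ▸ Subgroup.orderOf_dvd_natCard _ h) with h' | h'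
      · omega
      · exact h' ▸ dvd_rfl)⟩
  have hord : ∀ {x c : G}, IsConj x c → orderOf x = 2 → orderOf c = 2 := fun {x c} h hx => by
    obtain ⟨w, rfl⟩ := isConj_iff.1 h
    rwa [Blocks.orderOf_conj']
  have hcard : Nat.card {q : G × G // IsConj y q.1 ∧ IsConj y q.2 ∧ q.1 * q.2 = z} = p := by
    have e : {q : G × G // IsConj y q.1 ∧ IsConj y q.2 ∧ q.1 * q.2 = z} ≃
        {a : G // a ∈ N ∧ a ∉ (C.P : Subgroup G)} :=
      { toFun := fun q => ⟨q.1.1, (hout _ _ (hord q.2.1 hy2) (hord q.2.2.1 hy2) q.2.2.2).1⟩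
        invFun := fun a => ⟨(a.1, a.1⁻¹ * z), C.outer_conj hyN hyP a.2.1 a.2.2, by
          refine C.outer_conj hyN hyP (mul_mem (inv_mem a.2.1) (Subgroup.le_normalizer hz)) fun h => ?_
          have := mul_mem h (inv_mem hz)
          rw [mul_inv_cancel_right] at this
          exact a.2.2 (inv_mem_iff.1 this), by group⟩
        left_inv := fun q => Subtype.ext (Prod.ext rfl (by
          show q.1.1⁻¹ * z = q.1.2
          exact inv_mul_eq_of_eq_mul q.2.2.2.symm))
        right_inv := fun a => rfl }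
    rw [Nat.card_congr e, Nat.card_eq_fintype_card, Fintype.card_subtype]
    have h1 : (Finset.univ.filter fun a : G => a ∈ N ∧ a ∉ (C.P : Subgroup G)) =
        Finset.univ.filter (· ∈ N) \ Finset.univ.filter (· ∈ (C.P : Subgroup G)) := by
      ext a; simp
    have hN' : (Finset.univ.filter (· ∈ N)).card = 2 * p := by
      rw [← Fintype.card_subtype, ← Nat.card_eq_fintype_card]; exact C.card_normalizer
    have hP' : (Finset.univ.filter (· ∈ (C.P : Subgroup G))).card = p := by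
      rw [← Fintype.card_subtype, ← Nat.card_eq_fintype_card]; exact C.card_P
    have hsub : Finset.univ.filter (· ∈ (C.P : Subgroup G)) ⊆ Finset.univ.filter (· ∈ N) := by
      intro a ha
      rw [Finset.mem_filter] at ha ⊢
      exact ⟨ha.1, Subgroup.le_normalizer ha.2⟩
    rw [h1, Finset.card_sdiff_of_subset hsub, hN', hP']
    omega
  have hid := C.count_eq (C.not_dvd_invol hy2) (C.not_dvd_invol hy2) hz hz1
  rw [hcard] at hid
  have hid' : (Nat.card G : ℤ) * (C.f - C.val y) ^ 2 = p * (C.cz y) ^ 2 * (C.f * (C.f + C.a)) := by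
    linear_combination -hid
  refine ⟨y, hy2, hyN, hyP, fun x hx => ?_, hid'⟩
  by_contra hne
  have h0 : Nat.card {q : G × G // IsConj y q.1 ∧ IsConj x q.2 ∧ q.1 * q.2 = z} = 0 := by
    have : IsEmpty {q : G × G // IsConj y q.1 ∧ IsConj x q.2 ∧ q.1 * q.2 = z} := ⟨fun q => by
      obtain ⟨-, hb⟩ := hout _ _ (hord q.2.1 hy2) (hord q.2.2.1 hx) q.2.2.2
      exact hne ((C.outer_conj hyN hyP hb.1 hb.2).trans q.2.2.1.symm)⟩
    exact Nat.card_of_isEmpty
  have h := C.count_eq (C.not_dvd_invol hy2) (C.not_dvd_invol hx) hz hz1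
  rw [h0, Nat.cast_zero, zero_mul, zero_mul, zero_mul, eq_comm, mul_eq_zero] at h
  have hy1 : y ≠ 1 := fun e => by rw [e, orderOf_one] at hy2; omega
  have hx1 : x ≠ 1 := fun e => by rw [e, orderOf_one] at hx; omega
  rcases h with h | h
  · exact Nat.card_pos.ne' (by exact_mod_cast h : Nat.card G = 0)
  · rcases mul_eq_zero.1 h with h | h
    · have := C.val_lt hy1; omega
    · have := C.val_lt hx1; omega

theorem invol_conj {x x' : G} (hx : orderOf x = 2) (hx' : orderOf x' = 2) : IsConj x x' := by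
  obtain ⟨y, -, -, -, h, -⟩ := C.exists_key
  exact (h x hx).symm.trans (h x' hx')

theorem key {y : G} (hy : orderOf y = 2) :
    (Nat.card G : ℤ) * (C.f - C.val y) ^ 2 = p * (C.cz y) ^ 2 * (C.f * (C.f + C.a)) := by
  obtain ⟨y₀, hy₀, -, -, -, h⟩ := C.exists_key
  rw [C.val_isConj (C.invol_conj hy₀ hy), C.cz_isConj (C.invol_conj hy₀ hy)]
  exact h

theorem even_card : 2 ∣ Nat.card G := ⟨p * C.M, by rw [C.hG']; ring⟩

theorem exists_involution : ∃ y : G, orderOf y = 2 := by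
  obtain ⟨y, hy, -⟩ := C.exists_key
  exact ⟨y, hy⟩

theorem not_dvd_sub {y : G} (hy : orderOf y = 2) : ¬ (p : ℤ) ∣ (C.f : ℤ) - C.val y := by
  intro hd
  obtain ⟨k, hk⟩ := hd
  have h := C.key hy
  rw [hk] at h
  have hp : Prime (p : ℤ) := Nat.prime_iff_prime_int.1 Fact.out
  have h1 : (p : ℤ) ∣ ((C.cz y : ℤ)) ^ 2 * (C.f * (C.f + C.a)) :=
    ⟨Nat.card G * k ^ 2, mul_left_cancel₀ hp.ne_zero (by linear_combination -h)⟩
  rcases hp.dvd_mul.1 h1 with h2 | h2
  · exact C.not_dvd_cz (C.not_dvd_invol hy) (fun e => by rw [e, orderOf_one] at hy; omega)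
      (Int.natCast_dvd_natCast.1 (hp.dvd_of_dvd_pow h2))
  · rcases hp.dvd_mul.1 h2 with h3 | h3
    · exact C.not_dvd_f h3
    · exact C.not_dvd_h h3

/-- The pairs with product in `P` are counted by `n`. -/
theorem exists_n {y g : G} (hy : orderOf y = 2) (hg : ¬ p ∣ orderOf g) (hg1 : g ≠ 1) :
    ∃ n : ℤ, 0 < n ∧
      (C.cz g : ℤ) * n * ((C.f : ℤ) - C.val y) = C.cz y * ((C.f : ℤ) - C.val g) := by
  obtain ⟨z, hz, hz1, -⟩ := C.exists_z
  have h := C.count_eq (C.not_dvd_invol hy) hg hz hz1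
  set N : ℤ := (Nat.card {q : G × G // IsConj y q.1 ∧ IsConj g q.2 ∧ q.1 * q.2 = z} : ℤ)
  have hy1 : y ≠ 1 := fun e => by rw [e, orderOf_one] at hy; omega
  have hd := C.val_lt hy1
  have hcy : (0 : ℤ) < C.cz y := by exact_mod_cast C.cz_pos y
  have hfh : (C.f : ℤ) * (C.f + C.a) ≠ 0 := mul_ne_zero
    (by have := C.f_ge_two; omega) (fun h0 => C.not_dvd_h (h0 ▸ dvd_zero _))
  have h' : N * C.cz g * ((C.f : ℤ) - C.val y) = p * (C.cz y * ((C.f : ℤ) - C.val g)) := by
    refine mul_left_cancel₀ (mul_ne_zero hcy.ne' hfh) ?_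
    linear_combination ((C.f : ℤ) - C.val y) * h + ((C.f : ℤ) - C.val g) * C.key hy
  have hp : Prime (p : ℤ) := Nat.prime_iff_prime_int.1 Fact.out
  obtain ⟨n, hn⟩ : (p : ℤ) ∣ N := by
    rcases hp.dvd_mul.1 (⟨_, h'⟩ : (p : ℤ) ∣ N * C.cz g * ((C.f : ℤ) - C.val y)) with h1 | h1
    · exact (hp.dvd_mul.1 h1).resolve_right fun h2 =>
        C.not_dvd_cz hg hg1 (Int.natCast_dvd_natCast.1 h2)
    · exact absurd h1 (C.not_dvd_sub hy)
  have he : (C.cz g : ℤ) * n * ((C.f : ℤ) - C.val y) = C.cz y * ((C.f : ℤ) - C.val g) := by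
    refine mul_left_cancel₀ hp.ne_zero ?_
    rw [← h', hn]
    ring
  refine ⟨n, ?_, he⟩
  by_contra hn0
  have hpos : (0 : ℤ) < C.cz y * ((C.f : ℤ) - C.val g) := mul_pos hcy (by have := C.val_lt hg1; omega)
  rw [← he] at hpos
  have : (C.cz g : ℤ) * n * ((C.f : ℤ) - C.val y) ≤ 0 := mul_nonpos_of_nonpos_of_nonneg
    (mul_nonpos_of_nonneg_of_nonpos (Int.natCast_nonneg _) (not_lt.1 hn0)) (by omega)
  omega

/-- The centralizer of an involution contains a Sylow 2-subgroup. -/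
theorem exists_sylow_two {y : G} (hy : orderOf y = 2) :
    ∃ S : Sylow 2 G, (S : Subgroup G) ≤ Subgroup.centralizer ({y} : Set G) ∧ y ∈ (S : Subgroup G) := by
  have : Fact (Nat.Prime 2) := ⟨Nat.prime_two⟩
  obtain ⟨S⟩ := (inferInstance : Nonempty (Sylow 2 G))
  have hS : 2 ∣ Nat.card (S : Subgroup G) := S.dvd_card_of_dvd_card C.even_card
  have : Nontrivial (S : Subgroup G) := Finite.one_lt_card_iff_nontrivial.1
    (by have := Nat.le_of_dvd Nat.card_pos hS; omega)
  have hZ : Nontrivial (Subgroup.center (S : Subgroup G)) := S.isPGroup'.center_nontrivial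
  have hZ2 : IsPGroup 2 (Subgroup.center (S : Subgroup G)) := S.isPGroup'.to_subgroup _
  obtain ⟨z, hz⟩ := exists_prime_orderOf_dvd_card' (G := Subgroup.center (S : Subgroup G)) 2 (by
    obtain ⟨k, hk, hcard⟩ := hZ2.nontrivial_iff_card.1 hZ
    rw [hcard]; exact dvd_pow_self 2 (by omega))
  have hzo : orderOf ((z : (S : Subgroup G)) : G) = 2 := by
    rw [Subgroup.orderOf_coe, Subgroup.orderOf_coe, hz]
  obtain ⟨c, hc⟩ := isConj_iff.1 (C.invol_conj hzo hy)
  refine ⟨MulAut.conj c • S, ?_, ?_⟩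
  · rintro _ ⟨s, hs, rfl⟩
    rw [Subgroup.mem_centralizer_singleton_iff, ← hc]
    have := congrArg Subtype.val (Subgroup.mem_center_iff.1 z.2 ⟨s, hs⟩)
    change s * ((z : (S : Subgroup G)) : G) = ((z : (S : Subgroup G)) : G) * s at this
    show c * s * c⁻¹ * (c * _ * c⁻¹) = c * _ * c⁻¹ * (c * s * c⁻¹)
    calc c * s * c⁻¹ * (c * ((z : (S : Subgroup G)) : G) * c⁻¹)
        = c * (s * ((z : (S : Subgroup G)) : G)) * c⁻¹ := by group
      _ = c * (((z : (S : Subgroup G)) : G) * s) * c⁻¹ := by rw [this]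
      _ = _ := by group
  · exact ⟨(z : (S : Subgroup G)), (z : (S : Subgroup G)).2, hc⟩

theorem factorization_cz {y : G} (hy : orderOf y = 2) :
    (C.cz y).factorization 2 = (Nat.card G).factorization 2 := by
  have : Fact (Nat.Prime 2) := ⟨Nat.prime_two⟩
  obtain ⟨S, hS, -⟩ := C.exists_sylow_two hy
  refine le_antisymm ((Nat.factorization_le_iff_dvd (C.cz_pos y).ne' Nat.card_pos.ne').2
    (C.cz_dvd y) 2) ?_
  refine (Nat.prime_two.pow_dvd_iff_le_factorization (C.cz_pos y).ne').1 ?_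
  rw [← S.card_eq_multiplicity]
  exact Subgroup.card_dvd_of_le hS

end Ctx

end Cfsg.Agent.Fg24.DegThreeP
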