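import Cfsg.Agent.Fg24.DegThreeP.Three

/-!
# Degree `3p - 1`, `p ≡ 1 (mod 4)`

An involution fixes three points, so the Sylow 2-subgroups have order eight, centralisers of
involutions are transitive on the moved points, and the fixed point sums leave only `p = 5`,
which is excluded by hand.
-/

set_option autoImplicit false
set_option linter.unusedSectionVars false

open Cfsg MulAction
open Function.Embedding (embFinTwo embFinTwo_apply_zero embFinTwo_apply_one)
open scoped Classical

namespace Cfsg.Agent.Fg24.DegThreeP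

universe u v

section Aux

variable {G : Type u} [Group G] [Fintype G] {X : Type v} [Fintype X] [MulAction G X]

theorem card_le_two_mul_inf_stab (S : Subgroup G) {α β : X}
    (h : ∀ s ∈ S, s • α = α ∨ s • α = β) :
    Nat.card S ≤ 2 * Nat.card ↥(S ⊓ stabilizer G α) := by
  have h1 := card_orbit_mul_card_stabilizer_eq_card_group S α
  rw [← Nat.card_eq_fintype_card, ← Nat.card_eq_fintype_card, ← Nat.card_eq_fintype_card] at h1
  rw [← h1]
  refine Nat.mul_le_mul ?_ ?_
  · rw [Nat.card_coe_set_eq]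
    refine le_trans (Set.ncard_le_ncard (t := {α, β}) ?_) ?_
    · rintro _ ⟨s, rfl⟩
      exact h s s.2
    · exact (Set.ncard_insert_le _ _).trans (by rw [Set.ncard_singleton])
  · exact Nat.card_le_card_of_injective
      (fun s : stabilizer S α => (⟨(s.1 : G), Subgroup.mem_inf.2 ⟨s.1.2,
        mem_stabilizer_iff.2 (mem_stabilizer_iff.1 s.2 : (s.1 : G) • α = α)⟩⟩ :
        ↥(S ⊓ stabilizer G α)))
      fun a b e => Subtype.ext (Subtype.ext (congrArg Subtype.val e :))

/-- A fixed point of a 2-group on a set of odd cardinality. -/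
theorem exists_fixed_of_two (S : Subgroup G) (hS : IsPGroup 2 S)
    (hodd : ¬ 2 ∣ Fintype.card X) : ∃ γ : X, ∀ s ∈ S, s • γ = γ := by
  have : Fact (Nat.Prime 2) := ⟨Nat.prime_two⟩
  have h := hS.card_modEq_card_fixedPoints (α := X)
  rw [Nat.card_eq_fintype_card (α := X), Nat.ModEq] at h
  obtain ⟨⟨γ, hγ⟩⟩ : Nonempty (fixedPoints S X) := Finite.card_pos_iff.1 (by omega)
  exact ⟨γ, fun s hs => hγ ⟨s, hs⟩⟩

theorem sum_filter_affine (H : Subgroup G) {pr : G → Prop} (hH : ∀ g, pr g ↔ g ∈ H) (r s : ℤ) :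
    ∑ g ∈ Finset.univ.filter pr, (r - s * (fix X g : ℤ)) =
      (Nat.card H : ℤ) * r - s * (Nat.card (orbitRel.Quotient H X) * Nat.card H) := by
  rw [sum_filter_eq_subgroup H hH, Finset.sum_sub_distrib, Finset.sum_const, nsmul_eq_mul,
    Finset.card_univ, ← Finset.mul_sum, ← Nat.cast_sum, sum_fix_subgroup, Nat.card_eq_fintype_card (α := H)]
  push_cast
  ring

theorem inv_eq_of_sq {u : G} (h : u * u = 1) : u⁻¹ = u := inv_eq_of_mul_eq_one_right h

end Aux

variable {G : Type u} [Group G] [Fintype G] [IsSimpleGroup G] {p : ℕ} [Fact p.Prime]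

namespace Three

variable {C : Ctx G p} {Ω : Type v} [Fintype Ω] [MulAction G Ω] [IsPretransitive G Ω]
  [FaithfulSMul G Ω]
variable (T : Three C Ω)
include T

theorem card_odd : ¬ 2 ∣ Fintype.card Ω := by
  rw [T.hΩ]
  obtain ⟨t, ht⟩ := C.p_odd
  omega

theorem sign_trivial (u : G) : Equiv.Perm.sign (toPermHom G Ω u) = 1 :=
  TimesPSL.hom_trivial C.ncomm (Equiv.Perm.sign.comp (toPermHom G Ω)) u

/-- The two-parts of the order and of `p - 1`. -/
theorem arith_one (hmod : p % 4 = 1) {y : G} (hy : orderOf y = 2) :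
    (Nat.card G).factorization 2 + 1 = 2 * (p - 1).factorization 2 ∧
      2 ≤ (p - 1).factorization 2 := by
  have hp : p.Prime := Fact.out
  have hp5 := C.hp5
  have hA : 2 ≤ (p - 1).factorization 2 :=
    (Nat.prime_two.pow_dvd_iff_le_factorization (by omega)).1 (show 2 ^ 2 ∣ p - 1 by omega)
  refine ⟨?_, hA⟩
  have hF : fix Ω y = 3 := by rw [C.fix_invol T.hΩ hy, if_pos hmod]
  have hk := T.key hy
  rw [hF] at hk
  have hnat : Nat.card G * (3 * (p - 1)) ^ 2 =
      p * C.cz y ^ 2 * ((3 * p - 1) * (3 * p - 2)) := by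
    have : ((Nat.card G * (3 * (p - 1)) ^ 2 : ℕ) : ℤ) =
        ((p * C.cz y ^ 2 * ((3 * p - 1) * (3 * p - 2)) : ℕ) : ℤ) := by
      push_cast [Nat.cast_sub (show 1 ≤ p by omega), Nat.cast_sub (show 1 ≤ 3 * p by omega),
        Nat.cast_sub (show 2 ≤ 3 * p by omega)]
      rw [← hk]
      push_cast
      ring
    exact_mod_cast this
  have h2r : (3 * p - 1).factorization 2 = 1 := by
    rw [show 3 * p - 1 = 2 * ((3 * p - 1) / 2) by omega,
      Nat.factorization_mul two_ne_zero (by omega)]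
    simp only [Finsupp.coe_add, Pi.add_apply, Nat.prime_two.factorization_self]
    rw [Nat.factorization_eq_zero_of_not_dvd (show ¬ 2 ∣ (3 * p - 1) / 2 by omega)]
  have hfac := congrArg (fun k => Nat.factorization k 2) hnat
  have h1 : (3 * (p - 1)) ^ 2 ≠ 0 := pow_ne_zero _ (by omega)
  have h2 : p * C.cz y ^ 2 ≠ 0 := mul_ne_zero hp.ne_zero (pow_ne_zero _ (C.cz_pos y).ne')
  rw [Nat.factorization_mul Nat.card_pos.ne' h1,
    Nat.factorization_mul h2 (mul_ne_zero (by omega) (by omega)),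
    Nat.factorization_mul hp.ne_zero (pow_ne_zero _ (C.cz_pos y).ne'),
    Nat.factorization_mul (show 3 * p - 1 ≠ 0 by omega) (show 3 * p - 2 ≠ 0 by omega),
    Nat.factorization_pow, Nat.factorization_pow,
    Nat.factorization_mul (show 3 ≠ 0 by omega) (show p - 1 ≠ 0 by omega)] at hfac
  simp only [Finsupp.coe_add, Pi.add_apply, Finsupp.coe_smul, Pi.smul_apply, smul_eq_mul,
    C.factorization_cz hy, h2r] at hfac
  rw [Nat.factorization_eq_zero_of_not_dvd (show ¬ 2 ∣ p by omega),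
    Nat.factorization_eq_zero_of_not_dvd (show ¬ 2 ∣ 3 * p - 2 by omega),
    Nat.factorization_eq_zero_of_not_dvd (show ¬ 2 ∣ 3 by omega)] at hfac
  omega

/-- A 2-subgroup fixing three points is semiregular on the others. -/
theorem semireg (hmod : p % 4 = 1) (U : Subgroup G) (hU : IsPGroup 2 U) {a b c : Ω}
    (hab : a ≠ b) (hac : a ≠ c) (hbc : b ≠ c)
    (hfix : ∀ u ∈ U, u • a = a ∧ u • b = b ∧ u • c = c) :
    (∀ u ∈ U, u ≠ 1 → ∀ x, u • x = x → x = a ∨ x = b ∨ x = c) ∧
      Nat.card U ≤ 2 ^ (p - 1).factorization 2 := by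
  have hp5 := C.hp5
  have h2f : Fact (Nat.Prime 2) := ⟨Nat.prime_two⟩
  have honly : ∀ u ∈ U, u ≠ 1 → ∀ x, u • x = x → x = a ∨ x = b ∨ x = c := by
    intro u hu hu1 x hx
    obtain ⟨k, hk⟩ := IsPGroup.iff_orderOf.1 hU ⟨u, hu⟩
    rw [Subgroup.orderOf_mk] at hk
    rcases k with _ | k
    · exact absurd (orderOf_eq_one_iff.1 hk) hu1
    set w := u ^ 2 ^ k with hw
    have hw2 : orderOf w = 2 := by
      rw [hw, orderOf_pow_of_dvd (by positivity) (by rw [hk]; exact pow_dvd_pow 2 k.le_succ), hk,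
        pow_succ, Nat.mul_div_cancel_left _ (by positivity)]
    have hmem : ∀ z : Ω, u • z = z → z ∈ Finset.univ.filter fun z : Ω => w • z = z := fun z hz =>
      Finset.mem_filter.2 ⟨Finset.mem_univ _, (mem_stabilizer_iff.1
        (pow_mem (show u ∈ stabilizer G z from hz) _))⟩
    have h3 : ({a, b, c} : Finset Ω) = Finset.univ.filter fun z : Ω => w • z = z := by
      refine Finset.eq_of_subset_of_card_le (fun z hz => ?_) ?_
      · simp only [Finset.mem_insert, Finset.mem_singleton] at hz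
        rcases hz with rfl | rfl | rfl
        exacts [hmem _ (hfix u hu).1, hmem _ (hfix u hu).2.1, hmem _ (hfix u hu).2.2]
      · rw [← fixedBy_card_eq, C.fix_invol T.hΩ hw2, if_pos hmod,
          Finset.card_eq_three.2 ⟨a, b, c, hab, hac, hbc, rfl⟩]
    have := hmem x hx
    rw [← h3] at this
    simpa using this
  refine ⟨honly, ?_⟩
  have hfix3 : ∀ u ∈ (Finset.univ : Finset U).erase 1, fix Ω (u : G) = 3 := by
    intro u hu
    have hu1 : (u : G) ≠ 1 := fun e => Finset.ne_of_mem_erase hu (Subtype.ext e)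
    rw [fixedBy_card_eq, show (Finset.univ.filter fun z : Ω => (u : G) • z = z) = {a, b, c} from
      Finset.ext fun z => ?_, Finset.card_eq_three.2 ⟨a, b, c, hab, hac, hbc, rfl⟩]
    simp only [Finset.mem_filter, Finset.mem_univ, true_and, Finset.mem_insert,
      Finset.mem_singleton]
    refine ⟨honly u u.2 hu1 z, ?_⟩
    rintro (rfl | rfl | rfl)
    exacts [(hfix u u.2).1, (hfix u u.2).2.1, (hfix u u.2).2.2]
  have h := sum_fix_subgroup U Ω
  rw [← Finset.add_sum_erase _ _ (Finset.mem_univ (1 : U)), Finset.sum_congr rfl hfix3,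
    Finset.sum_const, Finset.card_erase_of_mem (Finset.mem_univ _), Finset.card_univ,
    OneMemClass.coe_one, fix_one, T.hΩ, ← Nat.card_eq_fintype_card, smul_eq_mul] at h
  obtain ⟨k, hk⟩ := IsPGroup.iff_card.1 hU
  rw [hk] at h ⊢
  have hdvd : 2 ^ k ∣ 3 * (p - 1) := by
    have h0 : 0 < 2 ^ k := by positivity
    have h1 : 2 ^ k ∣ (2 ^ k) * Nat.card (orbitRel.Quotient U Ω) := dvd_mul_right _ _
    rw [mul_comm, ← h, show 3 * p + (2 ^ k - 1) * 3 = 3 * (p - 1) + 2 ^ k * 3 by omega] at h1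
    exact (Nat.dvd_add_left (dvd_mul_right _ _)).1 h1
  exact Nat.pow_le_pow_right (by norm_num)
    ((Nat.prime_two.pow_dvd_iff_le_factorization (by omega)).1
      ((Nat.Coprime.pow_left k (by norm_num : Nat.Coprime 2 3)).dvd_of_dvd_mul_left hdvd))

/-- Three fixed points of an involution and a large 2-group fixing them. -/
theorem exists_four (hmod : p % 4 = 1) {y : G} (hy : orderOf y = 2) :
    ∃ (a b c : Ω) (_ : a ≠ b) (_ : a ≠ c) (_ : b ≠ c) (U : Subgroup G), IsPGroup 2 U ∧
      (∀ u ∈ U, u • a = a ∧ u • b = b ∧ u • c = c) ∧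
      2 ^ (Nat.card G).factorization 2 ≤ 2 * Nat.card U := by
  have h2f : Fact (Nat.Prime 2) := ⟨Nat.prime_two⟩
  obtain ⟨S, hS, hyS⟩ := C.exists_sylow_two hy
  obtain ⟨γ, hγ⟩ := exists_fixed_of_two (X := Ω) (S : Subgroup G) S.isPGroup' T.card_odd
  set F := Finset.univ.filter (fun z : Ω => y • z = z) with hFdef
  have hF3 : F.card = 3 := by rw [← fixedBy_card_eq, C.fix_invol T.hΩ hy, if_pos hmod]
  have hγF : γ ∈ F := Finset.mem_filter.2 ⟨Finset.mem_univ _, hγ y hyS⟩
  obtain ⟨α, β, hαβ, hF⟩ := Finset.card_eq_two.1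
    (show (F.erase γ).card = 2 by rw [Finset.card_erase_of_mem hγF, hF3])
  have hαm : α ∈ F.erase γ := by rw [hF]; simp
  have hβm : β ∈ F.erase γ := by rw [hF]; simp
  have hperm : ∀ s ∈ (S : Subgroup G), ∀ z ∈ F.erase γ, s • z = α ∨ s • z = β := by
    intro s hs z hz
    rw [Finset.mem_erase, hFdef, Finset.mem_filter] at hz
    have : s • z ∈ F.erase γ := by
      refine Finset.mem_erase.2 ⟨fun e => hz.1 (smul_left_cancel s (e.trans (hγ s hs).symm)),
        Finset.mem_filter.2 ⟨Finset.mem_univ _, ?_⟩⟩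
      rw [← mul_smul, ← Subgroup.mem_centralizer_singleton_iff.1 (hS hs), mul_smul, hz.2.2]
    rw [hF] at this
    simpa using this
  refine ⟨α, β, γ, hαβ, Finset.ne_of_mem_erase hαm, Finset.ne_of_mem_erase hβm,
    (S : Subgroup G) ⊓ stabilizer G α, S.isPGroup'.to_le inf_le_left, fun u hu => ?_, ?_⟩
  · obtain ⟨huS, huα⟩ := Subgroup.mem_inf.1 hu
    refine ⟨mem_stabilizer_iff.1 huα, (hperm u huS β hβm).resolve_left fun e => ?_, hγ u huS⟩
    exact hαβ (smul_left_cancel u ((mem_stabilizer_iff.1 huα).trans e.symm))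
  · rw [← S.card_eq_multiplicity]
    exact card_le_two_mul_inf_stab _ fun s hs => hperm s hs α hαm

theorem two_parts (hmod : p % 4 = 1) :
    (p - 1).factorization 2 = 2 ∧ (Nat.card G).factorization 2 = 3 := by
  obtain ⟨y, hy⟩ := C.exists_involution
  obtain ⟨h1, h2⟩ := T.arith_one hmod hy
  obtain ⟨a, b, c, hab, hac, hbc, U, hU, hfix, hcard⟩ := T.exists_four hmod hy
  have h3 := (T.semireg hmod U hU hab hac hbc hfix).2
  have h4 : 2 ^ (Nat.card G).factorization 2 ≤ 2 ^ ((p - 1).factorization 2 + 1) := by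
    rw [pow_succ']
    omega
  have h5 := (Nat.pow_le_pow_iff_right (show 1 < 2 by norm_num)).1 h4
  omega

/-- A 2-subgroup fixing three points is elementary abelian of order at most four. -/
theorem elementary (hmod : p % 4 = 1) (U : Subgroup G) (hU : IsPGroup 2 U) {a b c : Ω}
    (hab : a ≠ b) (hac : a ≠ c) (hbc : b ≠ c)
    (hfix : ∀ u ∈ U, u • a = a ∧ u • b = b ∧ u • c = c) :
    Nat.card U ≤ 4 ∧ (∀ u ∈ U, u * u = 1) ∧ ∀ u ∈ U, ∀ w ∈ U, u * w = w * u := by
  have hp5 := C.hp5
  obtain ⟨honly, hle⟩ := T.semireg hmod U hU hab hac hbc hfix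
  rw [(T.two_parts hmod).1] at hle
  have hsq : ∀ u ∈ U, u * u = 1 := by
    intro u hu
    by_contra hne
    have hu1 : u ≠ 1 := fun e => hne (by rw [e, mul_one])
    obtain ⟨k, hk⟩ := IsPGroup.iff_orderOf.1 hU ⟨u, hu⟩
    rw [Subgroup.orderOf_mk] at hk
    have hk4 : 2 ^ k ≤ 2 ^ 2 := hk ▸
      (Nat.le_of_dvd Nat.card_pos (Subgroup.orderOf_dvd_natCard _ hu)).trans hle
    have hk2 := (Nat.pow_le_pow_iff_right (show 1 < 2 by norm_num)).1 hk4
    have h4 : orderOf u = 4 := by
      rcases (show k = 0 ∨ k = 1 ∨ k = 2 by omega) with rfl | rfl | rfl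
      · exact absurd (orderOf_eq_one_iff.1 hk) hu1
      · exact absurd (by rw [← sq]; simpa [hk] using pow_orderOf_eq_one u) hne
      · simpa using hk
    set σ := toPermHom G Ω u with hσ
    have hσo : orderOf σ ∣ 4 := h4 ▸ orderOf_map_dvd _ _
    have hall : ∀ n ∈ σ.cycleType, n = 4 := by
      intro n hn
      have hd := (Equiv.Perm.dvd_of_mem_cycleType hn).trans hσo
      have h2 := Equiv.Perm.two_le_of_mem_cycleType hn
      have h4' := Nat.le_of_dvd (by norm_num) hd
      by_contra hn4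
      obtain rfl : n = 2 := by interval_cases n <;> omega
      rw [Equiv.Perm.cycleType_def, Multiset.mem_map] at hn
      obtain ⟨τ, hτ, hτc⟩ := hn
      rw [Finset.mem_val, Equiv.Perm.mem_cycleFactorsFinset_iff] at hτ
      obtain ⟨z, hz⟩ : τ.support.Nonempty := Finset.card_pos.1 (by
        rw [show τ.support.card = 2 from hτc]; norm_num)
      have hτ2 : τ (τ z) = z := by
        have h := pow_orderOf_eq_one τ
        rw [hτ.1.orderOf, show τ.support.card = 2 from hτc, pow_two] at h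
        exact Equiv.Perm.congr_fun h z
      have h1 : u • z = τ z := (hτ.2 z hz).symm
      have h1' : u • τ z = z :=
        (hτ.2 _ (Equiv.Perm.apply_mem_support.2 hz)).symm.trans hτ2
      have hz2 : (u * u) • z = z := by rw [mul_smul, h1, h1']
      rcases honly (u * u) (mul_mem hu hu) hne z hz2 with rfl | rfl | rfl
      · exact Equiv.Perm.mem_support.1 hz (h1.symm.trans (hfix u hu).1)
      · exact Equiv.Perm.mem_support.1 hz (h1.symm.trans (hfix u hu).2.1)
      · exact Equiv.Perm.mem_support.1 hz (h1.symm.trans (hfix u hu).2.2)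
    have hsupp : σ.support = Finset.univ \ {a, b, c} := by
      ext z
      rw [Equiv.Perm.mem_support, Finset.mem_sdiff]
      simp only [Finset.mem_univ, true_and, Finset.mem_insert, Finset.mem_singleton]
      refine ⟨fun h e => h ?_, fun h e => h (honly u hu hu1 z e)⟩
      rcases e with rfl | rfl | rfl
      exacts [(hfix u hu).1, (hfix u hu).2.1, (hfix u hu).2.2]
    have hsum := σ.sum_cycleType
    rw [Multiset.eq_replicate_card.2 hall, Multiset.sum_replicate, smul_eq_mul, hsupp,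
      Finset.card_sdiff_of_subset (Finset.subset_univ _), Finset.card_univ, T.hΩ,
      Finset.card_eq_three.2 ⟨a, b, c, hab, hac, hbc, rfl⟩] at hsum
    have h8 : ¬ 8 ∣ p - 1 := fun h => by
      have := (Nat.prime_two.pow_dvd_iff_le_factorization (show p - 1 ≠ 0 by omega)).1
        (show 2 ^ 3 ∣ p - 1 from h)
      rw [(T.two_parts hmod).1] at this
      omega
    have hN : Odd (Multiset.card σ.cycleType) := Nat.odd_iff.2 (by omega)
    have hsign := T.sign_trivial (Ω := Ω) u
    rw [← hσ, Equiv.Perm.sign_of_cycleType, Multiset.eq_replicate_card.2 hall,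
      Multiset.sum_replicate, smul_eq_mul, Multiset.card_replicate,
      Odd.neg_one_pow (Nat.odd_iff.2 (by rw [Nat.odd_iff] at hN; omega))] at hsign
    exact absurd hsign (by decide)
  refine ⟨hle, hsq, fun u hu w hw => ?_⟩
  calc u * w = (u * w)⁻¹ := (inv_eq_of_sq (hsq _ (mul_mem hu hw))).symm
    _ = w⁻¹ * u⁻¹ := mul_inv_rev _ _
    _ = w * u := by rw [inv_eq_of_sq (hsq w hw), inv_eq_of_sq (hsq u hu)]

/-- In a Sylow subgroup of the stabiliser of a pair, the involutions interchanging the pair are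
conjugate. -/
theorem swappers_conj (hmod : p % 4 = 1) (S : Subgroup G) (hS : IsPGroup 2 S)
    (hS8 : Nat.card S = 8) {ε ε' : Ω} (hεε : ε ≠ ε')
    (hmem : ∀ s ∈ S, (s • ε = ε ∧ s • ε' = ε') ∨ (s • ε = ε' ∧ s • ε' = ε)) {x x' : G}
    (hx : x ∈ S) (hx' : x' ∈ S) (hx2 : orderOf x = 2) (hx2' : x' * x' = 1)
    (hxs : x • ε = ε') (hxs' : x' • ε = ε') : ∃ v ∈ S, v * x * v⁻¹ = x' := by
  obtain ⟨γ, hγ⟩ := exists_fixed_of_two (X := Ω) S hS T.card_odd
  have hεγ : ε ≠ γ := fun e => hεε (e.trans ((hγ x hx).symm.trans (e ▸ hxs)))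
  have hxε' : x • ε' = ε := by
    rcases hmem x hx with h | h
    · exact absurd (h.1.symm.trans hxs) hεε
    · exact h.2
  have hε'γ : ε' ≠ γ := fun e => hεγ (by rw [← hxε', e, hγ x hx])
  set V := S ⊓ stabilizer G ε with hV
  have hVmem : ∀ v ∈ V, v ∈ S ∧ v • ε = ε ∧ v • ε' = ε' := by
    intro v hv
    obtain ⟨hvS, hvε⟩ := Subgroup.mem_inf.1 hv
    refine ⟨hvS, hvε, ?_⟩
    rcases hmem v hvS with h | h
    · exact h.2
    · exact absurd ((mem_stabilizer_iff.1 hvε).symm.trans h.1) hεε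
  have hVfix : ∀ v ∈ V, v • ε = ε ∧ v • ε' = ε' ∧ v • γ = γ := fun v hv =>
    ⟨(hVmem v hv).2.1, (hVmem v hv).2.2, hγ v (hVmem v hv).1⟩
  have hVp : IsPGroup 2 V := hS.to_le inf_le_left
  obtain ⟨hV4, hVsq, hVcomm⟩ := T.elementary hmod V hVp hεε hεγ hε'γ hVfix
  obtain ⟨honly, -⟩ := T.semireg hmod V hVp hεε hεγ hε'γ hVfix
  have hVcard : Nat.card V = 4 := by
    have := card_le_two_mul_inf_stab S (β := ε') fun s hs => (hmem s hs).imp And.left And.left
    rw [← hV, hS8] at this
    omega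
  have hxx : x * x = 1 := by
    have := pow_orderOf_eq_one x
    rwa [hx2, sq] at this
  -- an element not centralising `x`
  have hnc : ∃ v ∈ V, x * v * x ≠ v := by
    by_contra! hall
    set F := Finset.univ.filter (fun z : Ω => x • z = z) with hFdef
    have hγF : γ ∈ F := Finset.mem_filter.2 ⟨Finset.mem_univ _, hγ x hx⟩
    have hF3 : F.card = 3 := by rw [← fixedBy_card_eq, C.fix_invol T.hΩ hx2, if_pos hmod]
    obtain ⟨q₁, q₂, hq, hFq⟩ := Finset.card_eq_two.1
      (show (F.erase γ).card = 2 by rw [Finset.card_erase_of_mem hγF, hF3])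
    have hq₁ : q₁ ∈ F.erase γ := by rw [hFq]; simp
    have hq₁' := hq₁
    rw [Finset.mem_erase, hFdef, Finset.mem_filter] at hq₁'
    have hmove : ∀ v ∈ V, v ≠ 1 → v • q₁ = q₂ ∧ v • q₂ = q₁ := by
      intro v hv hv1
      have hne : v • q₁ ≠ q₁ := fun e => by
        rcases honly v hv hv1 q₁ e with h | h | h
        · exact hεε (by rw [← hxs, ← h, hq₁'.2.2])
        · exact hεε (by rw [← hxε', ← h, hq₁'.2.2])
        · exact hq₁'.1 h
      have hm : v • q₁ ∈ F.erase γ := by
        refine Finset.mem_erase.2 ⟨fun e => hq₁'.1 (smul_left_cancel v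
          (e.trans (hVfix v hv).2.2.symm)), Finset.mem_filter.2 ⟨Finset.mem_univ _, ?_⟩⟩
        have : x * v = v * x := by
          calc x * v = x * v * (x * x) := by rw [hxx, mul_one]
            _ = x * v * x * x := by group
            _ = v * x := by rw [hall v hv]
        rw [← mul_smul, this, mul_smul, hq₁'.2.2]
      rw [hFq, Finset.mem_insert, Finset.mem_singleton] at hm
      have h2 := hm.resolve_left hne
      refine ⟨h2, ?_⟩
      rw [← h2, ← mul_smul, hVsq v hv, one_smul]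
    have hone : ((Finset.univ : Finset V).erase 1).card = 3 := by
      rw [Finset.card_erase_of_mem (Finset.mem_univ _), Finset.card_univ,
        ← Nat.card_eq_fintype_card, hVcard]
    obtain ⟨v, hv, w, hw, hvw⟩ := Finset.one_lt_card.1
      (show 1 < ((Finset.univ : Finset V).erase 1).card by omega)
    have hv1 : (v : G) ≠ 1 := fun e => Finset.ne_of_mem_erase hv (Subtype.ext e)
    have hw1 : (w : G) ≠ 1 := fun e => Finset.ne_of_mem_erase hw (Subtype.ext e)
    have hvw1 : (v : G) * w ≠ 1 := fun e => hvw (Subtype.ext (by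
      rw [mul_eq_one_iff_eq_inv, inv_eq_of_sq (hVsq _ w.2)] at e
      exact e))
    have hfix : ((v : G) * w) • q₁ = q₁ := by
      rw [mul_smul, (hmove w w.2 hw1).1, (hmove v v.2 hv1).2]
    rcases honly _ (mul_mem v.2 w.2) hvw1 q₁ hfix with h | h | h
    · exact hεε (by rw [← hxs, ← h, hq₁'.2.2])
    · exact hεε (by rw [← hxε', ← h, hq₁'.2.2])
    · exact hq₁'.1 h
  obtain ⟨v, hv, hvx⟩ := hnc
  have hvS := (hVmem v hv).1
  have hxv : x * v * x ∈ V := Subgroup.mem_inf.2 ⟨mul_mem (mul_mem hx hvS) hx,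
    mem_stabilizer_iff.2 (by rw [mul_smul, mul_smul, hxs, (hVfix v hv).2.1, hxε'])⟩
  set u₁ := v * (x * v * x) with hu₁
  have hu₁V : u₁ ∈ V := mul_mem hv hxv
  have hu₁ne : u₁ ≠ 1 := fun e => hvx (by
    rw [hu₁, mul_eq_one_iff_inv_eq, inv_eq_of_sq (hVsq v hv)] at e
    exact e.symm)
  set u := x' * x with hu
  have hxinv : x⁻¹ = x := inv_eq_of_sq hxx
  have huV : u ∈ V := by
    refine Subgroup.mem_inf.2 ⟨mul_mem hx' hx, mem_stabilizer_iff.2 ?_⟩
    rw [hu, mul_smul, hxs]
    rcases hmem x' hx' with h | h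
    · exact absurd (h.1.symm.trans hxs') hεε
    · exact h.2
  -- elements of `V` centralised by `x`
  have hcu₁ : x * u₁ * x = u₁ := by
    calc x * u₁ * x = x * v * x * v * (x * x) := by rw [hu₁]; group
      _ = (x * v * x) * v := by rw [hxx, mul_one]
      _ = u₁ := hVcomm _ hxv v hv
  have hcu : x * u * x = u := by
    calc x * u * x = x * x' * (x * x) := by rw [hu]; group
      _ = x * x' := by rw [hxx, mul_one]
      _ = x⁻¹ * x'⁻¹ := by rw [hxinv, inv_eq_of_sq hx2']
      _ = u⁻¹ := by rw [hu]; group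
      _ = u := inv_eq_of_sq (hVsq u huV)
  set W := V ⊓ Subgroup.centralizer ({x} : Set G) with hW
  have hcomm : ∀ w, x * w * x = w → w * x = x * w := fun w h => by
    calc w * x = x * w * x * x := by rw [h]
      _ = x * w * (x * x) := by group
      _ = x * w := by rw [hxx, mul_one]
  have hWle : Nat.card W ≤ 2 := by
    have hd : Nat.card W ∣ 4 := hVcard ▸ Subgroup.card_dvd_of_le inf_le_left
    have hlt : Nat.card W ≠ 4 := fun h => hvx (by
      have := Subgroup.eq_of_le_of_card_ge (inf_le_left : W ≤ V) (by rw [h, hVcard])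
      have hvW : v ∈ W := this.ge hv
      have hc := Subgroup.mem_centralizer_singleton_iff.1 (Subgroup.mem_inf.1 hvW).2
      rw [← hc, mul_assoc, hxx, mul_one])
    have := Nat.le_of_dvd (by norm_num) hd
    interval_cases h : Nat.card W <;> omega
  by_cases hu1 : u = 1
  · refine ⟨1, one_mem _, ?_⟩
    rw [hu, mul_eq_one_iff_eq_inv, hxinv] at hu1
    rw [one_mul, inv_one, mul_one, hu1]
  by_cases huu : u = u₁
  · refine ⟨v, hvS, ?_⟩
    calc v * x * v⁻¹ = v * (x * v * x) * x := by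
          rw [inv_eq_of_sq (hVsq v hv)]
          calc v * x * v = v * x * v * (x * x) := by rw [hxx, mul_one]
            _ = _ := by group
      _ = u * x := by rw [huu]
      _ = x' := by rw [hu, mul_assoc, hxx, mul_one]
  exfalso
  have h3 : ({⟨1, one_mem W⟩,
      ⟨u₁, Subgroup.mem_inf.2 ⟨hu₁V, Subgroup.mem_centralizer_singleton_iff.2 (hcomm _ hcu₁)⟩⟩,
      ⟨u, Subgroup.mem_inf.2 ⟨huV, Subgroup.mem_centralizer_singleton_iff.2 (hcomm _ hcu)⟩⟩} :
      Finset W).card = 3 := Finset.card_eq_three.2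
    ⟨_, _, _, fun e => hu₁ne (congrArg Subtype.val e).symm,
      fun e => hu1 (congrArg Subtype.val e).symm, fun e => huu (congrArg Subtype.val e).symm, rfl⟩
  have := h3.symm.le.trans (Finset.card_le_univ _)
  rw [← Nat.card_eq_fintype_card] at this
  omega

/-- The centraliser of an involution is transitive on the points it moves. -/
theorem trans_centralizer (hmod : p % 4 = 1) {y : G} (hy : orderOf y = 2) {δ ε : Ω}
    (hδ : y • δ ≠ δ) (hε : y • ε ≠ ε) : ∃ g : G, g * y = y * g ∧ g • δ = ε := by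
  have hp5 := C.hp5
  have h2f : Fact (Nat.Prime 2) := ⟨Nat.prime_two⟩
  have hyy : y * y = 1 := by
    have := pow_orderOf_eq_one y
    rwa [hy, sq] at this
  have hysq : ∀ z : Ω, y • y • z = z := fun z => by rw [← mul_smul, hyy, one_smul]
  set ε' := y • ε with hε'
  have hεε : ε ≠ ε' := hε.symm
  obtain ⟨g, hgδ, hgδ'⟩ := T.exists_two (a := δ) (b := y • δ) (c := ε) (d := ε') hδ.symm hεε
  set x := g * y * g⁻¹ with hx
  have hgi : g⁻¹ • ε = δ := by rw [inv_smul_eq_iff, hgδ]
  have hgi' : g⁻¹ • ε' = y • δ := by rw [inv_smul_eq_iff, hgδ']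
  have hxε : x • ε = ε' := by rw [hx, mul_smul, mul_smul, hgi, hgδ']
  have hxε' : x • ε' = ε := by rw [hx, mul_smul, mul_smul, hgi', hysq, hgδ]
  have hxo : orderOf x = 2 := by rw [hx, Blocks.orderOf_conj', hy]
  let W : Subgroup G :=
    { carrier := {w | (w • ε = ε ∧ w • ε' = ε') ∨ (w • ε = ε' ∧ w • ε' = ε)}
      one_mem' := Or.inl ⟨one_smul _ _, one_smul _ _⟩
      mul_mem' := by
        intro a b ha hb
        simp only [Set.mem_ofPred_eq, mul_smul] at ha hb ⊢
        rcases hb with ⟨h1, h2⟩ | ⟨h1, h2⟩ <;> rw [h1, h2] <;> tauto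
      inv_mem' := by
        intro a ha
        simp only [Set.mem_ofPred_eq, inv_smul_eq_iff] at ha ⊢
        rcases ha with ⟨h1, h2⟩ | ⟨h1, h2⟩
        · exact Or.inl ⟨h1.symm, h2.symm⟩
        · exact Or.inr ⟨h2.symm, h1.symm⟩ }
  have hWmem : ∀ w, w ∈ W ↔ (w • ε = ε ∧ w • ε' = ε') ∨ (w • ε = ε' ∧ w • ε' = ε) := fun _ => Iff.rfl
  have hyW : y ∈ W := (hWmem y).2 (Or.inr ⟨rfl, hysq ε⟩)
  have hxW : x ∈ W := (hWmem x).2 (Or.inr ⟨hxε, hxε'⟩)
  -- the order of `W`
  have horb : orbit W ε = {ε, ε'} := by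
    refine Set.Subset.antisymm ?_ ?_
    · rintro _ ⟨w, rfl⟩
      exact ((hWmem _).1 w.2).imp And.left And.left
    · rintro z (rfl | rfl)
      · exact mem_orbit_self _
      · exact ⟨⟨y, hyW⟩, rfl⟩
  have hstab : Nat.card (stabilizer W ε) = Nat.card ↥(stabilizer G ε ⊓ stabilizer G ε') :=
    Nat.card_congr
      { toFun := fun w => ⟨(w.1 : G), Subgroup.mem_inf.2 ⟨mem_stabilizer_iff.2
            (mem_stabilizer_iff.1 w.2 : (w.1 : G) • ε = ε), mem_stabilizer_iff.2 (by
            have h : (w.1 : G) • ε = ε := mem_stabilizer_iff.1 w.2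
            rcases (hWmem _).1 w.1.2 with h' | h'
            · exact h'.2
            · exact absurd (h.symm.trans h'.1) hεε)⟩⟩
        invFun := fun k => ⟨⟨(k : G), (hWmem _).2 (Or.inl
            ⟨mem_stabilizer_iff.1 (Subgroup.mem_inf.1 k.2).1,
              mem_stabilizer_iff.1 (Subgroup.mem_inf.1 k.2).2⟩)⟩,
          mem_stabilizer_iff.1 (Subgroup.mem_inf.1 k.2).1⟩
        left_inv := fun w => rfl
        right_inv := fun k => rfl }
  have hWcard : Nat.card W = 2 * Nat.card ↥(stabilizer G ε ⊓ stabilizer G ε') := by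
    have h := card_orbit_mul_card_stabilizer_eq_card_group W ε
    rw [← Nat.card_eq_fintype_card, ← Nat.card_eq_fintype_card, ← Nat.card_eq_fintype_card,
      Nat.card_coe_set_eq, horb, Set.ncard_pair hεε, hstab] at h
    exact h.symm
  have hW3 : (Nat.card W).factorization 2 = 3 := by
    have hG := T.card_pair_stab hεε
    obtain ⟨r, hr⟩ : ∃ r, 3 * p - 1 = 2 * r := ⟨(3 * p - 1) / 2, by omega⟩
    rw [hr, show 3 * p * (2 * r) * Nat.card ↥(stabilizer G ε ⊓ stabilizer G ε') =
      3 * p * r * (2 * Nat.card ↥(stabilizer G ε ⊓ stabilizer G ε')) by ring, ← hWcard] at hG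
    have h := congrArg (fun k => Nat.factorization k 2) hG
    rw [Nat.factorization_mul (mul_ne_zero (by omega) (by omega)) Nat.card_pos.ne'] at h
    simp only [Finsupp.coe_add, Pi.add_apply] at h
    rw [Nat.factorization_eq_zero_of_not_dvd (show ¬ 2 ∣ 3 * p * r from ?_), zero_add,
      (T.two_parts hmod).2] at h
    · exact h
    · intro h2
      rcases Nat.prime_two.dvd_mul.1 h2 with h3 | h3 <;> omega
  obtain ⟨Q⟩ := (inferInstance : Nonempty (Sylow 2 W))
  have hQ8 : Nat.card (Q : Subgroup W) = 8 := by rw [Q.card_eq_multiplicity, hW3]; norm_num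
  set S := (Q : Subgroup W).map W.subtype with hS
  have hS8 : Nat.card S = 8 := by
    rw [hS, Subgroup.card_map_of_injective W.subtype_injective, hQ8]
  have hSp : IsPGroup 2 S := Q.isPGroup'.map _
  have hSW : S ≤ W := Subgroup.map_subtype_le _
  have hmove : ∀ {z : G} (hz : z ∈ W), orderOf z = 2 → z • ε = ε' →
      ∃ c ∈ W, c * z * c⁻¹ ∈ S ∧ (c * z * c⁻¹) • ε = ε' := by
    intro z hz hzo hzε
    obtain ⟨c, hc⟩ := BlockThms.OrderP.exists_conj_mem Q (u := (⟨z, hz⟩ : W))
      ⟨1, by rw [Subgroup.orderOf_mk, hzo, pow_one]⟩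
    refine ⟨c, c.2, ⟨_, hc, rfl⟩, ?_⟩
    rcases (hWmem _).1 (mul_mem (mul_mem c.2 hz) (inv_mem c.2)) with h | h
    · exfalso
      have h1 := h.1
      have h2 := h.2
      rw [mul_smul, mul_smul, ← eq_inv_smul_iff] at h1 h2
      rcases (hWmem _).1 (inv_mem c.2) with h' | h'
      · rw [h'.1, hzε] at h1
        exact hεε h1.symm
      · rw [h'.2, hzε] at h2
        exact hεε h2.symm
    · exact h.1
  obtain ⟨c₁, hc₁, hx₁, hx₁ε⟩ := hmove hxW hxo hxε
  obtain ⟨c₂, hc₂, hx₂, hx₂ε⟩ := hmove hyW hy rfl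
  obtain ⟨v, hv, hconj⟩ := T.swappers_conj hmod S hSp hS8 hεε
    (fun s hs => (hWmem s).1 (hSW hs)) hx₁ hx₂ (by rw [Blocks.orderOf_conj', hxo])
    (by rw [← sq, conj_pow, sq, hyy, mul_one, mul_inv_cancel]) hx₁ε hx₂ε
  set w := c₂⁻¹ * v * c₁ with hw
  have hwW : w ∈ W := mul_mem (mul_mem (inv_mem hc₂) (hSW hv)) hc₁
  have hwx : w * x * w⁻¹ = y := by
    calc w * x * w⁻¹ = c₂⁻¹ * (v * (c₁ * x * c₁⁻¹) * v⁻¹) * c₂ := by rw [hw]; group
      _ = y := by rw [hconj]; group
  have hcomm : w * g * y = y * (w * g) := by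
    conv_rhs => rw [← hwx, hx]
    group
  rcases (hWmem w).1 hwW with h | h
  · exact ⟨w * g, hcomm, by rw [mul_smul, hgδ, h.1]⟩
  · refine ⟨y * (w * g), ?_, ?_⟩
    · rw [mul_assoc, hcomm]
    · rw [mul_smul, mul_smul, hgδ, h.1, hε', hysq]

/-- A stabiliser of the three fixed points of an involution has at most nine orbits. -/
theorem orbits_le (hmod : p % 4 = 1) {y : G} (hy : orderOf y = 2) (x₀ : Fin 3 ↪ Ω)
    (hx₀ : ∀ i, y • x₀ i = x₀ i) :
    Nat.card (orbitRel.Quotient (stabilizer G x₀) Ω) ≤ 9 := by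
  have hp5 := C.hp5
  have hτ : Fintype.card {z : Ω // y • z = z} = 3 := by
    rw [Fintype.card_subtype, ← fixedBy_card_eq, C.fix_invol T.hΩ hy, if_pos hmod]
  have hsurj : ∀ z : Ω, y • z = z → ∃ i, x₀ i = z := by
    intro z hz
    have hb : Function.Bijective fun i => (⟨x₀ i, hx₀ i⟩ : {z : Ω // y • z = z}) :=
      (Fintype.bijective_iff_injective_and_card _).2
        ⟨fun i j e => x₀.injective (congrArg Subtype.val e), by rw [Fintype.card_fin, hτ]⟩
    obtain ⟨i, hi⟩ := hb.2 ⟨z, hz⟩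
    exact ⟨i, congrArg Subtype.val hi⟩
  obtain ⟨δ₀, -, hδ₀⟩ := Finset.exists_mem_notMem_of_card_lt_card
    (t := (Finset.univ : Finset Ω)) (s := Finset.univ.filter fun z : Ω => y • z = z) (by
      rw [← fixedBy_card_eq, C.fix_invol T.hΩ hy, if_pos hmod, Finset.card_univ, T.hΩ]; omega)
  have hδ : y • δ₀ ≠ δ₀ := fun e => hδ₀ (Finset.mem_filter.2 ⟨Finset.mem_univ _, e⟩)
  have hg : ∀ z : {z : Ω // y • z ≠ z}, ∃ g : G, g * y = y * g ∧ g • δ₀ = z := fun z =>
    T.trans_centralizer hmod hy hδ z.2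
  choose g hgy hgδ using hg
  let key : {z : Ω // y • z ≠ z} → (Fin 3 ↪ {z : Ω // y • z = z}) := fun z =>
    ⟨fun i => ⟨g z • x₀ i, by rw [← mul_smul, ← hgy, mul_smul, hx₀]⟩,
      fun i j e => x₀.injective (smul_left_cancel (g z) (congrArg Subtype.val e))⟩
  have hkey : ∀ z z', key z = key z' →
      (Quotient.mk'' (z : Ω) : orbitRel.Quotient (stabilizer G x₀) Ω) = Quotient.mk'' (z' : Ω) := by
    intro z z' e
    refine Quotient.eq''.2 (orbitRel_apply.2 ⟨⟨g z * (g z')⁻¹, ?_⟩, ?_⟩)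
    · rw [mem_stabilizer_iff, smul_emb_iff]
      intro i
      obtain ⟨j, hj⟩ := hsurj ((g z')⁻¹ • x₀ i) (by
        have hc : (g z')⁻¹ * y = y * (g z')⁻¹ := by
          calc (g z')⁻¹ * y = (g z')⁻¹ * (y * g z') * (g z')⁻¹ := by group
            _ = (g z')⁻¹ * (g z' * y) * (g z')⁻¹ := by rw [hgy]
            _ = _ := by group
        rw [← mul_smul, ← hc, mul_smul, hx₀])
      have he : g z • x₀ j = g z' • x₀ j :=
        congrArg Subtype.val (congrArg (fun f : Fin 3 ↪ {z : Ω // y • z = z} => f j) e)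
      rw [mul_smul, ← hj, he, hj, smul_inv_smul]
    · show (g z * (g z')⁻¹) • (z' : Ω) = z
      conv_lhs => rw [← hgδ z', mul_smul, inv_smul_smul, hgδ z]
  let mk : Ω → orbitRel.Quotient (stabilizer G x₀) Ω := fun z => Quotient.mk'' z
  set A : Finset (orbitRel.Quotient (stabilizer G x₀) Ω) := Finset.univ.image fun i => mk (x₀ i)
  set B : Finset (orbitRel.Quotient (stabilizer G x₀) Ω) :=
    Finset.univ.filter fun w => y • Quotient.out w ≠ Quotient.out w
  have hA : A.card ≤ 3 := Finset.card_image_le.trans (by simp)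
  have hB : B.card ≤ 6 := by
    have h6 : Fintype.card (Fin 3 ↪ {z : Ω // y • z = z}) = 6 := by
      rw [Fintype.card_embedding_eq, Fintype.card_fin, hτ]; rfl
    rw [← h6, ← Fintype.card_coe]
    refine Fintype.card_le_of_injective
      (fun w => key ⟨Quotient.out w.1, (Finset.mem_filter.1 w.2).2⟩) fun w w' e => Subtype.ext ?_
    have := hkey _ _ e
    rwa [Quotient.out_eq', Quotient.out_eq'] at this
  have hcov : (Finset.univ : Finset (orbitRel.Quotient (stabilizer G x₀) Ω)) ⊆ A ∪ B := by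
    intro w _
    by_cases h : y • Quotient.out w = Quotient.out w
    · obtain ⟨i, hi⟩ := hsurj _ h
      exact Finset.mem_union_left _ (Finset.mem_image.2 ⟨i, Finset.mem_univ _, by
        show Quotient.mk'' (x₀ i) = w
        rw [hi, Quotient.out_eq']⟩)
    · exact Finset.mem_union_right _ (Finset.mem_filter.2 ⟨Finset.mem_univ _, h⟩)
  rw [Nat.card_eq_fintype_card, ← Finset.card_univ]
  have := (Finset.card_le_card hcov).trans (Finset.card_union_le _ _)
  omega

/-- The fixed point sums force `p = 5`. -/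
theorem eq_five (hmod : p % 4 = 1) : p = 5 := by
  have hp : p.Prime := Fact.out
  have hp5 := C.hp5
  obtain ⟨y, hy⟩ := C.exists_involution
  have hF : fix Ω y = 3 := by rw [C.fix_invol T.hΩ hy, if_pos hmod]
  rw [fixedBy_card_eq, Finset.card_eq_three] at hF
  obtain ⟨a, b, c, hab, hac, hbc, hF⟩ := hF
  have hmem : ∀ z, z ∈ ({a, b, c} : Finset Ω) → y • z = z := fun z hz => by
    rw [← hF] at hz
    exact (Finset.mem_filter.1 hz).2
  set x₀ := triple hab hac hbc
  have ho := T.orbits_le hmod hy x₀ fun i => hmem _ (by fin_cases i <;> simp [x₀, triple])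
  set o := Nat.card (orbitRel.Quotient (stabilizer G x₀) Ω)
  let a₀ : orbit G x₀ := ⟨x₀, mem_orbit_self _⟩
  set N : G → ℤ := fun g => (fix (orbit G x₀) g : ℤ) with hN
  have hNle : ∀ g, N g ≤ (fix Ω g : ℤ) * ((fix Ω g : ℤ) - 1) * ((fix Ω g : ℤ) - 2) := by
    intro g
    rw [← fix_three_cast, hN]
    refine Nat.cast_le.2 (Nat.card_le_card_of_injective
      (fun w => (⟨w.1.1, congrArg Subtype.val w.2⟩ : fixedBy (Fin 3 ↪ Ω) g)) fun w w' e => ?_)
    have h := congrArg Subtype.val e
    exact Subtype.ext (Subtype.ext h)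
  have hN0 : ∀ g, fix Ω g = 0 → N g = 0 := fun g hg => by
    have h1 := hNle g
    have h2 : 0 ≤ N g := Int.natCast_nonneg _
    rw [hg] at h1
    simp only [Nat.cast_zero, zero_mul] at h1
    omega
  have hNsum : ∑ g, N g = Nat.card G := sum_fix a₀
  set φ : G → ℤ := fun g => 54 * p - 81 - 3 * p * (fix Ω g : ℤ) with hφ
  have hNφ : ∑ g, N g * φ g = (Nat.card G : ℤ) * (54 * p - 81 - 3 * p * o) := by
    rw [sum_fix_mul a₀ φ fun c g => by simp only [hφ, fix_conj],
      sum_filter_affine (stabilizer G x₀) fun g => by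
        rw [Subtype.ext_iff, orbit.coe_smul, mem_stabilizer_iff]]
    have h1 := card_stab_mul (G := G) a₀
    rw [show stabilizer G a₀ = stabilizer G x₀ from Subgroup.ext fun g => by
      rw [mem_stabilizer_iff, mem_stabilizer_iff, Subtype.ext_iff, orbit.coe_smul]] at h1
    rw [← h1]
    push_cast
    ring
  have hpoint : ∀ g, N g * φ g ≤
      81 * (((fix Ω g : ℤ) - 1) * ((fix Ω g : ℤ) - 2) * (3 * p - (fix Ω g : ℤ))) := by
    intro g
    have hT := T.deficit_nonneg g
    have h0 : 0 ≤ N g := Int.natCast_nonneg _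
    rcases le_or_gt (φ g) 0 with h | h
    · nlinarith [mul_nonpos_of_nonneg_of_nonpos h0 h]
    set Fg := (fix Ω g : ℤ)
    rcases le_or_gt Fg 2 with hle | hlt
    · have h1 := hNle g
      have : Fg * (Fg - 1) * (Fg - 2) ≤ 0 := by
        rcases (show Fg = 0 ∨ Fg = 1 ∨ Fg = 2 by
          have : (0 : ℤ) ≤ Fg := Int.natCast_nonneg _; omega) with e | e | e <;> rw [e] <;> norm_num
      rw [show N g = 0 by linarith, zero_mul]
      linarith
    have h1 : N g * φ g ≤ Fg * (Fg - 1) * (Fg - 2) * φ g :=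
      mul_le_mul_of_nonneg_right (hNle g) h.le
    refine h1.trans ?_
    have h2 : Fg * φ g ≤ 81 * (3 * p - Fg) := by
      simp only [hφ]
      nlinarith [mul_nonneg (show (0 : ℤ) ≤ 3 * p by positivity) (sq_nonneg (Fg - 9))]
    calc Fg * (Fg - 1) * (Fg - 2) * φ g = (Fg - 1) * (Fg - 2) * (Fg * φ g) := by ring
      _ ≤ (Fg - 1) * (Fg - 2) * (81 * (3 * p - Fg)) :=
          mul_le_mul_of_nonneg_left h2 (mul_nonneg (by linarith) (by linarith))
      _ = _ := by ring
  have h3 : (Nat.card G : ℤ) ≤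
      ∑ g : G, (fix Ω g : ℤ) * ((fix Ω g : ℤ) - 1) * ((fix Ω g : ℤ) - 2) :=
    hNsum ▸ Finset.sum_le_sum fun g _ => hNle g
  have h4 : (Nat.card G : ℤ) * (54 * p - 81 - 3 * p * o) ≤ 162 * Nat.card G := by
    rw [← hNφ, ← T.sum_R_eq _ fun g hg => by rw [hN0 g hg, zero_mul]]
    refine (Finset.sum_le_sum fun g _ => hpoint g).trans ?_
    rw [← Finset.mul_sum, T.sum_R_T]
    linarith
  have h5 : (54 * p - 81 - 3 * p * o : ℤ) ≤ 162 :=
    le_of_mul_le_mul_left (by linarith) (show (0 : ℤ) < Nat.card G from by exact_mod_cast Nat.card_pos)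
  have h6 : (3 * p * o : ℤ) ≤ 3 * p * 9 :=
    mul_le_mul_of_nonneg_left (by exact_mod_cast ho) (by positivity)
  by_contra hne
  have h9 : p = 9 := by omega
  rw [h9] at hp
  norm_num at hp

/-- A full Sylow 3-subgroup of the symmetric group forces a 3-cycle. -/
theorem exists_three_cycle (h5 : p = 5) (hG : Nat.card G = 2653560) :
    ∃ σ ∈ (toPermHom G Ω).range, Equiv.Perm.IsThreeCycle σ := by
  have h3f : Fact (Nat.Prime 3) := ⟨Nat.prime_three⟩
  have hΩ : Fintype.card Ω = 15 := by rw [T.hΩ, h5]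
  set R := (toPermHom G Ω).range with hR
  have hRc : Nat.card R = 2653560 := by
    rw [← hG]
    exact (Nat.card_congr (MonoidHom.ofInjective (f := toPermHom G Ω)
      MulAction.toPerm_injective).toEquiv).symm
  obtain ⟨Q, hQ⟩ := Sylow.exists_subgroup_card_pow_prime 3
    (show 3 ^ 6 ∣ Nat.card R by rw [hRc]; norm_num)
  obtain ⟨U, hU⟩ := ((IsPGroup.of_card hQ).map R.subtype).exists_le_sylow
  have hUR : (U : Subgroup (Equiv.Perm Ω)) ≤ R := by
    have : Q.map R.subtype = (U : Subgroup (Equiv.Perm Ω)) := by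
      refine Subgroup.eq_of_le_of_card_ge hU ?_
      rw [U.card_eq_multiplicity, Subgroup.card_map_of_injective R.subtype_injective, hQ,
        Nat.card_perm, Nat.card_eq_fintype_card (α := Ω), hΩ,
        show (Nat.factorial 15) = 3 ^ 6 * 1793792000 by decide,
        Nat.factorization_mul (by norm_num) (by norm_num)]
      simp only [Finsupp.coe_add, Pi.add_apply, Nat.prime_three.factorization_pow,
        Finsupp.single_eq_same]
      rw [Nat.factorization_eq_zero_of_not_dvd (show ¬ 3 ∣ 1793792000 by norm_num)]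
    rw [← this]
    exact Subgroup.map_subtype_le Q
  obtain ⟨s, hs⟩ := Finset.exists_subset_card_eq (s := (Finset.univ : Finset Ω))
    (show 3 ≤ (Finset.univ : Finset Ω).card by rw [Finset.card_univ, hΩ]; norm_num)
  obtain ⟨a, b, c, hab, hac, hbc, -⟩ := Finset.card_eq_three.1 hs.2
  have hσ := Equiv.Perm.isThreeCycle_swap_mul_swap_same hab hac hbc
  obtain ⟨τ, hτ⟩ := BlockThms.OrderP.exists_conj_mem U
    (u := Equiv.swap a b * Equiv.swap a c) ⟨1, by rw [hσ.orderOf, pow_one]⟩
  refine ⟨_, hUR hτ, ?_⟩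
  show Equiv.Perm.cycleType _ = {3}
  rw [Equiv.Perm.cycleType_conj]
  exact hσ

/-- The group is not of order `2653560`. -/
theorem order_large (h5 : p = 5) (hprim : IsPreprimitive G Ω) (hG : Nat.card G = 2653560) :
    False := by
  have hΩ : Fintype.card Ω = 15 := by rw [T.hΩ, h5]
  obtain ⟨σ, hσR, hσ⟩ := T.exists_three_cycle h5 hG
  set R := (toPermHom G Ω).range with hR
  let f : Ω →ₑ[(toPermHom G Ω).rangeRestrict] Ω :=
    { toFun := id, map_smul' := fun g z => rfl }
  have hRprim : IsPreprimitive R Ω :=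
    IsPreprimitive.of_surjective (f := f) Function.surjective_id
  have hle := Subgroup.card_le_of_le
    (Equiv.Perm.alternatingGroup_le_of_isPreprimitive_of_isThreeCycle_mem hRprim hσ hσR)
  have : Nontrivial Ω := Fintype.one_lt_card_iff_nontrivial.1 (by rw [hΩ]; norm_num)
  have h2 := two_mul_card_alternatingGroup (α := Ω)
  rw [Fintype.card_perm, hΩ, ← Nat.card_eq_fintype_card] at h2
  have hRc : Nat.card R = 2653560 := by
    rw [← hG]
    exact (Nat.card_congr (MonoidHom.ofInjective (f := toPermHom G Ω)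
      MulAction.toPerm_injective).toEquiv).symm
  rw [hRc] at hle
  have h15 : (Nat.factorial 15) = 1307674368000 := by decide
  omega

/-- The group is not of order `32760`. -/
theorem order_small (h5 : p = 5) (hG : Nat.card G = 32760) {y : G} (hy : orderOf y = 2)
    (hcy : C.cz y = 72) : False := by
  have hmod : p % 4 = 1 := by omega
  have hΩ : Fintype.card Ω = 15 := by rw [T.hΩ, h5]
  have h13f : Fact (Nat.Prime 13) := ⟨by norm_num⟩
  obtain ⟨g, hg⟩ := exists_prime_orderOf_dvd_card' (G := G) 13 (by rw [hG]; norm_num)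
  have hg1 : g ≠ 1 := fun e => by rw [e, orderOf_one] at hg; omega
  have hlt := T.fix_lt hg1
  have hz : IsPGroup 13 (Subgroup.zpowers g) :=
    IsPGroup.of_card (n := 1) (by rw [Nat.card_zpowers, hg, pow_one])
  have hF2 : fix Ω g = 2 := by
    have h := hz.card_modEq_card_fixedPoints (α := Ω)
    rw [Nat.card_eq_fintype_card (α := Ω), hΩ] at h
    have he' : Nat.card (fixedPoints (Subgroup.zpowers g) Ω) = fix Ω g :=
      Nat.card_congr (Equiv.subtypeEquivRight fun ω =>
        ⟨fun hh => hh ⟨g, Subgroup.mem_zpowers g⟩, fun hh x => by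
          have : Subgroup.zpowers g ≤ stabilizer G ω := Subgroup.zpowers_le.mpr hh
          exact mem_stabilizer_iff.1 (this x.2)⟩)
    rw [he', Nat.ModEq] at h
    omega
  obtain ⟨a', b', hab', ha', hb'⟩ := exists_fixed_pair hF2.ge
  have hF' : ({a', b'} : Finset Ω) = Finset.univ.filter fun z : Ω => g • z = z := by
    refine Finset.eq_of_subset_of_card_le (fun z hz => ?_) ?_
    · rw [Finset.mem_insert, Finset.mem_singleton] at hz
      rcases hz with rfl | rfl <;> simp [ha', hb']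
    · rw [← fixedBy_card_eq, hF2, Finset.card_pair hab']
  have h3 : IsMultiplyPretransitive G Ω 3 := by
    refine T.trans3_of hab' fun c d hca hcb hda hdb => ?_
    have hd : d ∈ orbit (Subgroup.zpowers g) c := by
      have hsub : orbit (Subgroup.zpowers g) c ⊆ (({a', b'} : Finset Ω)ᶜ : Finset Ω) := by
        rintro _ ⟨w, rfl⟩
        rw [Finset.mem_coe, Finset.mem_compl, Finset.mem_insert, Finset.mem_singleton]
        have hw : ∀ z : Ω, g • z = z → (w : G) • z = z := fun z h => mem_stabilizer_iff.1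
          (Subgroup.zpowers_le.2 (show g ∈ stabilizer G z from h) w.2)
        rintro (e | e)
        · exact hca (smul_left_cancel (w : G) ((e : (w : G) • c = a').trans (hw _ ha').symm))
        · exact hcb (smul_left_cancel (w : G) ((e : (w : G) • c = b').trans (hw _ hb').symm))
      obtain ⟨k, hk⟩ := hz.card_orbit c
      have hk13 : 13 ∣ Nat.card (orbit (Subgroup.zpowers g) c) := by
        rw [hk]
        refine dvd_pow_self 13 fun e => ?_
        rw [e, pow_zero] at hk
        obtain ⟨hs, -⟩ := Nat.card_eq_one_iff_unique.1 hk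
        have hgc : g • c = c := congrArg Subtype.val
          (hs.elim ⟨(⟨g, Subgroup.mem_zpowers g⟩ : Subgroup.zpowers g) • c, mem_orbit _ _⟩
            ⟨c, mem_orbit_self _⟩)
        have : c ∈ ({a', b'} : Finset Ω) := hF' ▸ Finset.mem_filter.2 ⟨Finset.mem_univ _, hgc⟩
        simp [hca, hcb] at this
      have h13 : (({a', b'} : Finset Ω)ᶜ : Finset Ω).card = 13 := by
        rw [Finset.card_compl, Finset.card_pair hab', hΩ]
      have heq := Set.eq_of_subset_of_ncard_le hsub (by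
        rw [Set.ncard_coe_finset, h13, ← Nat.card_coe_set_eq]
        refine Nat.le_of_dvd ?_ hk13
        rw [hk]
        positivity)
      rw [heq, Finset.mem_coe]
      simp [hda, hdb]
    obtain ⟨w, hw⟩ := hd
    exact ⟨(w : G), mem_stabilizer_iff.1 (Subgroup.zpowers_le.2
      (show g ∈ stabilizer G a' from ha') w.2), mem_stabilizer_iff.1 (Subgroup.zpowers_le.2
      (show g ∈ stabilizer G b' from hb') w.2), hw⟩
  obtain ⟨a, b, c, hab, hac, hbc, U, hU, hfix, hcard⟩ := T.exists_four hmod hy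
  rw [(T.two_parts hmod).2] at hcard
  obtain ⟨-, hsq, -⟩ := T.elementary hmod U hU hab hac hbc hfix
  set x₀ := triple hab hac hbc
  set φ : G → ℤ := fun x => if orderOf x = 2 then 1 else 0 with hφ
  have h := sum_fix_mul (G := G) x₀ φ fun u x => by simp only [hφ, Blocks.orderOf_conj']
  simp only [fix_three_cast] at h
  rw [T.card_triples, h5] at h
  have hI : (Finset.univ.filter fun x : G => orderOf x = 2).card = 455 := by
    have e : Finset.univ.filter (fun x : G => orderOf x = 2) =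
        Finset.univ.filter fun x : G => IsConj y x := by
      refine Finset.filter_congr fun x _ => ⟨fun hx => C.invol_conj hy hx, fun hx => ?_⟩
      obtain ⟨u, rfl⟩ := isConj_iff.1 hx
      rwa [Blocks.orderOf_conj']
    have h1 := C.card_class y
    rw [Nat.card_eq_fintype_card, Fintype.card_subtype, ← e, hcy, hG] at h1
    omega
  have hlhs : ∑ x : G, (fix Ω x : ℤ) * ((fix Ω x : ℤ) - 1) * ((fix Ω x : ℤ) - 2) * φ x =
      6 * 455 := by
    simp only [hφ, mul_ite, mul_one, mul_zero]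
    rw [← Finset.sum_filter, Finset.sum_congr rfl (g := fun _ => (6 : ℤ)) (fun x hx => by
      rw [C.fix_invol T.hΩ (Finset.mem_filter.1 hx).2, if_pos hmod]; norm_num),
      Finset.sum_const, hI, nsmul_eq_mul]
    norm_num
  have hrhs : 3 ≤ ∑ x ∈ Finset.univ.filter (fun x : G => x • x₀ = x₀), φ x := by
    simp only [hφ]
    rw [← Finset.sum_filter, Finset.sum_const, nsmul_eq_mul, mul_one]
    have hle : ((Finset.univ : Finset U).erase 1).card ≤
        ((Finset.univ.filter fun x : G => x • x₀ = x₀).filter fun x => orderOf x = 2).card := by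
      refine Finset.card_le_card_of_injOn (fun u : U => (u : G)) (fun u hu => ?_)
        Subtype.val_injective.injOn
      rw [Finset.mem_coe] at hu ⊢
      rw [Finset.mem_filter, Finset.mem_filter]
      exact ⟨⟨Finset.mem_univ _, mem_stabilizer_iff.1 ((stab_triple x₀ _).2 (hfix u u.2))⟩,
        orderOf_eq_prime (by rw [sq]; exact hsq u u.2) fun e =>
          Finset.ne_of_mem_erase hu (Subtype.ext e)⟩
    rw [Finset.card_erase_of_mem (Finset.mem_univ _), Finset.card_univ,
      ← Nat.card_eq_fintype_card] at hle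
    have h3 : 3 ≤ Nat.card U - 1 := by omega
    exact_mod_cast h3.trans hle
  rw [hlhs] at h
  push_cast at h
  have h' : (2730 : ℤ) * 3 ≤ 2730 := by
    refine le_trans ?_ h.ge
    exact mul_le_mul_of_nonneg_left
      (le_of_le_of_eq hrhs (Finset.sum_congr (by ext; simp) fun _ _ => rfl)) (by norm_num)
  norm_num at h'

theorem not_one (hmod : p % 4 = 1) (hprim : IsPreprimitive G Ω) : False := by
  have h5 := T.eq_five hmod
  obtain ⟨y, hy⟩ := C.exists_involution
  obtain ⟨-, hg2⟩ := T.two_parts hmod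
  have hk := T.key hy
  have h5z : (p : ℤ) = 5 := by exact_mod_cast h5
  rw [C.fix_invol T.hΩ hy, if_pos hmod, h5z] at hk
  push_cast at hk
  have hk' : Nat.card G * 144 = 910 * C.cz y ^ 2 := by
    have : ((Nat.card G * 144 : ℕ) : ℤ) = ((910 * C.cz y ^ 2 : ℕ) : ℤ) := by
      push_cast
      linear_combination hk
    exact_mod_cast this
  have hv := C.factorization_cz hy
  rw [hg2] at hv
  have h8 : 2 ^ 3 ∣ C.cz y :=
    (Nat.prime_two.pow_dvd_iff_le_factorization (C.cz_pos y).ne').2 hv.ge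
  have h16 : ¬ 2 ^ 4 ∣ C.cz y := fun h => by
    have := (Nat.prime_two.pow_dvd_iff_le_factorization (C.cz_pos y).ne').1 h
    omega
  have h3 : 3 ∣ C.cz y := Nat.prime_three.dvd_of_dvd_pow
    ((Nat.Coprime.dvd_of_dvd_mul_left (by norm_num : Nat.Coprime 3 910))
      ⟨Nat.card G * 48, by rw [← hk']; ring⟩)
  obtain ⟨l, hl⟩ : 24 ∣ C.cz y :=
    (Nat.Coprime.mul_dvd_of_dvd_of_dvd (by norm_num : Nat.Coprime 8 3) h8 h3)
  have hG : Nat.card G = 3640 * l ^ 2 := by
    rw [hl] at hk'
    refine Nat.eq_of_mul_eq_mul_right (show 0 < 144 by norm_num) (hk'.trans ?_)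
    ring
  have hl2 : ¬ 2 ∣ l := fun ⟨i, hi⟩ => h16 ⟨3 * i, by rw [hl, hi]; ring⟩
  have hl3 : 3 ∣ l := by
    have h15 : 3 ∣ Nat.card G := by
      rw [← card_stab_mul (G := G) T.nonempty.some, T.hΩ]
      exact dvd_mul_of_dvd_left (dvd_mul_right 3 p) _
    rw [hG] at h15
    exact Nat.prime_three.dvd_of_dvd_pow
      ((Nat.Coprime.dvd_of_dvd_mul_left (by norm_num : Nat.Coprime 3 3640)) h15)
  have hMmod : l ^ 2 % 5 = 4 := by
    have h := C.hG'
    rw [hG, show C.M = C.n * p + 1 from rfl] at h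
    generalize C.n = n at h
    rw [h5] at h
    omega
  have hfact : Nat.card G ∣ (Nat.factorial 15) := by
    have hinj : Function.Injective (MulAction.toPermHom G Ω) := MulAction.toPerm_injective
    have := Subgroup.card_dvd_of_injective _ hinj
    rwa [Nat.card_perm, Nat.card_eq_fintype_card (α := Ω), T.hΩ, h5] at this
  have hdvd : l ∣ 2160 := by
    rw [hG, show (Nat.factorial 15) = 3640 * (2160 ^ 2 * 77) by decide] at hfact
    have h1 : l ^ 2 ∣ 2160 ^ 2 * 77 := Nat.dvd_of_mul_dvd_mul_left (by norm_num) hfact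
    have hcop : Nat.Coprime (l ^ 2) 77 := by
      refine Nat.Coprime.pow_left _ ?_
      rw [show 77 = 7 * 11 by norm_num]
      refine Nat.Coprime.mul_right ?_ ?_
      all_goals
        refine ((Nat.Prime.coprime_iff_not_dvd (by norm_num)).2 fun hd => ?_).symm
        have h2 := (pow_dvd_pow_of_dvd hd 2).trans h1
        norm_num at h2
    exact (Nat.pow_dvd_pow_iff two_ne_zero).1 (hcop.dvd_of_dvd_mul_right h1)
  have hl' : l = 3 ∨ l = 27 := by
    have key : ∀ d ∈ Nat.divisors 2160, ¬ 2 ∣ d → 3 ∣ d → d ^ 2 % 5 = 4 → d = 3 ∨ d = 27 := by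
      decide +kernel
    exact key l (Nat.mem_divisors.2 ⟨hdvd, by norm_num⟩) hl2 hl3 hMmod
  rcases hl' with rfl | rfl
  · exact T.order_small h5 (by rw [hG]; norm_num) hy (by rw [hl])
  · exact T.order_large h5 hprim (by rw [hG]; norm_num)

end Three

end Cfsg.Agent.Fg24.DegThreeP
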