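import Cfsg.Agent.Fg24.DegThreeP.Three
import Cfsg.Agent.Char.FS

/-!
# Degree `3p - 1`, `p ≡ 3 (mod 4)`

An involution fixes one point, the stabiliser of two points has odd order, the action is triply
transitive, and the constituents of the square of the permutation character give a contradiction.
-/

set_option autoImplicit false
set_option linter.unusedSectionVars false

open Cfsg MulAction
open Function.Embedding (embFinTwo embFinTwo_apply_zero embFinTwo_apply_one)
open scoped Classical ComplexConjugate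

namespace Cfsg.Agent.Fg24.DegThreeP

universe u v

section Aux

variable {G : Type u} [Group G] [Fintype G]

theorem smul_of_sq {X : Type v} [MulAction G X] {g : G} (hodd : ¬ 2 ∣ orderOf g) {x : X}
    (h : g • g • x = x) : g • x = x := by
  have h1 : g * g ∈ stabilizer G x := by rw [mem_stabilizer_iff, mul_smul]; exact h
  have h2 : (g * g) ^ ((orderOf g + 1) / 2) = g := by
    rw [← sq, ← pow_mul, show 2 * ((orderOf g + 1) / 2) = orderOf g + 1 by omega, pow_succ,
      pow_orderOf_eq_one, one_mul]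
  have h3 := pow_mem h1 ((orderOf g + 1) / 2)
  rwa [h2, mem_stabilizer_iff] at h3

/-- The orbits of a subgroup of odd order. -/
theorem orbit_card_odd {X : Type v} [Fintype X] [MulAction G X] (H : Subgroup G)
    (hodd : ¬ 2 ∣ Nat.card H) (x : X) : ¬ 2 ∣ Nat.card (orbit H x) := by
  intro h
  refine hodd (h.trans ⟨Nat.card (stabilizer H x), ?_⟩)
  rw [Nat.card_eq_fintype_card (α := orbit H x), Nat.card_eq_fintype_card (α := stabilizer H x),
    card_orbit_mul_card_stabilizer_eq_card_group, Nat.card_eq_fintype_card]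

theorem card_eq_orbit_sum {X : Type v} [Fintype X] [MulAction G X] (H : Subgroup G) :
    Fintype.card X = ∑ w : orbitRel.Quotient H X, Nat.card (orbit H (Quotient.out w)) := by
  rw [← Nat.card_eq_fintype_card, Nat.card_congr (selfEquivSigmaOrbits H X), Nat.card_sigma]

/-- The orbit count of a subgroup of odd order has the parity of the degree. -/
theorem orbits_mod_two {X : Type v} [Fintype X] [MulAction G X] (H : Subgroup G)
    (hodd : ¬ 2 ∣ Nat.card H) :
    Nat.card (orbitRel.Quotient H X) % 2 = Fintype.card X % 2 := by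
  rw [card_eq_orbit_sum H, Finset.sum_nat_mod, Finset.sum_congr rfl (g := fun _ => 1) fun w _ => ?_]
  · rw [Finset.sum_const, smul_eq_mul, mul_one, Finset.card_univ, Nat.card_eq_fintype_card]
  · have := orbit_card_odd H hodd (Quotient.out w)
    omega

end Aux

/-- The points moved in pairs. -/
noncomputable def swapped {G : Type u} [Group G] (X : Type v) [MulAction G X] (g : G) : ℕ :=
  Nat.card {x : X // g • x ≠ x ∧ g • g • x = x}

theorem fix_mul_self {G : Type u} [Group G] {X : Type v} [Fintype X] [MulAction G X] (g : G) :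
    Nat.card (fixedBy X (g * g)) = Nat.card (fixedBy X g) + swapped X g := by
  have h1 : Nat.card (fixedBy X (g * g)) = (Finset.univ.filter fun x : X => g • g • x = x).card := by
    rw [Nat.card_eq_fintype_card, Fintype.card_of_subtype]
    intro x
    simp [mul_smul]
  have h2 : Nat.card (fixedBy X g) = (Finset.univ.filter fun x : X => g • x = x).card := by
    rw [Nat.card_eq_fintype_card]
    exact Fintype.card_subtype _
  have h3 : swapped X g = (Finset.univ.filter fun x : X => g • x ≠ x ∧ g • g • x = x).card := by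
    rw [swapped, Nat.card_eq_fintype_card]
    exact Fintype.card_subtype _
  rw [h1, h2, h3, ← Finset.card_union_of_disjoint]
  · congr 1
    ext x
    simp only [Finset.mem_union, Finset.mem_filter, Finset.mem_univ, true_and]
    constructor
    · intro h
      by_cases e : g • x = x
      · exact Or.inl e
      · exact Or.inr ⟨e, h⟩
    · rintro (h | h)
      · rw [h, h]
      · exact h.2
  · rw [Finset.disjoint_left]
    intro x hx hx'
    simp only [Finset.mem_filter, Finset.mem_univ, true_and] at hx hx'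
    exact hx'.1 hx

/-- Pairs in the permutation action. -/
theorem fix_mul_swapped {G : Type u} [Group G] [Fintype G] {X : Type v} [Fintype X]
    [MulAction G X] (g : G) :
    fix X g * swapped X g = (Finset.univ.filter fun x : Fin 3 ↪ X =>
      g • x = (Equiv.swap (1 : Fin 3) 2).toEmbedding.trans x).card := by
  rw [fix, swapped, ← Nat.card_prod, ← Fintype.card_subtype, ← Nat.card_eq_fintype_card]
  refine Nat.card_congr
    { toFun := fun w => ⟨triple (a := w.1.1) (b := w.2.1) (c := g • w.2.1) (fun e => ?_)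
        (fun e => ?_) (Ne.symm w.2.2.1), ?_⟩
      invFun := fun x => (⟨x.1 0, ?_⟩, ⟨x.1 1, ?_, ?_⟩)
      left_inv := fun w => rfl
      right_inv := fun x => ?_ }
  · exact w.2.2.1 (by rw [← e]; exact w.1.2)
  · exact w.2.2.1 (by
      have h : g • w.1.1 = g • g • w.2.1 := congrArg (g • ·) e
      rw [w.2.2.2, mem_fixedBy.1 w.1.2] at h
      rw [← h]; exact w.1.2)
  · rw [smul_emb_iff]
    intro i
    fin_cases i
    · exact w.1.2
    · show g • w.2.1 = (![w.1.1, w.2.1, g • w.2.1] : Fin 3 → X) (Equiv.swap (1 : Fin 3) 2 1)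
      rw [Equiv.swap_apply_left]
      rfl
    · show g • g • w.2.1 = (![w.1.1, w.2.1, g • w.2.1] : Fin 3 → X) (Equiv.swap (1 : Fin 3) 2 2)
      rw [Equiv.swap_apply_right]
      exact w.2.2.2
  · have h := (smul_emb_iff g x.1 _).1 x.2 0
    rwa [Function.Embedding.trans_apply, Equiv.coe_toEmbedding,
      Equiv.swap_apply_of_ne_of_ne (by decide) (by decide)] at h
  · have h := (smul_emb_iff g x.1 _).1 x.2 1
    rw [Function.Embedding.trans_apply, Equiv.coe_toEmbedding, Equiv.swap_apply_left] at h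
    rw [h]
    exact fun e => absurd (x.1.injective e) (by decide)
  · have h := (smul_emb_iff g x.1 _).1 x.2 1
    have h' := (smul_emb_iff g x.1 _).1 x.2 2
    rw [Function.Embedding.trans_apply, Equiv.coe_toEmbedding, Equiv.swap_apply_left] at h
    rw [Function.Embedding.trans_apply, Equiv.coe_toEmbedding, Equiv.swap_apply_right] at h'
    rw [h, h']
  · refine Subtype.ext (Function.Embedding.ext fun i => ?_)
    have h := (smul_emb_iff g x.1 _).1 x.2 1
    rw [Function.Embedding.trans_apply, Equiv.coe_toEmbedding, Equiv.swap_apply_left] at h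
    fin_cases i
    · rfl
    · rfl
    · exact h

theorem swapped_eq {G : Type u} [Group G] [Fintype G] {X : Type v} [Fintype X]
    [MulAction G X] (g : G) :
    swapped X g = (Finset.univ.filter fun x : Fin 2 ↪ X =>
      g • x = (Equiv.swap (0 : Fin 2) 1).toEmbedding.trans x).card := by
  rw [swapped, ← Fintype.card_subtype, ← Nat.card_eq_fintype_card]
  refine Nat.card_congr
    { toFun := fun w => ⟨embFinTwo (a := w.1) (b := g • w.1) (Ne.symm w.2.1), ?_⟩
      invFun := fun x => ⟨x.1 0, ?_, ?_⟩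
      left_inv := fun w => rfl
      right_inv := fun x => ?_ }
  · rw [smul_emb_iff, Fin.forall_fin_two]
    refine ⟨?_, ?_⟩
    · rw [Function.Embedding.trans_apply, Equiv.coe_toEmbedding, Equiv.swap_apply_left]
      rfl
    · rw [Function.Embedding.trans_apply, Equiv.coe_toEmbedding, Equiv.swap_apply_right]
      exact w.2.2
  · have h := (smul_emb_iff g x.1 _).1 x.2 0
    rw [Function.Embedding.trans_apply, Equiv.coe_toEmbedding, Equiv.swap_apply_left] at h
    rw [h]
    exact fun e => absurd (x.1.injective e) (by decide)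
  · have h := (smul_emb_iff g x.1 _).1 x.2 0
    have h' := (smul_emb_iff g x.1 _).1 x.2 1
    rw [Function.Embedding.trans_apply, Equiv.coe_toEmbedding, Equiv.swap_apply_left] at h
    rw [Function.Embedding.trans_apply, Equiv.coe_toEmbedding, Equiv.swap_apply_right] at h'
    rw [h, h']
  · refine Subtype.ext (Function.Embedding.ext fun i => ?_)
    have h := (smul_emb_iff g x.1 _).1 x.2 0
    rw [Function.Embedding.trans_apply, Equiv.coe_toEmbedding, Equiv.swap_apply_left] at h
    fin_cases i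
    · rfl
    · exact h

variable {G : Type u} [Group G] [Fintype G] [IsSimpleGroup G] {p : ℕ} [Fact p.Prime]

namespace Three

variable {C : Ctx G p} {Ω : Type v} [Fintype Ω] [MulAction G Ω] [IsPretransitive G Ω]
  [FaithfulSMul G Ω]
variable (T : Three C Ω)
include T

/-- The arithmetic at an involution. -/
theorem arith_three (hmod : p % 4 = 3) {y : G} (hy : orderOf y = 2) :
    ∃ e : ℕ, ¬ 2 ∣ e ∧ 0 < e ∧ C.cz y = 3 * (3 * p - 1) * e ∧
      Nat.card G = 9 * p * e ^ 2 * (3 * p - 1) * (3 * p - 2) ∧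
      2 * p - 1 ≤ 3 * e ∧ ((p : ℤ) ∣ 3 * (e : ℤ) - 1 ∨ (p : ℤ) ∣ 3 * (e : ℤ) + 1) := by
  have hp : p.Prime := Fact.out
  have hp5 := C.hp5
  have hF : fix Ω y = 1 := by rw [C.fix_invol T.hΩ hy, if_neg (by omega)]
  obtain ⟨⟨α, hα⟩, huniq⟩ := Nat.card_eq_one_iff_exists.1 hF
  have hle : Subgroup.centralizer ({y} : Set G) ≤ stabilizer G α := by
    intro g hg
    rw [Subgroup.mem_centralizer_singleton_iff] at hg
    have h1 : y • g • α = g • α := by rw [← mul_smul, ← hg, mul_smul, hα]
    exact mem_stabilizer_iff.2 (congrArg Subtype.val (huniq ⟨g • α, h1⟩))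
  obtain ⟨j, hj⟩ := Subgroup.card_dvd_of_le hle
  have hG : Nat.card G = 3 * p * (C.cz y * j) := by
    rw [← card_stab_mul (G := G) α, T.hΩ, hj]
    rfl
  set r := 3 * p - 1 with hr
  have hrz : (r : ℤ) = 3 * p - 1 := by omega
  have hs : (3 * p - 2 : ℕ) = r - 1 := by omega
  have hk := T.key hy
  rw [hF, hG, show (3 * p : ℤ) - 2 = (r : ℤ) - 1 by omega, Nat.cast_one, ← hrz] at hk
  push_cast at hk
  have hc0 : (0 : ℤ) < C.cz y := by exact_mod_cast C.cz_pos y
  have hk' : 3 * (j : ℤ) * r = (C.cz y : ℤ) * ((r : ℤ) - 1) :=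
    mul_left_cancel₀ (show (p : ℤ) * (C.cz y * r) ≠ 0 from
      mul_ne_zero (by omega) (mul_ne_zero hc0.ne' (by omega))) (by linear_combination hk)
  have hk'' : 3 * j * r = C.cz y * (r - 1) := by
    have : ((3 * j * r : ℕ) : ℤ) = ((C.cz y * (r - 1) : ℕ) : ℤ) := by
      push_cast [Nat.cast_sub (show 1 ≤ r by omega)]
      exact hk'
    exact_mod_cast this
  have hcop : Nat.Coprime (3 * r) (r - 1) := by
    refine Nat.Coprime.mul_left (Nat.prime_three.coprime_iff_not_dvd.2 (by omega)) ?_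
    rw [show r = r - 1 + 1 by omega, Nat.add_sub_cancel, Nat.coprime_self_add_left]
    exact Nat.coprime_one_left _
  obtain ⟨e, he⟩ := hcop.dvd_of_dvd_mul_right ⟨j, by rw [← hk'']; ring⟩
  have hje : j = e * (r - 1) := Nat.eq_of_mul_eq_mul_left (show 0 < 3 * r by omega) (by
    rw [show 3 * r * j = 3 * j * r by ring, hk'', he]; ring)
  have he0 : 0 < e := Nat.pos_of_ne_zero fun e0 => by rw [e0, mul_zero] at he; omega
  have hGe : Nat.card G = 9 * p * e ^ 2 * r * (r - 1) := by rw [hG, he, hje]; ring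
  have hodd : ¬ 2 ∣ e := by
    intro h2
    have h1 : Nat.card G = C.cz y * (3 * p * e * (r - 1)) := by rw [hG, hje]; ring
    have h3 : 3 * p * e * (r - 1) ≠ 0 :=
      mul_ne_zero (mul_ne_zero (by omega) he0.ne') (by omega)
    have h4 := congrArg (fun k => Nat.factorization k 2) h1
    rw [Nat.factorization_mul (C.cz_pos y).ne' h3] at h4
    simp only [Finsupp.coe_add, Pi.add_apply, C.factorization_cz hy] at h4
    have h5 := (Nat.prime_two.pow_dvd_iff_le_factorization h3).1
      (show 2 ^ 1 ∣ 3 * p * e * (r - 1) from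
        dvd_mul_of_dvd_left (dvd_mul_of_dvd_right (by simpa using h2) _) _)
    omega
  refine ⟨e, hodd, he0, he, by rw [hs]; exact hGe, ?_⟩
  have h2M : (2 : ℤ) * C.M = 9 * (e : ℤ) ^ 2 * r * ((r : ℤ) - 1) := by
    have h := T.card_G
    rw [hGe] at h
    push_cast [Nat.cast_sub (show 1 ≤ r by omega)] at h
    exact mul_left_cancel₀ (show (p : ℤ) ≠ 0 by omega) (by linear_combination -h)
  have hdiv : (p : ℤ) ∣ 2 * ((3 * (e : ℤ) - 1) * (3 * (e : ℤ) + 1)) := by
    have hM : (C.M : ℤ) = C.n * p + 1 := by simp [Ctx.M]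
    rw [hM, hrz] at h2M
    exact ⟨2 * C.n - 9 * (e : ℤ) ^ 2 * (9 * p - 9), by linear_combination -h2M⟩
  have hpz : Prime (p : ℤ) := Nat.prime_iff_prime_int.1 hp
  have hor : (p : ℤ) ∣ 3 * (e : ℤ) - 1 ∨ (p : ℤ) ∣ 3 * (e : ℤ) + 1 :=
    hpz.dvd_mul.1 ((hpz.dvd_mul.1 hdiv).resolve_left fun h => by
      have := Int.le_of_dvd two_pos h
      omega)
  refine ⟨?_, hor⟩
  rcases hor with h | h
  all_goals
    obtain ⟨k, hk⟩ := h
    have hk2 : (2 : ℤ) ∣ (p : ℤ) * k := hk ▸ (by omega)
    have hkev : (2 : ℤ) ∣ k := (Int.prime_two.dvd_mul.1 hk2).resolve_left (by omega)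
    have hkpos : (0 : ℤ) < k := pos_of_mul_pos_right (hk ▸ (by omega)) (Int.natCast_nonneg p)
    obtain ⟨k', rfl⟩ := hkev
    have hle' : (p : ℤ) * 2 ≤ p * (2 * k') := mul_le_mul_of_nonneg_left (by omega) (by omega)
    omega

theorem card_pair_stab_eq (hmod : p % 4 = 3) {y : G} (hy : orderOf y = 2) :
    ∃ e : ℕ, ¬ 2 ∣ e ∧ ∀ a b : Ω, a ≠ b →
      Nat.card ↥(stabilizer G a ⊓ stabilizer G b) = 3 * e ^ 2 * (3 * p - 2) ∧
        Nat.card G = 9 * p * e ^ 2 * (3 * p - 1) * (3 * p - 2) := by
  obtain ⟨e, he, -, -, hG, -⟩ := T.arith_three hmod hy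
  refine ⟨e, he, fun a b hab => ⟨?_, hG⟩⟩
  have h := T.card_pair_stab hab
  rw [hG] at h
  refine Nat.eq_of_mul_eq_mul_left (show 0 < 3 * p * (3 * p - 1) from
    Nat.mul_pos (by have := C.hp5; omega) (by have := C.hp5; omega)) ?_
  rw [h]
  ring

theorem odd_of_two_fixed (hmod : p % 4 = 3) {g : G} (h : 2 ≤ fix Ω g) : ¬ 2 ∣ orderOf g := by
  obtain ⟨y, hy⟩ := C.exists_involution
  obtain ⟨e, he, hcard⟩ := T.card_pair_stab_eq hmod hy
  obtain ⟨a, b, hab, ha, hb⟩ := exists_fixed_pair h
  intro h2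
  have h3 := h2.trans (Subgroup.orderOf_dvd_natCard (stabilizer G a ⊓ stabilizer G b)
    (Subgroup.mem_inf.2 ⟨mem_stabilizer_iff.2 ha, mem_stabilizer_iff.2 hb⟩))
  rw [(hcard a b hab).1] at h3
  rcases Nat.prime_two.dvd_mul.1 h3 with h4 | h4
  · rcases Nat.prime_two.dvd_mul.1 h4 with h5 | h5
    · omega
    · exact he (Nat.prime_two.dvd_of_dvd_pow h5)
  · have := C.hp5; omega

theorem swapped_eq_zero (hmod : p % 4 = 3) {g : G} (h : 2 ≤ fix Ω g) : swapped Ω g = 0 := by
  rw [swapped, Nat.card_eq_zero]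
  exact Or.inl ⟨fun x => x.2.1 (smul_of_sq (T.odd_of_two_fixed hmod h) x.2.2)⟩

theorem sum_f3_eq {a b : Ω} (hab : a ≠ b) :
    ∑ g : G, (fix Ω g : ℤ) * ((fix Ω g : ℤ) - 1) * ((fix Ω g : ℤ) - 2) =
      Nat.card G * ((Nat.card (orbitRel.Quotient ↥(stabilizer G a ⊓ stabilizer G b) Ω) : ℤ) - 2) := by
  have := T.trans2
  have h := sum_fix_mul (G := G) (embFinTwo hab) (fun g => (fix Ω g : ℤ) - 2)
    fun c g => by simp only [fix_conj]
  simp only [fix_two_cast] at h
  rw [h, T.card_pairs, sum_filter_eq_subgroup (stabilizer G a ⊓ stabilizer G b) (fun g => by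
      rw [smul_emb_iff, Fin.forall_fin_two, embFinTwo_apply_zero, embFinTwo_apply_one,
        Subgroup.mem_inf, mem_stabilizer_iff, mem_stabilizer_iff]),
    Finset.sum_sub_distrib, Finset.sum_const, nsmul_eq_mul, Finset.card_univ,
    ← Nat.card_eq_fintype_card, ← Nat.cast_sum, sum_fix_subgroup]
  have h1 : ((3 * p * (3 * p - 1) * Nat.card ↥(stabilizer G a ⊓ stabilizer G b) : ℕ) : ℤ) =
      Nat.card G := by rw [T.card_pair_stab hab]
  push_cast [Nat.cast_sub (show 1 ≤ 3 * p by have := C.hp5; omega)] at h1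
  push_cast
  rw [← h1]
  ring

/-- The action is triply transitive. -/
theorem trans3 (hmod : p % 4 = 3) : IsMultiplyPretransitive G Ω 3 := by
  have hp5 := C.hp5
  obtain ⟨y, hy⟩ := C.exists_involution
  obtain ⟨e, he, hcard⟩ := T.card_pair_stab_eq hmod hy
  obtain ⟨α, β, hαβ⟩ : ∃ a b : Ω, a ≠ b := Fintype.exists_pair_of_one_lt_card
    (by rw [T.hΩ]; omega)
  set K := stabilizer G α ⊓ stabilizer G β with hK
  have hKodd : ¬ 2 ∣ Nat.card K := by
    rw [(hcard α β hαβ).1]
    intro h3
    rcases Nat.prime_two.dvd_mul.1 h3 with h4 | h4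
    · rcases Nat.prime_two.dvd_mul.1 h4 with h5 | h5
      · omega
      · exact he (Nat.prime_two.dvd_of_dvd_pow h5)
    · omega
  set q := Nat.card (orbitRel.Quotient K Ω) with hq
  let mk : Ω → orbitRel.Quotient K Ω := fun x => Quotient.mk'' x
  have hfixed : ∀ x : Ω, (∀ g : K, (g : G) • x = x) → ∀ z, mk z = mk x → z = x := by
    intro x hx z e'
    obtain ⟨g, hg⟩ := orbitRel_apply.1 (Quotient.eq''.1 e')
    exact hg.symm.trans (hx g)
  have hα : ∀ g : K, (g : G) • α = α := fun g => mem_stabilizer_iff.1 (Subgroup.mem_inf.1 g.2).1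
  have hβ : ∀ g : K, (g : G) • β = β := fun g => mem_stabilizer_iff.1 (Subgroup.mem_inf.1 g.2).2
  have hthree : ∀ c, c ≠ α → c ≠ β → ({mk α, mk β, mk c} : Finset _).card = 3 := fun c hcα hcβ =>
    Finset.card_eq_three.2 ⟨_, _, _, fun e' => hαβ (hfixed β hβ α e'),
      fun e' => hcα (hfixed α hα c e'.symm), fun e' => hcβ (hfixed β hβ c e'.symm), rfl⟩
  obtain ⟨c₀, -, hc₀⟩ := Finset.exists_mem_notMem_of_card_lt_card
    (t := (Finset.univ : Finset Ω)) (s := {α, β}) (by
      rw [Finset.card_univ, T.hΩ, Finset.card_pair hαβ]; omega)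
  rw [Finset.mem_insert, Finset.mem_singleton, not_or] at hc₀
  have hq3 : 3 ≤ q := by
    rw [← hthree c₀ hc₀.1 hc₀.2, hq, Nat.card_eq_fintype_card]
    exact Finset.card_le_univ _
  have hpar := orbits_mod_two (X := Ω) K hKodd
  rw [T.hΩ, ← hq] at hpar
  have hsum := T.sum_R_T
  rw [T.sum_f3_eq hαβ, ← hK, ← hq] at hsum
  have hnn := Finset.sum_nonneg (s := C.R) fun g _ => T.deficit_nonneg g
  rw [hsum] at hnn
  have hGpos : (0 : ℤ) < Nat.card G := by exact_mod_cast Nat.card_pos
  have hq5 : q ≤ 5 := by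
    have : 0 ≤ (Nat.card G : ℤ) * (5 - (q : ℤ)) := by linarith
    have := nonneg_of_mul_nonneg_right this hGpos
    omega
  have hq' : q = 3 := by
    by_contra hne
    have hq55 : q = 5 := by omega
    rw [hq55, show ((5 : ℕ) : ℤ) - 2 = 3 by norm_num, mul_comm (Nat.card G : ℤ), sub_self] at hsum
    rw [Finset.sum_eq_zero_iff_of_nonneg fun g _ => T.deficit_nonneg g] at hsum
    have h2 : ∀ g ∈ (Finset.univ : Finset K).erase 1, fix Ω (g : G) = 2 := by
      intro g hg
      have hg1 : (g : G) ≠ 1 := fun e' => Finset.ne_of_mem_erase hg (Subtype.ext e')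
      have hge : 2 ≤ fix Ω (g : G) := by
        rw [fixedBy_card_eq, ← Finset.card_pair hαβ]
        refine Finset.card_le_card fun x hx => ?_
        rw [Finset.mem_insert, Finset.mem_singleton] at hx
        rcases hx with rfl | rfl <;> simp [hα g, hβ g]
      have hR : (g : G) ∈ C.R := C.mem_R.2 fun hd => by
        rw [T.fix_singular hd] at hge
        omega
      have h0 := hsum _ hR
      have hlt := T.fix_lt hg1
      rcases mul_eq_zero.1 h0 with h0' | h0'
      · rcases mul_eq_zero.1 h0' with h1 | h1 <;> omega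
      · omega
    have h := sum_fix_subgroup K Ω
    rw [← Finset.add_sum_erase _ _ (Finset.mem_univ (1 : K)), Finset.sum_congr rfl h2,
      Finset.sum_const, Finset.card_erase_of_mem (Finset.mem_univ _), Finset.card_univ,
      ← Nat.card_eq_fintype_card, OneMemClass.coe_one, fix_one, T.hΩ, ← hq, hq55, smul_eq_mul] at h
    have := (hcard α β hαβ).1
    rw [← hK] at this
    have h0 : 0 < Nat.card K := Nat.card_pos
    have : 3 ∣ Nat.card K := by rw [this]; exact dvd_mul_of_dvd_left (dvd_mul_right 3 _) _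
    omega
  have hrest : ∀ c, c ≠ α → c ≠ β → ∃ g : G, g • α = α ∧ g • β = β ∧ g • c₀ = c := by
    intro c hcα hcβ
    have hall : ({mk α, mk β, mk c₀} : Finset _) = Finset.univ := Finset.eq_univ_of_card _ (by
      rw [hthree c₀ hc₀.1 hc₀.2, ← Nat.card_eq_fintype_card, ← hq, hq'])
    have hc := Finset.mem_univ (mk c)
    rw [← hall, Finset.mem_insert, Finset.mem_insert, Finset.mem_singleton] at hc
    rcases hc with hc | hc | hc
    · exact absurd (hfixed α hα c hc) hcα
    · exact absurd (hfixed β hβ c hc) hcβ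
    · obtain ⟨g, hg⟩ := orbitRel_apply.1 (Quotient.eq''.1 hc)
      exact ⟨g, hα g, hβ g, hg⟩
  refine T.trans3_of hαβ fun c d hcα hcβ hdα hdβ => ?_
  obtain ⟨g, hgα, hgβ, hgc⟩ := hrest c hcα hcβ
  obtain ⟨g', hgα', hgβ', hgd⟩ := hrest d hdα hdβ
  refine ⟨g' * g⁻¹, ?_, ?_, ?_⟩
  · rw [mul_smul, inv_smul_eq_iff.2 hgα.symm, hgα']
  · rw [mul_smul, inv_smul_eq_iff.2 hgβ.symm, hgβ']
  · rw [mul_smul, inv_smul_eq_iff.2 hgc.symm, hgd]

/-- The sums of the fixed point function and of its twisted square. -/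
theorem sums (hmod : p % 4 = 3) (x₀ : Fin 3 ↪ Ω) :
    (∑ g : G, (fix Ω g : ℤ) * ((fix Ω g : ℤ) - 1) * ((fix Ω g : ℤ) - 2) = Nat.card G) ∧
      (∑ g : G, (fix Ω g : ℤ) ^ 3 = 5 * Nat.card G) ∧
      (∑ g : G, (fix Ω g : ℤ) ^ 4 =
        ((Nat.card (orbitRel.Quotient (stabilizer G x₀) Ω) : ℤ) + 11) * Nat.card G) ∧
      (∑ g : G, (swapped Ω g : ℤ) = Nat.card G) ∧
      (∑ g : G, (fix Ω g : ℤ) * (swapped Ω g : ℤ) = Nat.card G) := by
  have := T.trans3 hmod
  have := T.trans2
  have : Nonempty (Fin 3 ↪ Ω) := ⟨x₀⟩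
  have : Nonempty (Fin 2 ↪ Ω) := ⟨(Fin.castSuccEmb : Fin 2 ↪ Fin 3).trans x₀⟩
  have h3 : ∑ g : G, (fix Ω g : ℤ) * ((fix Ω g : ℤ) - 1) * ((fix Ω g : ℤ) - 2) = Nat.card G := by
    rw [← sum_fix (G := G) x₀]
    exact Finset.sum_congr rfl fun g _ => (fix_three_cast g).symm
  have hcube : ∑ g : G, (fix Ω g : ℤ) ^ 3 = 5 * Nat.card G := by
    have h : ∀ g : G, (fix Ω g : ℤ) ^ 3 = (fix Ω g : ℤ) * ((fix Ω g : ℤ) - 1) *
        ((fix Ω g : ℤ) - 2) + 3 * (fix Ω g : ℤ) ^ 2 - 2 * (fix Ω g : ℤ) := fun g => by ring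
    rw [Finset.sum_congr rfl fun g _ => h g, Finset.sum_sub_distrib, Finset.sum_add_distrib,
      ← Finset.mul_sum, ← Finset.mul_sum, h3, T.sum_sq, T.sum_F]
    ring
  refine ⟨h3, hcube, ?_, ?_, ?_⟩
  · have h4 := sum_fix_mul (G := G) x₀ (fun g => (fix Ω g : ℤ)) fun c g => by simp only [fix_conj]
    simp only [fix_three_cast] at h4
    rw [sum_filter_eq_subgroup (stabilizer G x₀) (fun g => mem_stabilizer_iff.symm),
      ← Nat.cast_sum, sum_fix_subgroup, Nat.cast_mul, mul_left_comm, ← Nat.cast_mul,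
      card_stab_mul] at h4
    have h : ∀ g : G, (fix Ω g : ℤ) ^ 4 = (fix Ω g : ℤ) * ((fix Ω g : ℤ) - 1) *
        ((fix Ω g : ℤ) - 2) * (fix Ω g : ℤ) + 3 * (fix Ω g : ℤ) ^ 3 - 2 * (fix Ω g : ℤ) ^ 2 :=
      fun g => by ring
    rw [Finset.sum_congr rfl fun g _ => h g, Finset.sum_sub_distrib, Finset.sum_add_distrib,
      ← Finset.mul_sum, ← Finset.mul_sum, hcube, T.sum_sq, h4]
    ring
  · rw [Finset.sum_congr rfl fun g _ => congrArg (Nat.cast : ℕ → ℤ) (swapped_eq (X := Ω) g),
      ← Nat.cast_sum]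
    refine congrArg Nat.cast ?_
    convert sum_card_twist (G := G)
      (fun x : Fin 2 ↪ Ω => (Equiv.swap (0 : Fin 2) 1).toEmbedding.trans x)
  · rw [Finset.sum_congr rfl fun g _ =>
        (Nat.cast_mul _ _).symm.trans (congrArg (Nat.cast : ℕ → ℤ) (fix_mul_swapped (X := Ω) g)),
      ← Nat.cast_sum]
    refine congrArg Nat.cast ?_
    convert sum_card_twist (G := G)
      (fun x : Fin 3 ↪ Ω => (Equiv.swap (1 : Fin 3) 2).toEmbedding.trans x)

/-- A stabiliser of three points has many orbits. -/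
theorem orbits_bound (hmod : p % 4 = 3) (x₀ : Fin 3 ↪ Ω) :
    p + 2 ≤ Nat.card (orbitRel.Quotient (stabilizer G x₀) Ω) := by
  have hp5 := C.hp5
  obtain ⟨t, ht⟩ := C.p_odd
  obtain ⟨hf3, hcube, hfour, hD, hFD⟩ := T.sums hmod x₀
  set o := Nat.card (orbitRel.Quotient (stabilizer G x₀) Ω)
  let F : G → ℤ := fun g => (fix Ω g : ℤ)
  let D : G → ℤ := fun g => (swapped Ω g : ℤ)
  have hFdef : F = fun g => (fix Ω g : ℤ) := rfl
  have hDdef : D = fun g => (swapped Ω g : ℤ) := rfl
  have hsw : ∀ g, F g * (F g - 1) * D g = 0 := by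
    intro g
    by_cases h : 2 ≤ fix Ω g
    · simp [hDdef, T.swapped_eq_zero hmod h]
    · rcases (show fix Ω g = 0 ∨ fix Ω g = 1 by omega) with e | e <;> simp [hFdef, e]
  have hG0 : (Nat.card G : ℂ) ≠ 0 := Char.card_ne_zero
  have hπ : IsCharacter G (fun g : G => (fix Ω g : ℂ)) := Char.pi_isCharacter
  obtain ⟨s, a, hs, ha, hmul, hsq⟩ := Char.exists_sym_alt hπ
  have hval : ∀ g, s g = ((F g ^ 2 + F g + D g : ℤ) : ℂ) / 2 ∧
      a g = ((F g ^ 2 - F g - D g : ℤ) : ℂ) / 2 := by
    intro g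
    have h1 := congrFun hmul g
    have h2 : ((fix Ω (g * g) : ℕ) : ℂ) = s g - a g := hsq g
    rw [show fix Ω (g * g) = fix Ω g + swapped Ω g from fix_mul_self g] at h2
    simp only [Pi.mul_apply, Pi.add_apply] at h1
    push_cast [hFdef, hDdef] at h2 ⊢
    constructor
    · linear_combination -(1 / 2 : ℂ) * h1 - (1 / 2 : ℂ) * h2
    · linear_combination -(1 / 2 : ℂ) * h1 + (1 / 2 : ℂ) * h2
  have hinner : ∀ (φ ψ : G → ℂ) (u : G → ℤ) (N : ℤ),
      (∀ g, φ g * conj (ψ g) = (u g : ℂ) / 2) → ∑ g, u g = N * Nat.card G →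
      classInner φ ψ = (N : ℂ) / 2 := by
    intro φ ψ u N h1 h2
    rw [classInner, Finset.sum_congr rfl fun g _ => h1 g, ← Finset.sum_div, ← Int.cast_sum, h2]
    push_cast
    field_simp
  obtain ⟨n, hn⟩ := Classical.axiomOfChoice fun θ : IrrCharacter G =>
    Char.classInner_isCharacter_eq_natCast ha (Char.IsIrr.isCharacter θ.2)
  obtain ⟨m, hm⟩ := Classical.axiomOfChoice fun θ : IrrCharacter G =>
    Char.classInner_isCharacter_eq_natCast hs (Char.IsIrr.isCharacter θ.2)
  have hone : ((Blocks.triv G : IrrCharacter G) : G → ℂ) = fun _ => 1 := rfl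
  have hχ : ∀ g, (C.χ : G → ℂ) g = ((F g - 1 : ℤ) : ℂ) := fun g => by rw [C.val_spec, T.hv]
  have hs2 : ∑ g : G, (F g ^ 2 + F g + D g) = (4 * Nat.card G : ℤ) := by
    simp only [hFdef, hDdef, Finset.sum_add_distrib, T.sum_sq, T.sum_F, hD]
    ring
  have ha2 : ∑ g : G, (F g ^ 2 - F g - D g) = 0 := by
    simp only [hFdef, hDdef, Finset.sum_sub_distrib, T.sum_sq, T.sum_F, hD]
    ring
  have hn1 : n (Blocks.triv G) = 0 := by
    have h := hinner a (fun _ => 1) _ 0 (fun g => by rw [map_one, mul_one]; exact (hval g).2)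
      (by rw [ha2, zero_mul])
    rw [← hone, hn] at h
    norm_num at h
    exact h
  have hsχ : ∑ g : G, (F g ^ 2 + F g + D g) * (F g - 1) = (4 * Nat.card G : ℤ) := by
    have : ∀ g : G, (F g ^ 2 + F g + D g) * (F g - 1) = F g ^ 3 - F g + F g * D g - D g :=
      fun g => by ring
    rw [Finset.sum_congr rfl fun g _ => this g]
    simp only [hFdef, hDdef, Finset.sum_sub_distrib, Finset.sum_add_distrib, hcube, T.sum_F, hD,
      hFD]
    ring
  have haχ : ∑ g : G, (F g ^ 2 - F g - D g) * (F g - 1) = (2 * Nat.card G : ℤ) := by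
    have : ∀ g : G, (F g ^ 2 - F g - D g) * (F g - 1) =
        F g ^ 3 - 2 * F g ^ 2 + F g - F g * D g + D g := fun g => by ring
    rw [Finset.sum_congr rfl fun g _ => this g]
    simp only [hFdef, hDdef, Finset.sum_sub_distrib, Finset.sum_add_distrib, hcube, T.sum_F, hD,
      hFD, ← Finset.mul_sum, T.sum_sq]
    ring
  have hnχ : n C.χ = 1 := by
    have h := hinner a (C.χ : G → ℂ) _ 2 (fun g => by
      rw [(hval g).2, hχ, map_intCast]; push_cast; ring) haχ
    rw [hn] at h
    norm_num at h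
    exact h
  have hmχ : m C.χ = 2 := by
    have h := hinner s (C.χ : G → ℂ) _ 4 (fun g => by
      rw [(hval g).1, hχ, map_intCast]; push_cast; ring) hsχ
    rw [hm] at h
    norm_num at h
    exact_mod_cast h
  have hsing : ∀ g, p ∣ orderOf g → F g ^ 2 - F g - D g = 0 := by
    intro g hg
    have hod : ¬ 2 ∣ orderOf g := by rw [C.orderOf_singular hg]; omega
    have h0 : swapped Ω g = 0 := by
      rw [swapped, Nat.card_eq_zero]
      exact Or.inl ⟨fun x => x.2.1 (smul_of_sq hod x.2.2)⟩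
    simp [hFdef, hDdef, T.fix_singular hg, h0]
  have hnη : ∀ η ∈ C.D.Y, n η = 1 := by
    intro η hη
    have haη : ∑ g : G, (F g ^ 2 - F g - D g) * (F g - 2) = (2 * Nat.card G : ℤ) := by
      have : ∀ g : G, (F g ^ 2 - F g - D g) * (F g - 2) =
          (F g ^ 2 - F g - D g) * (F g - 1) - (F g ^ 2 - F g - D g) := fun g => by ring
      rw [Finset.sum_congr rfl fun g _ => this g, Finset.sum_sub_distrib, haχ, ha2, sub_zero]
    have h := hinner a (η : G → ℂ) _ 2 (fun g => by
      rw [(hval g).2]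
      by_cases hg : p ∣ orderOf g
      · rw [hsing g hg]; simp
      · rw [C.eta_apply hη hg, hχ, T.ha, map_add, map_intCast, map_intCast]
        push_cast
        ring) haη
    rw [hn] at h
    norm_num at h
    exact h
  set B : Finset (IrrCharacter G) := C.D.X ∪ C.D.Y with hB
  obtain ⟨θ₀, hθ₀, hθn⟩ : ∃ θ ∈ Bᶜ, n θ ≠ 0 := by
    by_contra! hall
    have h := congrFun (Char.classFun_expansion (Char.isClassFunction_of_isCharacter ha)) 1
    simp only [Finset.sum_apply, Pi.smul_apply, smul_eq_mul, hn] at h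
    rw [← Finset.sum_add_sum_compl B, Finset.sum_eq_zero (s := Bᶜ) (fun θ hθ => by
        rw [hall θ hθ, Nat.cast_zero, zero_mul]), add_zero, hB, Finset.sum_union C.D.disj, C.sum_X,
      hn1, hnχ, Finset.sum_congr rfl (g := fun _ => ((3 * p - 2 : ℤ) : ℂ)) (fun η hη => by
        rw [hnη η hη, Nat.cast_one, one_mul, C.eta_apply hη Brauer.not_dvd_one_order, hχ, T.ha]
        simp only [hFdef, fix_one, T.hΩ]
        push_cast
        ring),
      Finset.sum_const, C.D.cardY, show (p - 1) / 2 = t by omega, hχ, (hval 1).2,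
      hone] at h
    have hD1 : D 1 = 0 := by simp [hDdef, swapped]
    rw [hD1] at h
    simp only [hFdef, fix_one, T.hΩ, nsmul_eq_mul, Nat.cast_zero, Nat.cast_one, zero_mul,
      one_mul, zero_add] at h
    push_cast at h
    have h' : ((9 * (p : ℤ) ^ 2 - 3 * p : ℤ) : ℂ) =
        ((2 * (3 * (p : ℤ) - 1) + 2 * t * (3 * (p : ℤ) - 2) : ℤ) : ℂ) := by
      push_cast
      linear_combination 2 * h
    have h'' := Int.cast_injective h'
    have hpz : (p : ℤ) = 2 * t + 1 := by exact_mod_cast ht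
    rw [hpz] at h''
    nlinarith
  obtain ⟨A, hAeq, hA⟩ : ∃ A : ℕ, classInner a a = (A : ℂ) ∧ t + 2 ≤ A := by
    refine ⟨∑ θ : IrrCharacter G, n θ * n θ, ?_, ?_⟩
    · rw [Char.classInner_eq_sum (Char.isClassFunction_of_isCharacter ha), Nat.cast_sum]
      exact Finset.sum_congr rfl fun θ _ => by
        rw [← Char.classInner_conj_symm (φ := a), hn, Complex.conj_natCast, Nat.cast_mul]
    · rw [← Finset.sum_add_sum_compl B, hB, Finset.sum_union C.D.disj, C.sum_X, hn1, hnχ,
        Finset.sum_congr (s₁ := C.D.Y) rfl (g := fun _ => 1) (fun η hη => by rw [hnη η hη]),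
        Finset.sum_const, C.D.cardY, smul_eq_mul, ← hB]
      have h1 : 1 ≤ ∑ θ ∈ Bᶜ, n θ * n θ := le_trans
        (Nat.mul_pos (Nat.pos_of_ne_zero hθn) (Nat.pos_of_ne_zero hθn))
        (Finset.single_le_sum (f := fun θ => n θ * n θ) (fun θ _ => Nat.zero_le _) hθ₀)
      omega
  obtain ⟨S, hSeq, hS⟩ : ∃ S : ℕ, classInner s a = (S : ℂ) ∧ 2 ≤ S := by
    refine ⟨∑ θ : IrrCharacter G, m θ * n θ, ?_, ?_⟩
    · rw [Char.classInner_eq_sum (Char.isClassFunction_of_isCharacter hs), Nat.cast_sum]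
      exact Finset.sum_congr rfl fun θ _ => by
        rw [← Char.classInner_conj_symm (φ := a), hn, hm, Complex.conj_natCast, Nat.cast_mul]
    · have := Finset.single_le_sum (f := fun θ => m θ * n θ) (fun θ _ => Nat.zero_le _)
        (Finset.mem_univ C.χ)
      simp only [hmχ, hnχ] at this
      omega
  -- the value of the three inner products
  have hsub : classInner s s - classInner a a = ((6 : ℤ) : ℂ) := by
    simp only [classInner, ← mul_sub, ← Finset.sum_sub_distrib]
    rw [Finset.sum_congr rfl (g := fun g => ((F g ^ 3 + F g ^ 2 * D g : ℤ) : ℂ)) fun g _ => by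
      rw [(hval g).1, (hval g).2]
      simp only [map_div₀, map_intCast, map_ofNat]
      push_cast
      ring, ← Int.cast_sum]
    have : ∑ g : G, (F g ^ 3 + F g ^ 2 * D g) = (6 * Nat.card G : ℤ) := by
      have e : ∀ g, F g ^ 3 + F g ^ 2 * D g = F g ^ 3 + F g * D g := fun g => by
        linear_combination hsw g
      rw [Finset.sum_congr rfl fun g _ => e g, Finset.sum_add_distrib]
      simp only [hFdef, hDdef, hcube, hFD]
      ring
    rw [this]
    push_cast
    field_simp
  have htot : classInner s s + classInner a a + 2 * classInner s a = (((o : ℤ) + 11 : ℤ) : ℂ) := by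
    simp only [classInner, Finset.mul_sum, ← Finset.sum_add_distrib]
    rw [Finset.sum_congr rfl (g := fun g => (Nat.card G : ℂ)⁻¹ * ((F g ^ 4 : ℤ) : ℂ)) fun g _ => by
      rw [(hval g).1, (hval g).2]
      simp only [map_div₀, map_intCast, map_ofNat]
      push_cast
      ring, ← Finset.mul_sum, ← Int.cast_sum]
    simp only [hFdef, hfour]
    push_cast
    field_simp
  have h1 : classInner s s = (A : ℂ) + ((6 : ℤ) : ℂ) := by rw [← hAeq, ← hsub]; ring
  rw [h1, hAeq, hSeq] at htot
  have h2 : 2 * A + 6 + 2 * S = o + 11 := by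
    have : ((2 * A + 6 + 2 * S : ℕ) : ℂ) = ((o + 11 : ℕ) : ℂ) := by
      push_cast at htot ⊢
      linear_combination htot
    exact_mod_cast this
  omega

/-- The fixed points of a stabiliser of three points. -/
theorem fix_stab_odd (hmod : p % 4 = 3) (x₀ : Fin 3 ↪ Ω) :
    ¬ 2 ∣ (Finset.univ.filter fun z : Ω => ∀ u : G, u • x₀ = x₀ → u • z = z).card := by
  have := T.trans3 hmod
  obtain ⟨g, hg⟩ := MulAction.exists_smul_eq G x₀
    ((Equiv.swap (0 : Fin 3) 1).toEmbedding.trans x₀)
  rw [smul_emb_iff] at hg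
  have hg0 : g • x₀ 0 = x₀ 1 := by simpa using hg 0
  have hg1 : g • x₀ 1 = x₀ 0 := by simpa using hg 1
  have hg2 : g • x₀ 2 = x₀ 2 := by
    have := hg 2
    rwa [Function.Embedding.trans_apply, Equiv.coe_toEmbedding,
      Equiv.swap_apply_of_ne_of_ne (by decide) (by decide)] at this
  have hF : ∀ z, g • z = z → z = x₀ 2 := by
    intro z hz
    by_contra hne
    have h2 : 2 ≤ fix Ω g := by
      rw [fixedBy_card_eq, ← Finset.card_pair hne]
      refine Finset.card_le_card fun w hw => ?_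
      rw [Finset.mem_insert, Finset.mem_singleton] at hw
      rcases hw with rfl | rfl <;> simp [hz, hg2]
    have h01 := smul_of_sq (T.odd_of_two_fixed hmod h2) (show g • g • x₀ 0 = x₀ 0 by rw [hg0, hg1])
    exact absurd (x₀.injective (h01.symm.trans hg0)) (by decide)
  set W := Finset.univ.filter fun z : Ω => ∀ u : G, u • x₀ = x₀ → u • z = z with hW
  have hgW : ∀ z, z ∈ W → g • z ∈ W := by
    intro z hz
    rw [hW, Finset.mem_filter] at hz ⊢
    refine ⟨Finset.mem_univ _, fun u hu => ?_⟩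
    rw [smul_emb_iff] at hu
    have h := hz.2 (g⁻¹ * u * g) (by
      rw [smul_emb_iff]
      intro i
      rw [mul_smul, mul_smul, inv_smul_eq_iff, hg i, Function.Embedding.trans_apply, hu])
    rwa [mul_smul, mul_smul, inv_smul_eq_iff] at h
  have hgg : ∀ z, z ∈ W → g • g • z = z := by
    intro z hz
    rw [hW, Finset.mem_filter] at hz
    have h := hz.2 (g * g) ((smul_emb_iff _ _ _).2 fun i => by
      rw [mul_smul]
      fin_cases i
      · show g • g • x₀ 0 = x₀ 0; rw [hg0, hg1]
      · show g • g • x₀ 1 = x₀ 1; rw [hg1, hg0]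
      · show g • g • x₀ 2 = x₀ 2; rw [hg2, hg2])
    rwa [mul_smul] at h
  have hx2 : x₀ 2 ∈ W := Finset.mem_filter.2 ⟨Finset.mem_univ _, fun u hu =>
    (smul_emb_iff _ _ _).1 hu 2⟩
  let σ : Equiv.Perm W :=
    { toFun := fun z => ⟨g • z.1, hgW _ z.2⟩
      invFun := fun z => ⟨g • z.1, hgW _ z.2⟩
      left_inv := fun z => Subtype.ext (hgg _ z.2)
      right_inv := fun z => Subtype.ext (hgg _ z.2) }
  have hσ : σ ^ 2 ^ 1 = 1 := by
    refine Equiv.ext fun z => Subtype.ext ?_
    rw [pow_one, pow_two, Equiv.Perm.mul_apply]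
    exact hgg _ z.2
  have : Fact (Nat.Prime 2) := ⟨Nat.prime_two⟩
  have hfix := Equiv.Perm.card_compl_support_modEq (p := 2) (n := 1) hσ
  have hone : σ.supportᶜ = {⟨x₀ 2, hx2⟩} := by
    ext z
    rw [Finset.mem_compl, Equiv.Perm.mem_support, not_not, Finset.mem_singleton]
    exact ⟨fun h => Subtype.ext (hF _ (congrArg Subtype.val h)), fun h => h ▸ Subtype.ext hg2⟩
  rw [hone, Finset.card_singleton, Fintype.card_coe] at hfix
  intro h2
  rw [Nat.ModEq] at hfix
  omega

/-- The final case, where the parameter is a power of three. -/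
theorem three_power (hmod : p % 4 = 3) {y : G} (hy : orderOf y = 2) {e k : ℕ} (he0 : 0 < e)
    (hcy : C.cz y = 3 * (3 * p - 1) * e)
    (hG : Nat.card G = 9 * p * e ^ 2 * (3 * p - 1) * (3 * p - 2))
    (hebig : 2 * p - 1 ≤ 3 * e) (hemod : (p : ℤ) ∣ 3 * (e : ℤ) - 1 ∨ (p : ℤ) ∣ 3 * (e : ℤ) + 1)
    (hk : e = 3 ^ k) : False := by
  have hp : p.Prime := Fact.out
  have hp5 := C.hp5
  have h3f : Fact (Nat.Prime 3) := ⟨Nat.prime_three⟩
  have h3p : ¬ 3 ∣ p := fun h => by
    have := (Nat.prime_dvd_prime_iff_eq Nat.prime_three hp).1 h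
    omega
  obtain ⟨R⟩ := (inferInstance : Nonempty (Sylow 3 G))
  have hdvdR : 9 * e ^ 2 ∣ Nat.card (R : Subgroup G) := by
    rw [R.card_eq_multiplicity, show 9 * e ^ 2 = 3 ^ (2 + 2 * k) by rw [hk]; ring]
    refine pow_dvd_pow 3 ((Nat.prime_three.pow_dvd_iff_le_factorization Nat.card_pos.ne').1 ?_)
    rw [hG, hk]
    exact ⟨p * (3 * p - 1) * (3 * p - 2), by ring⟩
  have : Nontrivial (R : Subgroup G) := Finite.one_lt_card_iff_nontrivial.1 (by
    have := Nat.le_of_dvd Nat.card_pos hdvdR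
    have := pow_pos he0 2
    omega)
  have hZ := R.isPGroup'.center_nontrivial
  obtain ⟨⟨⟨z, hzR⟩, hzc⟩, hz1⟩ := exists_ne (1 : Subgroup.center (R : Subgroup G))
  have hz1' : z ≠ 1 := fun e' => hz1 (Subtype.ext (Subtype.ext e'))
  have hcz : 9 * e ^ 2 ∣ C.cz z := by
    refine hdvdR.trans (Subgroup.card_dvd_of_le fun w hw => ?_)
    rw [Subgroup.mem_centralizer_singleton_iff]
    exact congrArg Subtype.val (Subgroup.mem_center_iff.1 hzc ⟨w, hw⟩)
  obtain ⟨i, hi⟩ := IsPGroup.iff_orderOf.1 R.isPGroup' ⟨z, hzR⟩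
  rw [Subgroup.orderOf_mk] at hi
  have hzp : ¬ p ∣ orderOf z := fun h => by
    rw [hi] at h
    have := (Nat.prime_dvd_prime_iff_eq hp Nat.prime_three).1 (hp.dvd_of_dvd_pow h)
    omega
  obtain ⟨n, hn0, hn⟩ := T.count hy hzp hz1'
  rw [C.fix_invol T.hΩ hy, if_neg (by omega), hcy] at hn
  push_cast [Nat.cast_sub (show 1 ≤ 3 * p by omega)] at hn
  have hcn : (C.cz z : ℤ) * n = 3 * e * (3 * (p : ℤ) - (fix Ω z : ℤ)) :=
    mul_right_cancel₀ (show (3 * (p : ℤ) - 1) ≠ 0 by omega) (by linear_combination hn)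
  have hF3 : 3 ∣ fix Ω z := by
    have hpg : IsPGroup 3 (Subgroup.zpowers z) := IsPGroup.of_card (n := i)
      (by rw [Nat.card_zpowers, hi])
    have h := hpg.card_modEq_card_fixedPoints (α := Ω)
    rw [Nat.card_eq_fintype_card (α := Ω), T.hΩ] at h
    have he' : Nat.card (fixedPoints (Subgroup.zpowers z) Ω) = fix Ω z :=
      Nat.card_congr (Equiv.subtypeEquivRight fun ω =>
        ⟨fun hh => hh ⟨z, Subgroup.mem_zpowers z⟩, fun hh x => by
          have : Subgroup.zpowers z ≤ stabilizer G ω := Subgroup.zpowers_le.mpr hh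
          exact mem_stabilizer_iff.1 (this x.2)⟩)
    rw [he', Nat.ModEq] at h
    omega
  have hlt := T.fix_lt hz1'
  obtain ⟨d, hd⟩ : ∃ d : ℕ, d + fix Ω z = 3 * p := ⟨3 * p - fix Ω z, by omega⟩
  have hdz : (3 * (p : ℤ) - (fix Ω z : ℤ)) = d := by omega
  rw [hdz] at hcn
  have hdd : 3 * e ∣ d := by
    have h1 : ((9 * e ^ 2 : ℕ) : ℤ) ∣ ((3 * e * d : ℕ) : ℤ) := by
      push_cast
      rw [← hcn]
      exact dvd_mul_of_dvd_left (by exact_mod_cast hcz) n
    have h2 := Int.natCast_dvd_natCast.1 h1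
    rw [show 9 * e ^ 2 = 3 * e * (3 * e) by ring] at h2
    exact Nat.dvd_of_mul_dvd_mul_left (by omega) h2
  by_cases hF0 : fix Ω z = 0
  · rw [hF0, add_zero] at hd
    rw [hd] at hdd
    have h3e : e ∣ p := Nat.dvd_of_mul_dvd_mul_left (by norm_num) hdd
    rw [hk] at h3e hebig
    rcases k with _ | k
    · omega
    · exact h3p ((dvd_pow_self 3 k.succ_ne_zero).trans h3e)
  have hF3' : 3 ≤ fix Ω z := Nat.le_of_dvd (Nat.pos_of_ne_zero hF0) hF3
  obtain ⟨q, hq⟩ := hdd
  have hq1 : q = 1 := by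
    rcases q with _ | _ | q
    · omega
    · rfl
    · have : 3 * e * 2 ≤ 3 * e * (q + 1 + 1) := Nat.mul_le_mul_left _ (by omega)
      omega
  rw [hq1, mul_one] at hq
  rw [hq] at hcn
  push_cast at hcn
  have hczle : (C.cz z : ℤ) ≤ 9 * (e : ℤ) ^ 2 := by
    rw [show 9 * (e : ℤ) ^ 2 = 3 * e * (3 * e) by ring, ← hcn]
    exact le_mul_of_one_le_right (Int.natCast_nonneg _) hn0
  have hczeq : C.cz z = 9 * e ^ 2 :=
    le_antisymm (by exact_mod_cast hczle) (Nat.le_of_dvd (C.cz_pos z) hcz)
  have hp7 : p = 7 := by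
    have := T.trans3 hmod
    have : Nonempty (Fin 3 ↪ Ω) := Function.Embedding.nonempty_of_card_le
      (by rw [Fintype.card_fin, T.hΩ]; omega)
    obtain ⟨x₀⟩ := this
    have hsum := T.sum_R_T
    rw [(T.sums hmod x₀).1] at hsum
    set V : G → ℤ := fun g =>
      ((fix Ω g : ℤ) - 1) * ((fix Ω g : ℤ) - 2) * (3 * p - (fix Ω g : ℤ)) with hV
    set K := Finset.univ.filter (fun x : G => IsConj z x) with hK
    have hKR : K ⊆ C.R := by
      intro x hx
      obtain ⟨c, rfl⟩ := isConj_iff.1 (Finset.mem_filter.1 hx).2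
      rw [C.mem_R, Blocks.orderOf_conj']
      exact hzp
    have h1 : (K.card : ℤ) * V z ≤ 2 * Nat.card G := by
      rw [show 2 * (Nat.card G : ℤ) = 3 * Nat.card G - Nat.card G by ring, ← hsum]
      refine le_trans (le_of_eq ?_)
        (Finset.sum_le_sum_of_subset_of_nonneg hKR fun g _ _ => T.deficit_nonneg g)
      rw [Finset.sum_congr rfl (g := fun _ => V z) fun x hx => by
        simp only [hV, fix_isConj Ω (Finset.mem_filter.1 hx).2],
        Finset.sum_const, nsmul_eq_mul]
    have h2 := C.card_class z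
    rw [Nat.card_eq_fintype_card, Fintype.card_subtype, ← hK, hczeq] at h2
    have hKpos : (0 : ℤ) < K.card := by
      exact_mod_cast Finset.card_pos.2 ⟨z, Finset.mem_filter.2 ⟨Finset.mem_univ _, IsConj.refl z⟩⟩
    have hFz : (fix Ω z : ℤ) = 3 * p - 3 * e := by omega
    have h3 : (K.card : ℤ) * V z ≤ K.card * (18 * (e : ℤ) ^ 2) := by
      refine h1.trans (le_of_eq ?_)
      rw [← h2]
      push_cast
      ring
    have h4 := le_of_mul_le_mul_left h3 hKpos
    simp only [hV, hFz] at h4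
    have h5 : (3 * (p : ℤ) - 3 * e - 1) * (3 * p - 3 * e - 2) ≤ 6 * e :=
      le_of_mul_le_mul_right (by linarith) (show (0 : ℤ) < 3 * e by omega)
    have hb : (3 * e : ℤ) ≤ 2 * p + 1 ∧ (p : ℤ) - 1 ≤ 3 * p - 3 * e := by
      rcases hemod with h | h
      all_goals
        obtain ⟨c, hc⟩ := h
        have hlo : (p : ℤ) * 2 - 2 ≤ p * c := by omega
        have hhi : (p : ℤ) * c ≤ p * 3 - 2 := by omega
        have hc2 : c = 2 := by
          rcases lt_trichotomy c 2 with h' | h' | h'
          · have : (p : ℤ) * c ≤ p * 1 := mul_le_mul_of_nonneg_left (by omega) (by omega)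
            omega
          · exact h'
          · have : (p : ℤ) * 3 ≤ p * c := mul_le_mul_of_nonneg_left (by omega) (by omega)
            omega
        rw [hc2] at hc
        omega
    obtain ⟨hb1, hb2⟩ := hb
    have h6 : ((p : ℤ) - 2) * (p - 3) ≤ 4 * p + 2 :=
      le_trans (le_trans (mul_le_mul (by linarith) (by linarith) (by omega) (by omega)) h5)
        (by linarith)
    by_contra h7
    have h11 : (11 : ℤ) ≤ p := by
      have : p ≠ 8 ∧ p ≠ 9 ∧ p ≠ 10 := by omega
      omega
    nlinarith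
  subst hp7
  have he5 : e = 5 := by
    rcases hemod with h | h <;> obtain ⟨c, hc⟩ := h <;> omega
  rw [he5] at hk
  rcases k with _ | k
  · norm_num at hk
  · exact absurd (hk ▸ dvd_pow_self 3 k.succ_ne_zero : 3 ∣ 5) (by norm_num)

theorem not_three (hmod : p % 4 = 3) : False := by
  have hp : p.Prime := Fact.out
  have hp5 := C.hp5
  obtain ⟨y, hy⟩ := C.exists_involution
  obtain ⟨e, heodd, he0, hcy, hG, hebig, hemod⟩ := T.arith_three hmod hy
  have := T.trans3 hmod
  have : Nonempty (Fin 3 ↪ Ω) := Function.Embedding.nonempty_of_card_le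
    (by rw [Fintype.card_fin, T.hΩ]; omega)
  obtain ⟨x₀⟩ := this
  set L := stabilizer G x₀ with hL
  set o := Nat.card (orbitRel.Quotient L Ω) with ho'
  have hl : Nat.card L = 3 * e ^ 2 := by
    have h := card_stab_mul (G := G) x₀
    have hc : Fintype.card (Fin 3 ↪ Ω) = 3 * p * (3 * p - 1) * (3 * p - 2) := by
      have := T.card_triples (C := C)
      zify [show 1 ≤ 3 * p by omega, show 2 ≤ 3 * p by omega]
      exact this
    rw [hc, hG] at h
    refine Nat.eq_of_mul_eq_mul_left (show 0 < 3 * p * (3 * p - 1) * (3 * p - 2) from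
      Nat.mul_pos (Nat.mul_pos (by omega) (by omega)) (by omega)) ?_
    rw [h]
    ring
  have hlodd : ¬ 2 ∣ Nat.card L := by
    rw [hl]
    intro h3
    rcases Nat.prime_two.dvd_mul.1 h3 with h4 | h4
    · omega
    · exact heodd (Nat.prime_two.dvd_of_dvd_pow h4)
  have ho : p + 2 ≤ o := T.orbits_bound hmod x₀
  set W := Finset.univ.filter fun z : Ω => ∀ u : G, u • x₀ = x₀ → u • z = z with hW
  have hWodd : ¬ 2 ∣ W.card := T.fix_stab_odd hmod x₀
  have hW3 : 3 ≤ W.card := by
    rw [← Fintype.card_fin 3, ← Finset.card_univ]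
    exact Finset.card_le_card_of_injOn x₀ (fun i _ => Finset.mem_coe.2 (Finset.mem_filter.2
      ⟨Finset.mem_univ _, fun u hu => (smul_emb_iff _ _ _).1 hu i⟩)) x₀.injective.injOn
  by_cases hφ : 5 ≤ W.card
  · -- many fixed points
    have hFle : ∀ g : G, g ∈ L → g ≠ 1 → fix Ω g ≤ p := by
      intro g hg hg1
      rw [hL, stab_triple] at hg
      have hne : ∃ ε : Ω, g • ε ≠ ε := by
        by_contra! hall
        exact hg1 (FaithfulSMul.eq_of_smul_eq_smul fun x : Ω => by rw [hall x, one_smul])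
      obtain ⟨ε, hε⟩ := hne
      set α' := x₀ 0 with hα'
      set Fs := Finset.univ.filter (fun x : Ω => g • x = x) with hFs
      have hαF : α' ∈ Fs := by simp [hFs, hg.1]
      set B : Ω → Finset Ω := fun η => Finset.univ.filter fun z =>
        z ≠ α' ∧ z ≠ ε ∧ z ≠ η ∧ ∀ u : G, u • α' = α' → u • ε = ε → u • η = η → u • z = z with hB
      have hcardT : ∀ x : Fin 3 ↪ Ω, Nat.card (stabilizer G x) = Nat.card L := fun x => by
        haveI : Nonempty (Fin 3 ↪ Ω) := ⟨x⟩
        have h1 := card_stab_mul (G := G) x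
        have h2 := card_stab_mul (G := G) x₀
        exact Nat.eq_of_mul_eq_mul_left Fintype.card_pos (h1.trans h2.symm)
      have hstab : ∀ {a b c : Ω} (hab : a ≠ b) (hac : a ≠ c) (hbc : b ≠ c) (u : G),
          u ∈ stabilizer G (triple hab hac hbc) ↔ u • a = a ∧ u • b = b ∧ u • c = c :=
        fun hab hac hbc u => stab_triple _ u
      -- the three fixed points determine the fourth
      have hswap : ∀ η z : Ω, η ∈ Fs.erase α' → z ∈ B η →
          ∀ u : G, u • α' = α' → u • η = η → u • z = z → u • ε = ε := by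
        intro η z hη hz u hu0 hu1 hu2
        rw [Finset.mem_erase, hFs, Finset.mem_filter] at hη
        simp only [hB, Finset.mem_filter, Finset.mem_univ, true_and] at hz
        have hεη : ε ≠ η := fun e' => hε (e' ▸ hη.2.2)
        have hαε : α' ≠ ε := fun e' => hε (e' ▸ hg.1)
        have hle : stabilizer G (triple hαε hη.1.symm hεη) ≤
            stabilizer G (triple hη.1.symm hz.1.symm hz.2.2.1.symm) := by
          intro w hw
          rw [hstab] at hw ⊢
          exact ⟨hw.1, hw.2.2, hz.2.2.2 w hw.1 hw.2.1 hw.2.2⟩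
        have heq := Subgroup.eq_of_le_of_card_ge hle ((hcardT _).trans (hcardT _).symm).le
        exact ((hstab hαε hη.1.symm hεη u).1 (heq ▸ (hstab _ _ _ u).2 ⟨hu0, hu1, hu2⟩)).2.1
      have hBdisj : ∀ η ∈ Fs.erase α', Disjoint (B η) Fs := by
        intro η hη
        rw [Finset.disjoint_left]
        intro z hz hzF
        rw [hFs, Finset.mem_filter] at hzF
        have hη' := hη
        rw [Finset.mem_erase, hFs, Finset.mem_filter] at hη'
        exact hε (hswap η z hη hz g hg.1 hη'.2.2 hzF.2)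
      have hBB : ∀ η ∈ Fs.erase α', ∀ η' ∈ Fs.erase α', η ≠ η' → Disjoint (B η) (B η') := by
        intro η hη η' hη' hne
        rw [Finset.disjoint_left]
        intro z hz hz'
        have h1 := hη
        have h1' := hη'
        rw [Finset.mem_erase, hFs, Finset.mem_filter] at h1 h1'
        simp only [hB, Finset.mem_filter, Finset.mem_univ, true_and] at hz hz'
        have hεη : ε ≠ η := fun e' => hε (e' ▸ h1.2.2)
        have hεη' : ε ≠ η' := fun e' => hε (e' ▸ h1'.2.2)
        have hαε : α' ≠ ε := fun e' => hε (e' ▸ hg.1)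
        -- both stabilisers equal the stabiliser of `α', ε, z`
        have e1 := Subgroup.eq_of_le_of_card_ge
          (H := stabilizer G (triple hαε h1.1.symm hεη))
          (K := stabilizer G (triple hαε hz.1.symm hz.2.1.symm)) (fun w hw => by
            rw [hstab] at hw ⊢
            exact ⟨hw.1, hw.2.1, hz.2.2.2 w hw.1 hw.2.1 hw.2.2⟩) ((hcardT _).trans (hcardT _).symm).le
        have e2 := Subgroup.eq_of_le_of_card_ge
          (H := stabilizer G (triple hαε h1'.1.symm hεη'))
          (K := stabilizer G (triple hαε hz.1.symm hz.2.1.symm)) (fun w hw => by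
            rw [hstab] at hw ⊢
            exact ⟨hw.1, hw.2.1, hz'.2.2.2 w hw.1 hw.2.1 hw.2.2⟩) ((hcardT _).trans (hcardT _).symm).le
        have hη'B : η' ∈ B η := by
          simp only [hB, Finset.mem_filter, Finset.mem_univ, true_and]
          refine ⟨h1'.1, hεη'.symm, hne.symm, fun w hw0 hw1 hw2 => ?_⟩
          exact ((hstab hαε h1'.1.symm hεη' w).1
            (e2 ▸ e1 ▸ (hstab _ _ _ w).2 ⟨hw0, hw1, hw2⟩)).2.2
        exact Finset.disjoint_left.1 (hBdisj η hη) hη'B (Finset.mem_of_mem_erase hη')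
      have hBcard : ∀ η ∈ Fs.erase α', W.card - 3 ≤ (B η).card := by
        intro η hη
        rw [Finset.mem_erase, hFs, Finset.mem_filter] at hη
        have hεη : ε ≠ η := fun e' => hε (e' ▸ hη.2.2)
        have hαε : α' ≠ ε := fun e' => hε (e' ▸ hg.1)
        obtain ⟨w, hw⟩ := MulAction.exists_smul_eq G x₀ (triple hαε hη.1.symm hεη)
        rw [smul_emb_iff] at hw
        have hsub : W.image (w • ·) \ {α', ε, η} ⊆ B η := by
          intro z hz
          rw [Finset.mem_sdiff, Finset.mem_image] at hz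
          obtain ⟨⟨z', hz', rfl⟩, hz3⟩ := hz
          rw [hW, Finset.mem_filter] at hz'
          simp only [Finset.mem_insert, Finset.mem_singleton, not_or] at hz3
          simp only [hB, Finset.mem_filter, Finset.mem_univ, true_and]
          refine ⟨hz3.1, hz3.2.1, hz3.2.2, fun v hv0 hv1 hv2 => ?_⟩
          have h := hz'.2 (w⁻¹ * v * w) (by
            rw [smul_emb_iff]
            intro i
            rw [mul_smul, mul_smul, inv_smul_eq_iff, hw i]
            fin_cases i
            · exact hv0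
            · exact hv1
            · exact hv2)
          rwa [mul_smul, mul_smul, inv_smul_eq_iff] at h
        refine le_trans ?_ ((Finset.le_card_sdiff _ _).trans (Finset.card_le_card hsub))
        rw [Finset.card_image_of_injective _ (MulAction.injective w)]
        have : ({α', ε, η} : Finset Ω).card ≤ 3 := Finset.card_le_three
        omega
      have hcount : (Fs.erase α').card * (W.card - 3) + Fs.card ≤ 3 * p := by
        rw [← T.hΩ, ← Finset.card_univ]
        refine le_trans ?_ (Finset.card_le_card (Finset.subset_univ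
          ((Fs.erase α').biUnion B ∪ Fs)))
        rw [Finset.card_union_of_disjoint ((Finset.disjoint_biUnion_left _ _ _).2 hBdisj),
          Finset.card_biUnion hBB]
        have := Finset.card_nsmul_le_sum (Fs.erase α') (fun η => (B η).card) _ hBcard
        rw [smul_eq_mul] at this
        omega
      rw [Finset.card_erase_of_mem hαF] at hcount
      rw [fixedBy_card_eq, ← hFs]
      have : (Fs.card - 1) * 2 ≤ (Fs.card - 1) * (W.card - 3) :=
        Nat.mul_le_mul_left _ (by omega)
      omega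
    have h := sum_fix_subgroup L Ω
    rw [← ho', ← Finset.add_sum_erase _ _ (Finset.mem_univ (1 : L)), OneMemClass.coe_one, fix_one,
      T.hΩ] at h
    have h1 := Finset.sum_le_card_nsmul ((Finset.univ : Finset L).erase 1)
      (fun g => fix Ω (g : G)) p fun g hg => hFle g g.2 fun e' =>
        Finset.ne_of_mem_erase hg (Subtype.ext e')
    rw [Finset.card_erase_of_mem (Finset.mem_univ _), Finset.card_univ, ← Nat.card_eq_fintype_card,
      smul_eq_mul, hl] at h1
    rw [hl] at h
    have h2 : (p + 2) * (3 * e ^ 2) ≤ o * (3 * e ^ 2) := Nat.mul_le_mul_right _ ho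
    obtain ⟨d, hd⟩ : ∃ d, 3 * e ^ 2 = d + 1 := ⟨3 * e ^ 2 - 1, by have := pow_pos he0 2; omega⟩
    rw [hd, Nat.add_sub_cancel] at h1
    rw [hd] at h h2
    have hdp : d + 1 ≤ p := by linarith
    have hbig : (2 * p - 1) * (2 * p - 1) ≤ 3 * (3 * e ^ 2) := by
      calc _ ≤ 3 * e * (3 * e) := Nat.mul_le_mul hebig hebig
        _ = _ := by ring
    obtain ⟨r, hr⟩ : ∃ r, p = r + 5 := ⟨p - 5, by omega⟩
    rw [hd, hr, show 2 * (r + 5) - 1 = 2 * r + 9 by omega] at hbig
    nlinarith
  · -- three fixed points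
    have hW' : W.card = 3 := by omega
    have hsum := card_eq_orbit_sum (X := Ω) L
    rw [T.hΩ] at hsum
    set O1 := Finset.univ.filter fun w : orbitRel.Quotient L Ω =>
      Nat.card (orbit L (Quotient.out w)) = 1 with hO1
    have hO1le : O1.card ≤ 3 := by
      rw [← hW']
      refine Finset.card_le_card_of_injOn Quotient.out (fun w hw => ?_)
        Quotient.out_injective.injOn
      rw [Finset.mem_coe, hO1, Finset.mem_filter] at hw
      rw [Finset.mem_coe, hW, Finset.mem_filter]
      refine ⟨Finset.mem_univ _, fun u hu => ?_⟩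
      obtain ⟨hs', -⟩ := Nat.card_eq_one_iff_unique.1 hw.2
      exact congrArg Subtype.val (hs'.elim
        ⟨(⟨u, hu⟩ : L) • Quotient.out w, mem_orbit _ _⟩ ⟨_, mem_orbit_self _⟩)
    have hbig : ∀ w, w ∉ O1 → 3 ≤ Nat.card (orbit L (Quotient.out w)) := by
      intro w hw
      have h1 : Nat.card (orbit L (Quotient.out w)) ≠ 1 := fun e' =>
        hw (Finset.mem_filter.2 ⟨Finset.mem_univ _, e'⟩)
      have := orbit_card_odd L hlodd (Quotient.out w)
      have : 0 < Nat.card (orbit L (Quotient.out w)) :=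
        Nat.card_pos_iff.2 ⟨⟨⟨_, mem_orbit_self _⟩⟩, inferInstance⟩
      omega
    rw [← Finset.sum_add_sum_compl O1,
      Finset.sum_congr (s₁ := O1) rfl (g := fun _ => 1) (fun w hw => (Finset.mem_filter.1 hw).2),
      Finset.sum_const, smul_eq_mul, mul_one] at hsum
    have hcompl : O1.card + (O1ᶜ).card = o := by
      rw [Finset.card_add_card_compl, ho', Nat.card_eq_fintype_card]
    have hge := Finset.card_nsmul_le_sum O1ᶜ
      (fun w : orbitRel.Quotient L Ω => Nat.card (orbit L (Quotient.out w))) 3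
      fun w hw => hbig w (Finset.mem_compl.1 hw)
    rw [smul_eq_mul] at hge
    have hall3 : ∀ w : orbitRel.Quotient L Ω, Nat.card (orbit L (Quotient.out w)) ≤ 3 := by
      intro w
      by_cases hw : w ∈ O1
      · rw [(Finset.mem_filter.1 hw).2]; norm_num
      · have hw' : w ∈ O1ᶜ := Finset.mem_compl.2 hw
        have hge' := Finset.card_nsmul_le_sum (O1ᶜ.erase w)
          (fun v : orbitRel.Quotient L Ω => Nat.card (orbit L (Quotient.out v))) 3
          fun v hv => hbig v (Finset.mem_compl.1 (Finset.mem_of_mem_erase hv))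
        rw [smul_eq_mul, Finset.card_erase_of_mem hw'] at hge'
        rw [← Finset.add_sum_erase _ _ hw'] at hsum
        have : 0 < (O1ᶜ).card := Finset.card_pos.2 ⟨w, hw'⟩
        omega
    have hcube : ∀ g ∈ L, g ^ 3 = 1 := by
      intro g hg
      refine FaithfulSMul.eq_of_smul_eq_smul fun x : Ω => ?_
      rw [one_smul]
      have hper : period g x ∣ orderOf g :=
        pow_smul_eq_iff_period_dvd.1 (by rw [pow_orderOf_eq_one, one_smul])
      have hodd : ¬ 2 ∣ orderOf g := fun h => hlodd (h.trans (Subgroup.orderOf_dvd_natCard _ hg))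
      have hle : period g x ≤ 3 := by
        set w : orbitRel.Quotient L Ω := Quotient.mk'' x
        have hxw : x ∈ orbit L (Quotient.out w) := orbitRel_apply.1
          (Quotient.eq''.1 (show Quotient.mk'' x = Quotient.mk'' (Quotient.out w) by
            rw [Quotient.out_eq']))
        have horb : orbit L x = orbit L (Quotient.out w) := orbit_eq_iff.2 hxw
        rw [show period g x = Function.minimalPeriod (g • ·) x from rfl,
          MulAction.minimalPeriod_eq_card, ← Nat.card_eq_fintype_card]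
        refine le_trans ?_ (hall3 w)
        rw [← horb]
        refine Nat.card_le_card_of_injective (fun z => ⟨z.1, ?_⟩) fun a b h => Subtype.ext
          (congrArg (fun q => q.1) h)
        obtain ⟨⟨c, hc⟩, hz⟩ := z.2
        exact ⟨⟨c, (Subgroup.zpowers_le.2 hg) hc⟩, hz⟩
      have hpos : period g x ≠ 0 := fun h => (orderOf_pos g).ne' (Nat.eq_zero_of_zero_dvd (h ▸ hper))
      refine pow_smul_eq_iff_period_dvd.2 ?_
      rcases (show period g x = 1 ∨ period g x = 2 ∨ period g x = 3 by omega) with h | h | h <;>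
        rw [h]
      · exact one_dvd _
      · exact absurd (h ▸ hper) hodd
    -- `e` is a power of three
    obtain ⟨k, hk⟩ : ∃ k, e = 3 ^ k := by
      have : Fact (Nat.Prime 3) := ⟨Nat.prime_three⟩
      have h3 : IsPGroup 3 L := fun g => ⟨1, Subtype.ext (by simpa using hcube g g.2)⟩
      obtain ⟨i, hi⟩ := IsPGroup.iff_card.1 h3
      obtain ⟨j, -, hj⟩ := (Nat.dvd_prime_pow Nat.prime_three).1
        (show e ∣ 3 ^ i by rw [← hi, hl]; exact dvd_mul_of_dvd_right (dvd_pow_self e two_ne_zero) _)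
      exact ⟨j, hj⟩
    exact T.three_power hmod hy he0 hcy hG hebig hemod hk

end Three

end Cfsg.Agent.Fg24.DegThreeP
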