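import Cfsg.Agent.Fg24.DegThreeP.Act
import Cfsg.Agent.DegreeTwoP.Eigen

/-!
# The case of a character of degree `2p - 1`

The permutation character is `1 + χ + ψ`, and the values of `χ` weighted by `χ (χ - 1)` force
`p = 5` and order `360`.
-/

set_option autoImplicit false
set_option linter.unusedSectionVars false

open Cfsg MulAction
open scoped Classical ComplexConjugate

namespace Cfsg.Agent.Fg24.DegThreeP

open Cfsg.Agent.Fg24.Brauer

universe u v

variable {G : Type u} [Group G] [Fintype G] [IsSimpleGroup G] {p : ℕ} [Fact p.Prime]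

/-- The inner product of a product of two integral characters and a third. -/
theorem exists_sum_mul {α β γ : G → ℤ} {φ φ' θ : IrrCharacter G}
    (hα : ∀ g, (φ : G → ℂ) g = α g) (hβ : ∀ g, (φ' : G → ℂ) g = β g)
    (hγ : ∀ g, (θ : G → ℂ) g = γ g) :
    ∃ N : ℕ, ∑ g, α g * β g * γ g = (Nat.card G : ℤ) * N := by
  obtain ⟨N, hN⟩ := Char.classInner_isCharacter_eq_natCast
    (Char.isCharacter_mul (Char.IsIrr.isCharacter φ.2) (Char.IsIrr.isCharacter φ'.2))
    (Char.IsIrr.isCharacter θ.2)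
  refine ⟨N, ?_⟩
  simp only [classInner, Pi.mul_apply, hα, hβ, hγ, map_intCast] at hN
  rw [inv_mul_eq_iff_eq_mul₀ Char.card_ne_zero] at hN
  exact_mod_cast hN

theorem eq_one_of_apply (hnc : ¬ IsMulCommutative G) {ψ : IrrCharacter G} (hψ : ψ ≠ Blocks.triv G)
    {g : G} (h : (ψ : G → ℂ) g = (ψ : G → ℂ) 1) : g = 1 := by
  set W := Char.kerSubgroup (Char.IsIrr.isCharacter ψ.2) with hW
  have hWn : W.Normal := ⟨fun w hw k => by
    rw [hW, Char.mem_kerSubgroup] at hw ⊢
    rw [Char.isClassFunction_of_isIrr ψ.2]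
    exact hw⟩
  have hgW : g ∈ W := by rw [hW, Char.mem_kerSubgroup]; exact h
  rcases hWn.eq_bot_or_eq_top with h' | h'
  · rwa [h', Subgroup.mem_bot] at hgW
  · exfalso
    have hall : ∀ x : G, (ψ : G → ℂ) x = (ψ : G → ℂ) 1 := fun x =>
      (Char.mem_kerSubgroup _).1 (h' ▸ Subgroup.mem_top x)
    have h9 := Char.classInner_irr_ne ψ.2 (Char.isIrrCharacter_one (G := G))
      fun e => hψ (Subtype.ext e)
    simp only [classInner, hall, map_one, mul_one, Finset.sum_const, Finset.card_univ, nsmul_eq_mul,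
      ← Nat.card_eq_fintype_card, ← mul_assoc] at h9
    rw [inv_mul_cancel₀ Char.card_ne_zero, one_mul] at h9
    exact Char.IsIrr.one_ne_zero ψ.2 h9

namespace Ctx

variable (C : Ctx G p) {Ω : Type v} [Fintype Ω] [MulAction G Ω] [IsPretransitive G Ω]
include C

/-- The permutation character is `1 + χ + ψ`. -/
theorem exists_psi (hΩ : Fintype.card Ω = 3 * p) (hf : C.f + 1 = 2 * p)
    {m : IrrCharacter G → ℕ} (hm1 : m C.χ = 1) (hmt : m (Blocks.triv G) = 1)
    (hY : ∀ η ∈ C.D.Y, m η = 0)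
    (hexp : ∀ g, (fix Ω g : ℂ) = ∑ θ : IrrCharacter G, (m θ : ℂ) * (θ : G → ℂ) g) :
    ∃ ψ : IrrCharacter G, ψ ∉ C.D.X ∧ ψ ∉ C.D.Y ∧ charDegree (ψ : G → ℂ) = p ∧
      (∀ θ, m θ = if θ = Blocks.triv G ∨ θ = C.χ ∨ θ = ψ then 1 else 0) ∧
      ∀ g, (ψ : G → ℂ) g = (((fix Ω g : ℤ) - 1 - C.val g : ℤ) : ℂ) := by
  have hp : p.Prime := Fact.out
  set rest := (C.D.X ∪ C.D.Y)ᶜ with hrest
  have hsum : ∀ φ : IrrCharacter G → ℂ, (∀ η ∈ C.D.Y, φ η = 0) →
      ∑ θ, φ θ = φ (Blocks.triv G) + φ C.χ + ∑ θ ∈ rest, φ θ := fun φ hφ => by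
    rw [← Finset.sum_add_sum_compl (C.D.X ∪ C.D.Y), Finset.sum_union C.D.disj, C.sum_X,
      Finset.sum_eq_zero hφ, add_zero]
  have h1 : ∑ θ ∈ rest, m θ * charDegree (θ : G → ℂ) = p := by
    have h := hexp 1
    rw [fix_one, hΩ, hsum _ (fun η hη => by rw [hY η hη, Nat.cast_zero, zero_mul]), hmt, hm1,
      C.degree_one] at h
    simp only [degree_cast] at h
    rw [Blocks.charDegree_eq (n := 1) (by simp [Blocks.triv])] at h
    have h' : 3 * p = 1 * 1 + 1 * C.f + ∑ θ ∈ rest, m θ * charDegree (θ : G → ℂ) := by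
      exact_mod_cast h
    omega
  have hdvd : ∀ θ ∈ rest, p ∣ charDegree (θ : G → ℂ) := fun θ hθ => by
    rw [hrest, Finset.mem_compl, Finset.mem_union, not_or] at hθ
    exact (C.out hθ.1 hθ.2).2
  obtain ⟨ψ, hψr, hψ0⟩ := Finset.exists_ne_zero_of_sum_ne_zero
    (show ∑ θ ∈ rest, m θ * charDegree (θ : G → ℂ) ≠ 0 by rw [h1]; exact hp.ne_zero)
  have hψd : m ψ = 1 ∧ charDegree (ψ : G → ℂ) = p ∧ ∀ θ ∈ rest, θ ≠ ψ → m θ = 0 := by
    have hle : p ≤ charDegree (ψ : G → ℂ) :=
      Nat.le_of_dvd (Blocks.charDegree_pos ψ.2) (hdvd ψ hψr)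
    rw [← Finset.add_sum_erase _ _ hψr] at h1
    have hm0 : 1 ≤ m ψ := Nat.one_le_iff_ne_zero.2 fun e => hψ0 (by rw [e, zero_mul])
    have h2 : p ≤ m ψ * charDegree (ψ : G → ℂ) := le_trans hle (Nat.le_mul_of_pos_left _ hm0)
    have h3 : ∑ θ ∈ rest.erase ψ, m θ * charDegree (θ : G → ℂ) = 0 := by omega
    have h4 : m ψ * charDegree (ψ : G → ℂ) = p := by omega
    have h5 : m ψ = 1 := by
      by_contra hne
      have := Nat.mul_le_mul (show 2 ≤ m ψ by omega) hle
      have := hp.pos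
      omega
    exact ⟨h5, by rw [h5, one_mul] at h4; exact h4, fun θ hθ hne =>
      (mul_eq_zero.1 (Finset.sum_eq_zero_iff.1 h3 θ (Finset.mem_erase.2 ⟨hne, hθ⟩))).resolve_right
        (Blocks.charDegree_pos θ.2).ne'⟩
  obtain ⟨hψ1, hψp, hψz⟩ := hψd
  have hψr' := hψr
  rw [hrest, Finset.mem_compl, Finset.mem_union, not_or] at hψr'
  refine ⟨ψ, hψr'.1, hψr'.2, hψp, fun θ => ?_, fun g => ?_⟩
  · split_ifs with h
    · rcases h with rfl | rfl | rfl
      · exact hmt
      · exact hm1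
      · exact hψ1
    · rw [not_or, not_or] at h
      by_cases hX : θ ∈ C.D.X
      · rcases (C.mem_X θ).1 hX with e | e
        · exact absurd e h.1
        · exact absurd e h.2.1
      by_cases hY' : θ ∈ C.D.Y
      · exact hY θ hY'
      · exact hψz θ (by rw [hrest, Finset.mem_compl, Finset.mem_union, not_or]; exact ⟨hX, hY'⟩) h.2.2
  · have h := hexp g
    rw [hsum _ (fun η hη => by rw [hY η hη, Nat.cast_zero, zero_mul]), hmt, hm1,
      Finset.sum_eq_single ψ (fun θ hθ hne => by rw [hψz θ hθ hne, Nat.cast_zero, zero_mul])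
        (fun h => absurd hψr h), hψ1, C.val_spec] at h
    simp [Blocks.triv] at h
    push_cast
    rw [h]
    ring

/-- The value of `χ` at an involution. -/
theorem val_invol (hΩ : Fintype.card Ω = 3 * p) (ha : C.a = -1) (hf : C.f + 1 = 2 * p)
    {ψ : IrrCharacter G} (hψX : ψ ∉ C.D.X) (hψY : ψ ∉ C.D.Y) (hψd : charDegree (ψ : G → ℂ) = p)
    (hψ : ∀ g, (ψ : G → ℂ) g = (((fix Ω g : ℤ) - 1 - C.val g : ℤ) : ℂ))
    {y : G} (hy : orderOf y = 2) : C.val y = 1 := by
  have hp : p.Prime := Fact.out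
  have hp5 := C.hp5
  have hF := C.fix_invol hΩ hy
  -- parity
  set g2 := (Nat.card G).factorization 2 with hg2
  have hg4 : 2 ≤ g2 := (Nat.prime_two.pow_dvd_iff_le_factorization Nat.card_pos.ne').1
    (show 2 ^ 2 ∣ Nat.card G from C.four_dvd_card)
  have hy1 : y ≠ 1 := fun e => by rw [e, orderOf_one] at hy; omega
  have hkey := C.key hy
  rw [ha] at hkey
  obtain ⟨d, hd⟩ : ∃ d : ℕ, (d : ℤ) = (C.f : ℤ) - C.val y :=
    ⟨((C.f : ℤ) - C.val y).toNat, Int.toNat_of_nonneg (by have := C.val_lt hy1; omega)⟩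
  have hd0 : 0 < d := by have := C.val_lt hy1; omega
  have hnat : Nat.card G * d ^ 2 = p * C.cz y ^ 2 * (C.f * (C.f - 1)) := by
    have : ((Nat.card G * d ^ 2 : ℕ) : ℤ) = ((p * C.cz y ^ 2 * (C.f * (C.f - 1)) : ℕ) : ℤ) := by
      push_cast [Nat.cast_sub (show 1 ≤ C.f by omega)]
      rw [hd, hkey]
      ring
    exact_mod_cast this
  have hfac := congrArg (fun k => Nat.factorization k 2) hnat
  rw [Nat.factorization_mul Nat.card_pos.ne' (pow_ne_zero _ hd0.ne'),
    Nat.factorization_mul (mul_ne_zero hp.ne_zero (pow_ne_zero _ (C.cz_pos y).ne'))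
      (mul_ne_zero (by omega) (by omega)),
    Nat.factorization_mul hp.ne_zero (pow_ne_zero _ (C.cz_pos y).ne'),
    Nat.factorization_mul (by omega : C.f ≠ 0) (by omega : C.f - 1 ≠ 0)] at hfac
  simp only [Finsupp.coe_add, Pi.add_apply, Nat.factorization_pow, Finsupp.coe_smul, Pi.smul_apply,
    smul_eq_mul, C.factorization_cz hy, ← hg2] at hfac
  obtain ⟨t, ht⟩ := C.p_odd
  rw [Nat.factorization_eq_zero_of_not_dvd (show ¬ 2 ∣ p by omega),
    Nat.factorization_eq_zero_of_not_dvd (show ¬ 2 ∣ C.f by omega)] at hfac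
  have hh2 : 2 ≤ (C.f - 1).factorization 2 :=
    (Nat.prime_two.pow_dvd_iff_le_factorization (by omega)).1
      (show 2 ^ 2 ∣ C.f - 1 from ⟨t, by omega⟩)
  -- bound at the involution
  obtain ⟨c, hcN, hcP⟩ := C.invol_inverts hy
  have hw : (fix Ω y : ℤ) - 1 - C.val y = 1 ∨ (fix Ω y : ℤ) - 1 - C.val y = 0 ∨
      (fix Ω y : ℤ) - 1 - C.val y = -1 := by
    have : NeZero (2 : ℕ) := ⟨two_ne_zero⟩
    have hmu := C.F.sum_mu_eq ψ
    rw [Finset.sum_eq_single 1 (fun (w : (C.P : Subgroup G)) _ hw1 =>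
          (C.out hψX hψY).1 w w.2 fun h => hw1 (Subtype.ext h))
        (fun h => absurd (Finset.mem_univ _) h), OneMemClass.coe_one, degree_cast, hψd] at hmu
    have hmu1 : ∑ i : ZMod 2, C.F.mu ψ i = 1 := by
      have h' : p * ∑ i : ZMod 2, C.F.mu ψ i = p * 1 := by
        rw [mul_one]; exact_mod_cast hmu
      exact Nat.eq_of_mul_eq_mul_left hp.pos h'
    have hv := C.F.apply_mu ψ hcN hcP
    rw [Char.isClassFunction_of_isIrr ψ.2 y c, hψ] at hv
    have hz : ∀ a : ZMod 2, (ZMod.stdAddChar a : ℂ) = 1 ∨ (ZMod.stdAddChar a : ℂ) = -1 := by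
      intro a
      have h : (ZMod.stdAddChar a : ℂ) * ZMod.stdAddChar a = 1 := by
        rw [← AddChar.map_add_eq_mul, CharTwo.add_self_eq_zero, AddChar.map_zero_eq_one]
      exact mul_self_eq_one_iff.1 h
    rw [show (Finset.univ : Finset (ZMod 2)) = {0, 1} from rfl,
      Finset.sum_pair (by decide)] at hmu1 hv
    rcases (show (C.F.mu ψ 0 = 1 ∧ C.F.mu ψ 1 = 0) ∨ (C.F.mu ψ 0 = 0 ∧ C.F.mu ψ 1 = 1) by omega) with
        ⟨e0, e1⟩ | ⟨e0, e1⟩ <;> rw [e0, e1] at hv <;>
      simp only [Nat.cast_one, Nat.cast_zero, one_mul, zero_mul, add_zero, zero_add] at hv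
    · rw [AddChar.map_zero_eq_one] at hv
      exact Or.inl (by exact_mod_cast hv)
    · rcases hz (C.F.κ (c * y * c⁻¹)) with e | e <;> rw [e] at hv
      · exact Or.inl (by exact_mod_cast hv)
      · exact Or.inr (Or.inr (by exact_mod_cast hv))
  have hndvd := C.not_dvd_sub hy
  have hFc : fix Ω y = 3 ∨ fix Ω y = 1 := by rw [hF]; split_ifs <;> simp
  have hodd : C.val y % 2 = 1 := by
    by_contra hev
    rw [Nat.factorization_eq_zero_of_not_dvd (show ¬ 2 ∣ d by omega)] at hfac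
    omega
  have hd2 : 2 ∣ d := by omega
  have hd4 : C.val y ≠ 3 := by
    intro h3
    have hd' : d = 2 * (p - 2) := by omega
    rw [hd', Nat.factorization_mul two_ne_zero (by omega : p - 2 ≠ 0)] at hfac
    simp only [Finsupp.coe_add, Pi.add_apply, Nat.prime_two.factorization_self,
      Nat.factorization_eq_zero_of_not_dvd (show ¬ 2 ∣ p - 2 by omega)] at hfac
    omega
  have hd5 : C.val y ≠ -1 := fun h1 => hndvd ⟨2, by omega⟩
  rcases hw with hw | hw | hw <;> rcases hFc with hF' | hF' <;> rw [hF'] at hw <;> omega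

set_option maxHeartbeats 4000000 in
open DegreeTwoP in
theorem main_two (hΩ : Fintype.card Ω = 3 * p) (ha : C.a = -1) (hf : C.f + 1 = 2 * p)
    {m : IrrCharacter G → ℕ} (hm1 : m C.χ = 1) (hmt : m (Blocks.triv G) = 1)
    (hY : ∀ η ∈ C.D.Y, m η = 0)
    (hm : ∀ θ : IrrCharacter G, classInner (fun g => (fix Ω g : ℂ)) (θ : G → ℂ) = m θ)
    (hexp : ∀ g, (fix Ω g : ℂ) = ∑ θ : IrrCharacter G, (m θ : ℂ) * (θ : G → ℂ) g)
    [FaithfulSMul G Ω] : p = 5 ∧ Nat.card G = 360 := by
  have hp : p.Prime := Fact.out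
  have hp5 := C.hp5
  obtain ⟨t', ht'⟩ := C.p_odd
  obtain ⟨ψ, hψX, hψY, hψd, hmψ, hψ⟩ := C.exists_psi hΩ hf hm1 hmt hY hexp
  have hψt : ψ ≠ Blocks.triv G := fun e => hψX (e ▸ C.D.triv_mem)
  have hψχ : ψ ≠ C.χ := fun e => hψX (e ▸ C.χX)
  set w : G → ℤ := fun g => (fix Ω g : ℤ) - 1 - C.val g with hw
  have hwψ : ∀ g, (ψ : G → ℂ) g = (w g : ℂ) := hψ
  have hwP : ∀ z ∈ (C.P : Subgroup G), z ≠ 1 → (ψ : G → ℂ) z = 0 := (C.out hψX hψY).1
  have hw1 : w 1 = p := by
    simp only [hw, fix_one, hΩ, C.val_one]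
    push_cast
    omega
  have hwsing : ∀ g, p ∣ orderOf g → w g = 0 := by
    intro g hg
    obtain ⟨z, hz, hz1, c, hc⟩ := C.singular hg
    have h := Char.isClassFunction_of_isIrr ψ.2 g c
    rw [hc, hwP z hz hz1, hwψ] at h
    exact_mod_cast h.symm
  have hwle : ∀ g, w g ≤ p := by
    intro g
    have h := (Complex.re_le_norm _).trans (Char.IsChar.norm_le (Char.IsIrr.isCharacter ψ.2) g)
    rw [hwψ, hwψ 1, hw1, Complex.intCast_re, Int.cast_natCast, Complex.natCast_re] at h
    exact_mod_cast h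
  have hwlt : ∀ g, g ≠ 1 → w g < p := fun g hg => lt_of_le_of_ne (hwle g) fun e =>
    hg (eq_one_of_apply C.ncomm hψt (by rw [hwψ, hwψ 1, hw1, e]))
  -- the order
  obtain ⟨y, hy⟩ := C.exists_involution
  have hy1 : y ≠ 1 := fun e => by rw [e, orderOf_one] at hy; omega
  have hvy := C.val_invol hΩ ha hf hψX hψY hψd hψ hy
  set h : ℕ := C.f - 1 with hh
  have hhz : (h : ℤ) = (C.f : ℤ) - 1 := by omega
  obtain ⟨q, hcq, hG⟩ : ∃ q, C.cz y = h * q ∧ Nat.card G = p * C.f * h * q ^ 2 := by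
    obtain ⟨i, hi⟩ := C.cz_dvd y
    have hk := C.key hy
    rw [ha, hvy, ← hhz, show (C.f : ℤ) + -1 = (h : ℤ) by omega] at hk
    have hnat : Nat.card G * h = p * C.cz y ^ 2 * C.f := by
      have hh0 : (h : ℤ) ≠ 0 := by omega
      have : ((Nat.card G * h : ℕ) : ℤ) = ((p * C.cz y ^ 2 * C.f : ℕ) : ℤ) := by
        push_cast
        exact mul_left_cancel₀ hh0 (by linear_combination hk)
      exact_mod_cast this
    have h2 : i * h = p * C.f * C.cz y := Nat.eq_of_mul_eq_mul_left (C.cz_pos y)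
      (by rw [← mul_assoc, ← hi, hnat]; ring)
    have hcop : Nat.Coprime h (p * C.f) := by
      refine Nat.Coprime.mul_right ?_ ?_
      · refine (hp.coprime_iff_not_dvd.2 fun hd => ?_).symm
        obtain ⟨k, hk'⟩ := hd
        rcases k with _ | _ | k
        · omega
        · omega
        · rw [mul_add, mul_add] at hk'; omega
      · rw [show C.f = h + 1 by omega]
        exact Nat.coprime_self_add_right.2 (Nat.coprime_one_right h)
    obtain ⟨q, hq⟩ := hcop.dvd_of_dvd_mul_left ⟨i, by rw [← h2, mul_comm]⟩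
    refine ⟨q, hq, Nat.eq_of_mul_eq_mul_right (show 0 < h by omega) ?_⟩
    rw [hnat, hq]
    ring
  have hq0 : 0 < q := Nat.pos_of_ne_zero fun e => (C.cz_pos y).ne' (by rw [hcq, e, mul_zero])
  have hqodd : ¬ 2 ∣ q := by
    intro h2
    have h3 := congrArg (fun k => Nat.factorization k 2) hG
    rw [Nat.factorization_mul (mul_ne_zero (mul_ne_zero hp.ne_zero (by omega)) (by omega))
        (pow_ne_zero _ hq0.ne'),
      Nat.factorization_mul (mul_ne_zero hp.ne_zero (by omega)) (by omega),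
      Nat.factorization_mul hp.ne_zero (by omega)] at h3
    simp only [Finsupp.coe_add, Pi.add_apply, Nat.factorization_pow, Finsupp.coe_smul,
      Pi.smul_apply, smul_eq_mul, ← C.factorization_cz hy, hcq,
      Nat.factorization_mul (by omega : h ≠ 0) hq0.ne'] at h3
    rw [Nat.factorization_eq_zero_of_not_dvd (show ¬ 2 ∣ p by omega),
      Nat.factorization_eq_zero_of_not_dvd (show ¬ 2 ∣ C.f by omega)] at h3
    have := (Nat.prime_two.pow_dvd_iff_le_factorization hq0.ne').1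
      (show 2 ^ 1 ∣ q by simpa using h2)
    omega
  have h2M : 2 * C.M = C.f * h * q ^ 2 := Nat.eq_of_mul_eq_mul_left hp.pos (by
    rw [← mul_assoc, ← C.hG', hG]; ring)
  have h2Mz : (2 : ℤ) * C.M = (C.f : ℤ) * ((C.f : ℤ) - 1) * (q : ℤ) ^ 2 := by
    rw [← hhz]; exact_mod_cast h2M
  -- the sums
  have hGz : (Nat.card G : ℤ) = p * (2 * C.M) := by rw [C.hG']; push_cast; ring
  have hRsum : ∀ φ : G → ℤ, (∀ g, p ∣ orderOf g → φ g = 0) → ∑ g ∈ C.R, φ g = ∑ g, φ g :=
    fun φ hφ => Finset.sum_subset (Finset.subset_univ _) fun g _ hg =>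
      hφ g (by simpa [C.mem_R] using hg)
  obtain ⟨Q, hQ'⟩ := exists_sum_mul C.val_spec C.val_spec hwψ
  obtain ⟨Q', hQ2'⟩ := exists_sum_mul C.val_spec hwψ hwψ
  obtain ⟨N, hN'⟩ := exists_sum_mul C.val_spec C.val_spec C.val_spec
  have hQ : ∑ g ∈ C.R, C.val g ^ 2 * w g = Nat.card G * Q := by
    rw [hRsum _ (fun g hg => by rw [hwsing g hg, mul_zero]), ← hQ']
    exact Finset.sum_congr rfl fun g _ => by ring
  have hQ2 : ∑ g ∈ C.R, C.val g * w g ^ 2 = Nat.card G * Q' := by
    rw [hRsum _ (fun g hg => by rw [hwsing g hg]; ring), ← hQ2']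
    exact Finset.sum_congr rfl fun g _ => by ring
  have hsumw : ∑ g ∈ C.R, w g = 0 := by
    rw [hRsum _ hwsing]
    have h1 : classInner (ψ : G → ℂ) (Blocks.triv G : G → ℂ) = 0 :=
      Char.classInner_irr_ne ψ.2 (Blocks.triv G).2 fun e => hψt (Subtype.ext e)
    simp only [classInner, Blocks.triv, map_one, mul_one, mul_eq_zero, inv_eq_zero,
      Char.card_ne_zero, false_or, hwψ] at h1
    exact_mod_cast h1
  have hsumvw : ∑ g ∈ C.R, C.val g * w g = 0 := by
    rw [hRsum _ (fun g hg => by rw [hwsing g hg, mul_zero])]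
    have h1 : classInner (C.χ : G → ℂ) (ψ : G → ℂ) = 0 :=
      Char.classInner_irr_ne C.χ.2 ψ.2 fun e => hψχ (Subtype.ext e).symm
    simp only [classInner, mul_eq_zero, inv_eq_zero,
      Char.card_ne_zero, false_or, hwψ, C.val_spec, map_intCast] at h1
    exact_mod_cast h1
  have hsumw2 : ∑ g ∈ C.R, w g ^ 2 = Nat.card G := by
    rw [hRsum _ (fun g hg => by rw [hwsing g hg]; ring)]
    have h1 := Char.classInner_irr_self ψ.2
    simp only [classInner, hwψ, map_intCast] at h1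
    rw [inv_mul_eq_iff_eq_mul₀ Char.card_ne_zero, mul_one] at h1
    simp only [sq]
    exact_mod_cast h1
  set W : G → ℤ := fun g => C.val g ^ 2 - C.val g with hW
  have hW0 : ∀ g, 0 ≤ W g := fun g => by
    simp only [hW]
    rcases le_or_gt (C.val g) 0 with h' | h' <;> nlinarith
  have hWsum : ∑ g ∈ C.R, W g = 2 * C.M := by
    simp only [hW]
    rw [Finset.sum_sub_distrib, C.sum_R_sq, C.sum_R_val, ha]
    ring
  have hWw : ∑ g ∈ C.R, W g * w g = p * (2 * C.M) * Q := by
    simp only [hW, sub_mul, Finset.sum_sub_distrib, hQ, hsumvw, hGz, sub_zero]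
  have hW1 : W 1 = (C.f : ℤ) * ((C.f : ℤ) - 1) := by simp only [hW, C.val_one]; ring
  have hW1pos : 0 < W 1 := by
    rw [hW1]
    exact mul_pos (by omega) (by omega)
  -- the case `q = 1`
  have hq1 : q = 1 → p = 5 := by
    intro hq
    have hX : ∑ g ∈ C.R.erase 1, W g = 0 := by
      have := hWsum
      rw [← Finset.add_sum_erase _ _ C.one_mem_R, hW1, h2Mz, hq] at this
      linear_combination this
    have hv01 : ∀ g ∈ C.R.erase 1, C.val g = 0 ∨ C.val g = 1 := by
      intro g hg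
      have h' := (Finset.sum_eq_zero_iff_of_nonneg fun g _ => hW0 g).1 hX g hg
      have h'' : C.val g * (C.val g - 1) = 0 := by rw [← h']; simp only [hW]; ring
      rcases mul_eq_zero.1 h'' with h3 | h3 <;> omega
    set V := (C.R.erase 1).filter (fun g => C.val g = 0) with hV
    have hVsum : ∀ φ : G → ℤ, ∑ g ∈ V, φ g =
        ∑ g ∈ C.R, (1 - C.val g) * φ g - (1 - (C.f : ℤ)) * φ 1 := by
      intro φ
      rw [← Finset.add_sum_erase _ _ C.one_mem_R, C.val_one, hV, Finset.sum_filter,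
        add_sub_cancel_left]
      refine Finset.sum_congr rfl fun g hg => ?_
      rcases hv01 g hg with h' | h' <;> simp [h']
    have hVc : (V.card : ℤ) = 2 * p * h := by
      have h1 := hVsum fun _ => 1
      simp only [Finset.sum_const, nsmul_eq_mul, mul_one] at h1
      rw [h1, Finset.sum_sub_distrib, C.sum_R_val, ha, Finset.sum_const, nsmul_eq_mul, mul_one,
        C.card_R, hhz]
      rw [hq] at h2Mz
      have hfz : (C.f : ℤ) = 2 * p - 1 := by omega
      rw [hfz] at h2Mz ⊢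
      linear_combination h2Mz
    have hVw : ∑ g ∈ V, w g = p * h := by
      rw [hVsum, hw1]
      simp only [sub_mul, one_mul, Finset.sum_sub_distrib, hsumw, hsumvw, hhz]
      ring
    have hVw2 : ∑ g ∈ V, w g ^ 2 = p * C.f * h * (1 - (Q' : ℤ)) + h * p ^ 2 := by
      rw [hVsum (fun g => w g ^ 2), hw1]
      simp only [sub_mul, one_mul, Finset.sum_sub_distrib, hsumw2, hQ2, hGz, h2Mz, hq, hhz]
      push_cast
      ring
    have hwge : ∀ g ∈ V, -1 ≤ w g := fun g hg => by
      rw [hV, Finset.mem_filter] at hg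
      simp only [hw, hg.2]
      omega
    have hwle2 : ∀ g ∈ V, w g ≤ 2 := by
      intro g hg
      have hg' := hg
      rw [hV, Finset.mem_filter, Finset.mem_erase, C.mem_R] at hg'
      obtain ⟨n, hn0, hn⟩ := C.exists_n hy hg'.1.2 hg'.1.1
      rw [hvy, hg'.2, hcq, hq, mul_one, sub_zero, ← hhz, mul_comm (h : ℤ)] at hn
      have hn' : (C.cz g : ℤ) * n = C.f := mul_right_cancel₀ (show (h : ℤ) ≠ 0 by omega) hn
      have hcle : (C.cz g : ℤ) ≤ C.f := by
        rw [← hn']
        exact le_mul_of_one_le_right (Int.natCast_nonneg _) hn0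
      set K := Finset.univ.filter (fun x : G => IsConj g x) with hK
      have hKV : K ⊆ V := by
        intro x hx
        have hx' := (Finset.mem_filter.1 hx).2
        rw [hV, Finset.mem_filter, Finset.mem_erase, C.mem_R, C.val_isConj hx']
        obtain ⟨c, rfl⟩ := isConj_iff.1 hx'
        refine ⟨⟨fun e => hg'.1.1 (conj_eq_one_iff.1 e), ?_⟩, hg'.2⟩
        rw [Blocks.orderOf_conj']
        exact hg'.1.2
      have hKc : (K.card : ℤ) * C.cz g = p * C.f * h := by
        have h1 := C.card_class g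
        rw [Nat.card_eq_fintype_card, Fintype.card_subtype, ← hK, hG, hq, one_pow, mul_one] at h1
        exact_mod_cast h1
      have hKge : (p : ℤ) * h ≤ K.card := by
        by_contra hlt
        have h1 : (K.card : ℤ) * C.cz g < p * h * C.f :=
          lt_of_le_of_lt (mul_le_mul_of_nonneg_left hcle (by omega))
            (mul_lt_mul_of_pos_right (not_le.1 hlt) (by omega))
        rw [hKc] at h1
        linarith
      have hsumK : ∑ x ∈ K, (w x + 1) ≤ ∑ x ∈ V, (w x + 1) :=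
        Finset.sum_le_sum_of_subset_of_nonneg hKV fun x hx _ => by have := hwge x hx; omega
      rw [Finset.sum_congr rfl (g := fun _ => w g + 1) (fun x hx => by
          obtain ⟨c, rfl⟩ := isConj_iff.1 (Finset.mem_filter.1 hx).2
          simp only [hw, fix_conj, C.val_conj]),
        Finset.sum_const, nsmul_eq_mul, Finset.sum_add_distrib, hVw, Finset.sum_const,
        nsmul_eq_mul, mul_one, hVc] at hsumK
      by_contra h3
      have hph : (0 : ℤ) < p * h := mul_pos (by omega) (by omega)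
      have h4 : (p : ℤ) * h * 4 ≤ K.card * (w g + 1) :=
        mul_le_mul hKge (by omega) (by norm_num) (Int.natCast_nonneg _)
      linarith
    have hub : ∑ g ∈ V, w g ^ 2 ≤ 5 * (p * h) := by
      refine le_trans (Finset.sum_le_sum (g := fun g => w g + 2) fun g hg => ?_) ?_
      · have h1 := hwge g hg
        have h2 := hwle2 g hg
        nlinarith
      · rw [Finset.sum_add_distrib, hVw, Finset.sum_const, nsmul_eq_mul, hVc]
        linarith
    have hlb : 0 ≤ ∑ g ∈ V, w g ^ 2 := Finset.sum_nonneg fun g _ => sq_nonneg _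
    rw [hVw2] at hub hlb
    have hph : (0 : ℤ) < p * h := mul_pos (by omega) (by omega)
    have h5 : (C.f : ℤ) * (1 - Q') + p ≤ 5 := le_of_mul_le_mul_left (a := (p : ℤ) * h)
      (by linarith) hph
    have h6 : 0 ≤ (C.f : ℤ) * (1 - Q') + p := le_of_mul_le_mul_left (a := (p : ℤ) * h)
      (by linarith) hph
    have hQ'1 : Q' ≤ 1 := by
      by_contra h7
      have : (C.f : ℤ) * (1 - Q') ≤ -(C.f : ℤ) := by
        have := mul_le_mul_of_nonneg_left (show (1 : ℤ) - Q' ≤ -1 by omega)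
          (Int.natCast_nonneg C.f)
        linarith
      omega
    have : 0 ≤ (C.f : ℤ) * (1 - Q') := mul_nonneg (by omega) (by omega)
    omega
  by_cases hq : q = 1
  · have h5 := hq1 hq
    refine ⟨h5, ?_⟩
    rw [hG, hq, hh, show C.f = 9 by omega, h5]
    norm_num
  exfalso
  have hq3 : 3 ≤ q := by omega
  have hXgt : W 1 < 2 * C.M := by
    rw [hW1, h2Mz]
    have : (1 : ℤ) < (q : ℤ) ^ 2 := by
      have : (3 : ℤ) ≤ q := by exact_mod_cast hq3
      nlinarith
    have := lt_mul_of_one_lt_right (hW1 ▸ hW1pos) this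
    exact this
  have hnonid : ∀ φ : G → ℤ, (∀ g ∈ C.R.erase 1, 0 ≤ φ g) → ∑ g ∈ C.R.erase 1, φ g = 0 →
      (∀ g ∈ C.R.erase 1, φ g = 0 → W g = 0) → False := by
    intro φ h0 hs himp
    have hz : ∑ g ∈ C.R.erase 1, W g = 0 := Finset.sum_eq_zero fun g hg =>
      himp g hg ((Finset.sum_eq_zero_iff_of_nonneg h0).1 hs g hg)
    have := hWsum
    rw [← Finset.add_sum_erase _ _ C.one_mem_R, hz, add_zero] at this
    omega
  have hX0 : (0 : ℤ) < 2 * C.M := hW1pos.trans hXgt
  have hQ0 : Q = 0 := by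
    by_contra hQne
    have hnn : ∀ g ∈ C.R.erase 1, 0 ≤ W g * ((p : ℤ) - w g) := fun g _ =>
      mul_nonneg (hW0 g) (by have := hwle g; omega)
    have hs : ∑ g ∈ C.R.erase 1, W g * ((p : ℤ) - w g) = (p : ℤ) * (2 * C.M) * (1 - Q) := by
      have : ∑ g ∈ C.R, W g * ((p : ℤ) - w g) = (p : ℤ) * (2 * C.M) * (1 - Q) := by
        simp only [mul_sub, Finset.sum_sub_distrib, ← Finset.sum_mul, hWsum, hWw]
        ring
      rwa [← Finset.add_sum_erase _ _ C.one_mem_R, hw1, sub_self, mul_zero, zero_add] at this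
    have hle : (p : ℤ) * (2 * C.M) * (1 - Q) ≤ 0 :=
      mul_nonpos_of_nonneg_of_nonpos (mul_nonneg (by omega) (by omega)) (by omega)
    refine hnonid _ hnn (le_antisymm (hs ▸ hle) (Finset.sum_nonneg hnn)) fun g hg h0 => ?_
    exact (mul_eq_zero.1 h0).resolve_right (by
      have := hwlt g (Finset.ne_of_mem_erase hg); omega)
  have hWv : ∑ g ∈ C.R, W g * C.val g = (2 * C.M) * ((p : ℤ) * N - 1) := by
    have h3 : ∑ g ∈ C.R, C.val g ^ 3 = Nat.card G * N + C.M * ((p : ℤ) - 1) := by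
      have h := C.sum_split (φ := fun g => (C.χ : G → ℂ) g ^ 3)
        (fun g k => by simp only [Char.isClassFunction_of_isIrr C.χ.2 g k]) (c := -1)
        fun z hz hz1 => by rw [C.chi_P hz hz1, ha]; norm_num
      simp only [C.val_spec] at h
      have h' : ∑ g, C.val g ^ 3 = Nat.card G * N := by
        rw [← hN']; exact Finset.sum_congr rfl fun g _ => by ring
      have h'' : ((∑ g, C.val g ^ 3 : ℤ) : ℂ) =
          ((∑ g ∈ C.R, C.val g ^ 3 + C.M * (((p : ℤ) - 1) * -1) : ℤ) : ℂ) := by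
        push_cast
        exact h
      have h4 := Int.cast_injective h''
      rw [h'] at h4
      linear_combination -h4
    simp only [hW, sub_mul, Finset.sum_sub_distrib, ← sq, ← pow_succ, C.sum_R_sq, h3, hGz]
    ring
  have hWF : ∑ g ∈ C.R, W g * (fix Ω g : ℤ) = (2 * C.M) * ((p : ℤ) * N) := by
    have : ∀ g ∈ C.R, W g * (fix Ω g : ℤ) = W g + W g * C.val g + W g * w g := fun g _ => by
      simp only [hw]; ring
    rw [Finset.sum_congr rfl this, Finset.sum_add_distrib, Finset.sum_add_distrib, hWsum, hWv, hWw,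
      hQ0]
    push_cast
    ring
  have hN1 : N = 1 := by
    have hlo : N ≠ 0 := by
      intro h0
      rw [h0] at hWF
      simp only [Nat.cast_zero, mul_zero] at hWF
      have h1 := (Finset.sum_eq_zero_iff_of_nonneg fun g _ =>
        mul_nonneg (hW0 g) (Int.natCast_nonneg _)).1 hWF 1 C.one_mem_R
      rcases mul_eq_zero.1 h1 with h2 | h2
      · omega
      · rw [fix_one, hΩ] at h2
        omega
    have hnn : ∀ g ∈ C.R.erase 1, 0 ≤ W g * ((C.f : ℤ) - C.val g) := fun g _ =>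
      mul_nonneg (hW0 g) (by have := C.val_le g; omega)
    have hs : ∑ g ∈ C.R.erase 1, W g * ((C.f : ℤ) - C.val g) =
        (2 * C.M) * ((p : ℤ) * (2 - N)) := by
      have : ∑ g ∈ C.R, W g * ((C.f : ℤ) - C.val g) = (2 * C.M) * ((p : ℤ) * (2 - N)) := by
        simp only [mul_sub, Finset.sum_sub_distrib, ← Finset.sum_mul, hWsum, hWv,
          show (C.f : ℤ) = 2 * p - 1 by omega]
        ring
      rwa [← Finset.add_sum_erase _ _ C.one_mem_R, C.val_one, sub_self, mul_zero, zero_add] at this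
    by_contra hne
    have hle : (2 * (C.M : ℤ)) * ((p : ℤ) * (2 - N)) ≤ 0 :=
      mul_nonpos_of_nonneg_of_nonpos (by omega)
        (mul_nonpos_of_nonneg_of_nonpos (by omega) (by omega))
    refine hnonid _ hnn (le_antisymm (hs ▸ hle) (Finset.sum_nonneg hnn)) fun g hg h0 => ?_
    exact (mul_eq_zero.1 h0).resolve_right (by
      have := C.val_lt (Finset.ne_of_mem_erase hg); omega)
  rw [hN1, Nat.cast_one, mul_one] at hWF hWv
  -- a suborbit
  have : Nonempty Ω := Fintype.card_pos_iff.1 (by omega)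
  obtain ⟨a₀⟩ := ‹Nonempty Ω›
  obtain ⟨b, hb⟩ := Fintype.exists_ne_of_one_lt_card (show 1 < Fintype.card Ω by omega) a₀
  set k := Nat.card (orbit (stabilizer G a₀) b) with hk
  have hk1 : 1 ≤ k := by
    rw [hk]
    exact Nat.card_pos_iff.2 ⟨⟨⟨b, mem_orbit_self b⟩⟩, inferInstance⟩
  have hk2 : k + 2 ≤ 3 * p := by
    by_contra hlt
    have hrank : classInner (fun g : G => (fix Ω g : ℂ)) (fun g : G => (fix Ω g : ℂ)) = 3 := by
      have hπc : IsCharacter G (fun g : G => (fix Ω g : ℂ)) := Char.pi_isCharacter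
      rw [Char.classInner_eq_sum (Char.isClassFunction_of_isCharacter hπc)]
      have h2 : ∀ θ : IrrCharacter G,
          classInner (θ : G → ℂ) (fun g => (fix Ω g : ℂ)) = (m θ : ℂ) := fun θ => by
        rw [← Char.classInner_conj_symm, hm, Complex.conj_natCast]
      simp only [hm, h2, hmψ]
      rw [Finset.sum_congr rfl (g := fun θ : IrrCharacter G =>
        if θ ∈ ({Blocks.triv G, C.χ, ψ} : Finset (IrrCharacter G)) then (1 : ℂ) else 0) (fun θ _ => by
          by_cases h9 : θ = Blocks.triv G ∨ θ = C.χ ∨ θ = ψ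
          · simp [h9]
          · simp [h9]),
        Finset.sum_boole, Finset.filter_mem_eq_inter, Finset.univ_inter,
        Finset.card_eq_three.2 ⟨_, _, _, C.hne.symm, hψt.symm, hψχ.symm, rfl⟩]
      norm_num
    have hrk := Char.pi_inner_self (G := G) (Ω := Ω) a₀
    rw [show (fun g : G => (Nat.card (fixedBy Ω g) : ℂ)) = (fun g => (fix Ω g : ℂ)) from rfl,
      hrank] at hrk
    have hQ3 : Nat.card (orbitRel.Quotient (stabilizer G a₀) Ω) = 3 := by exact_mod_cast hrk.symm
    have hcompl : orbit (stabilizer G a₀) b = {a₀}ᶜ := by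
      refine Set.eq_of_subset_of_ncard_le (fun x hx e => ?_) ?_
      · obtain ⟨g, hg⟩ := hx
        rw [Set.mem_singleton_iff] at e
        refine hb (smul_left_cancel (g : G) ?_)
        exact ((show (g : G) • b = x from hg).trans e).trans (mem_stabilizer_iff.1 g.2).symm
      · rw [Set.ncard_compl, Set.ncard_singleton, Nat.card_eq_fintype_card, hΩ,
          ← Nat.card_coe_set_eq, ← hk]
        omega
    have hle : Nat.card (orbitRel.Quotient (stabilizer G a₀) Ω) ≤
        ({Quotient.mk'' a₀, Quotient.mk'' b} :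
          Finset (orbitRel.Quotient (stabilizer G a₀) Ω)).card := by
      rw [Nat.card_eq_fintype_card, ← Finset.card_univ]
      refine Finset.card_le_card fun x _ => ?_
      induction x using Quotient.inductionOn' with
      | h x =>
        by_cases e : x = a₀
        · simp [e]
        · have : x ∈ orbit (stabilizer G a₀) b := hcompl ▸ e
          rw [Finset.mem_insert, Finset.mem_singleton, Quotient.eq'', Quotient.eq'']
          exact Or.inr this
    have := hle.trans Finset.card_le_two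
    omega
  have hmlt : ∀ φ : IrrCharacter G, mlt (R := G) Ω φ = m φ := fun φ => by
    have h1 := cast_mlt (Ω := Ω) φ
    rw [show piFun G Ω = (fun g => (fix Ω g : ℂ)) from rfl, hm] at h1
    exact_mod_cast h1
  have hlam0 : ∀ φ : IrrCharacter G, φ ≠ Blocks.triv G → φ ≠ C.χ → φ ≠ ψ →
      lam a₀ b φ = 0 := fun φ h1 h2 h3 => lam_eq_zero a₀ b (by
    rw [hmlt, hmψ, if_neg (by simp [h1, h2, h3])])
  have hone : (oneChar : IrrCharacter G) = Blocks.triv G := rfl
  set rr := lam a₀ b C.χ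
  set ss := lam a₀ b ψ
  have hexp3 : ∀ φ : IrrCharacter G → ℂ,
      (∀ θ, θ ≠ Blocks.triv G → θ ≠ C.χ → θ ≠ ψ → φ θ = 0) →
      ∑ θ, φ θ = φ (Blocks.triv G) + φ C.χ + φ ψ := fun φ hφ => by
    rw [← Finset.sum_subset (Finset.subset_univ ({Blocks.triv G, C.χ, ψ} : Finset (IrrCharacter G)))
      (fun θ _ hθ => by
        simp only [Finset.mem_insert, Finset.mem_singleton, not_or] at hθ
        exact hφ θ hθ.1 hθ.2.1 hθ.2.2),
      Finset.sum_insert (by simp [C.hne.symm, hψt.symm]), Finset.sum_pair hψχ.symm, add_assoc]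
  have hlamk : lam a₀ b (Blocks.triv G) = (k : ℂ) := by rw [← hone, lam_one]
  set A : G → ℕ := fun g =>
    (Finset.univ.filter fun x : Ω => Char.orbMat G a₀ b x (g • x) = 1).card with hA
  have hAval : ∀ g, (A g : ℂ) = k + rr * C.val g + ss * w g := by
    intro g
    have h := congrFun (Char.classFun_expansion (Char.orbFun_isClassFunction
      (Char.orbMat G a₀ b) (Char.orbMat_inv (G := G) a₀ b))) g
    simp only [Finset.sum_apply, Pi.smul_apply, smul_eq_mul] at h
    change Char.orbFun (Char.orbMat G a₀ b) g = ∑ θ : IrrCharacter G, lam a₀ b θ * (θ : G → ℂ) g at h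
    rw [hexp3 (fun θ : IrrCharacter G => lam a₀ b θ * (θ : G → ℂ) g)
      (fun θ h1 h2 h3 => mul_eq_zero_of_left (hlam0 θ h1 h2 h3) _)] at h
    have h' : Char.orbFun (Char.orbMat G a₀ b) g =
        lam a₀ b (Blocks.triv G) * (Blocks.triv G : G → ℂ) g + rr * (C.χ : G → ℂ) g +
          ss * (ψ : G → ℂ) g := h
    rw [hlamk, C.val_spec, hwψ] at h'
    rw [show (Blocks.triv G : G → ℂ) g = 1 from rfl, mul_one] at h'
    rw [← h', hA, Char.orbFun]
    beta_reduce
    rw [Finset.card_filter]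
    push_cast
    refine Finset.sum_congr rfl fun x _ => ?_
    by_cases he : ∃ u : G, u • a₀ = x ∧ u • b = g • x <;> simp [Char.orbMat, he]
  have hAle : ∀ g, (A g : ℤ) + fix Ω g ≤ 3 * p := by
    intro g
    have h1 : A g + fix Ω g ≤ Fintype.card Ω := by
      have hF : fix Ω g = (Finset.univ.filter fun x : Ω => g • x = x).card := by
        rw [fix, Nat.card_eq_fintype_card]
        exact Fintype.card_subtype _
      rw [hA, hF, ← Finset.card_union_of_disjoint]
      · exact Finset.card_le_univ _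
      · rw [Finset.disjoint_left]
        intro x hx hx'
        rw [Finset.mem_filter] at hx hx'
        rw [hx'.2, Char.orbMat_diag hb] at hx
        exact zero_ne_one hx.2
    rw [hΩ] at h1
    exact_mod_cast h1
  obtain ⟨z, hz, hz1, -⟩ := C.exists_z
  have hvz : C.val z = -1 := by
    have := C.chi_P hz hz1
    rw [C.val_spec, ha] at this
    exact_mod_cast this
  have hwz : w z = 0 := by
    have := hwP z hz hz1
    rw [hwψ] at this
    exact_mod_cast this
  obtain ⟨r, hr⟩ : ∃ r : ℤ, rr = r := ⟨(k : ℤ) - A z, by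
    have := hAval z
    rw [hvz, hwz] at this
    push_cast at this ⊢
    linear_combination this⟩
  obtain ⟨s, hs⟩ : ∃ s : ℤ, ss = s := by
    have hwy : w y = 1 ∨ w y = -1 := by
      simp only [hw, hvy, C.fix_invol hΩ hy]
      split_ifs <;> simp
    have := hAval y
    rcases hwy with h' | h' <;> rw [hvy, h', hr] at this
    · exact ⟨(A y : ℤ) - k - r, by push_cast at this ⊢; linear_combination -this⟩
    · exact ⟨(k : ℤ) + r - A y, by push_cast at this ⊢; linear_combination this⟩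
  have hAz : ∀ g, (A g : ℤ) = k + r * C.val g + s * w g := fun g => by
    have h := hAval g
    rw [hr, hs] at h
    exact_mod_cast h
  have hfcast : (C.χ : G → ℂ) 1 = ((C.f : ℤ) : ℂ) := by rw [C.degree_one]; simp
  have hpcast : (ψ : G → ℂ) 1 = ((p : ℤ) : ℂ) := by rw [hwψ, hw1]
  have hlin : (k : ℤ) + C.f * r + p * s = 0 := by
    have h := sum_deg_lam (R := G) hb
    rw [hexp3 _ (fun θ h1 h2 h3 => mul_eq_zero_of_right _ (hlam0 θ h1 h2 h3))] at h
    have h' : (Blocks.triv G : G → ℂ) 1 * lam a₀ b (Blocks.triv G) + (C.χ : G → ℂ) 1 * rr +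
        (ψ : G → ℂ) 1 * ss = 0 := h
    rw [hlamk, hr, hs, hfcast, hpcast, show (Blocks.triv G : G → ℂ) 1 = 1 from rfl, one_mul] at h'
    exact_mod_cast h'
  have hquad : (k : ℤ) ^ 2 + C.f * r ^ 2 + p * s ^ 2 = 3 * p * k := by
    have h := sum_deg_lam_sq (R := G) (Ω := Ω) (fun φ => by
      rw [hmlt, hmψ]; split_ifs <;> simp) a₀ b
    rw [hexp3 _ (fun θ h1 h2 h3 => by simp [hlam0 θ h1 h2 h3]), hΩ, ← hk] at h
    have h' : (Blocks.triv G : G → ℂ) 1 * (lam a₀ b (Blocks.triv G) *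
          conj (lam a₀ b (Blocks.triv G))) + (C.χ : G → ℂ) 1 * (rr * conj rr) +
        (ψ : G → ℂ) 1 * (ss * conj ss) = ((3 * p : ℕ) : ℂ) * (k : ℂ) := h
    rw [hlamk, hr, hs, hfcast, hpcast, show (Blocks.triv G : G → ℂ) 1 = 1 from rfl, one_mul,
      Complex.conj_natCast, map_intCast, map_intCast] at h'
    push_cast at h'
    simp only [← sq] at h'
    exact_mod_cast h'
  have hlo : 0 ≤ (k : ℤ) + r * ((p : ℤ) - 1) := by
    have h1 : 0 ≤ ∑ g ∈ C.R, W g * (A g : ℤ) :=
      Finset.sum_nonneg fun g _ => mul_nonneg (hW0 g) (Int.natCast_nonneg _)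
    have h2 : ∑ g ∈ C.R, W g * (A g : ℤ) = (2 * C.M) * ((k : ℤ) + r * ((p : ℤ) - 1)) := by
      have : ∀ g ∈ C.R, W g * (A g : ℤ) = W g * k + r * (W g * C.val g) + s * (W g * w g) :=
        fun g _ => by rw [hAz]; ring
      rw [Finset.sum_congr rfl this, Finset.sum_add_distrib, Finset.sum_add_distrib,
        ← Finset.sum_mul, ← Finset.mul_sum, ← Finset.mul_sum, hWsum, hWv, hWw, hQ0]
      push_cast
      ring
    rw [h2] at h1
    exact nonneg_of_mul_nonneg_right h1 hX0
  have hhi : (k : ℤ) + r * ((p : ℤ) - 1) ≤ 2 * p := by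
    have h1 : ∑ g ∈ C.R, W g * ((A g : ℤ) + fix Ω g) ≤ ∑ g ∈ C.R, W g * (3 * p) :=
      Finset.sum_le_sum fun g _ => mul_le_mul_of_nonneg_left (hAle g) (hW0 g)
    have h2 : ∑ g ∈ C.R, W g * ((A g : ℤ) + fix Ω g) =
        (2 * C.M) * ((k : ℤ) + r * ((p : ℤ) - 1) + p) := by
      have : ∀ g ∈ C.R, W g * ((A g : ℤ) + fix Ω g) =
          W g * k + r * (W g * C.val g) + s * (W g * w g) + W g * (fix Ω g : ℤ) :=
        fun g _ => by rw [hAz]; ring
      rw [Finset.sum_congr rfl this, Finset.sum_add_distrib, Finset.sum_add_distrib,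
        Finset.sum_add_distrib,
        ← Finset.sum_mul, ← Finset.mul_sum, ← Finset.mul_sum, hWsum, hWv, hWw, hWF, hQ0]
      push_cast
      ring
    rw [h2, ← Finset.sum_mul, hWsum] at h1
    have := le_of_mul_le_mul_left h1 hX0
    linarith
  obtain ⟨τ, hτ⟩ : ∃ τ : ℤ, (k : ℤ) + r * ((p : ℤ) - 1) = p * τ :=
    ⟨-r - s, by
      have hfz : (C.f : ℤ) = 2 * p - 1 := by omega
      rw [hfz] at hlin
      linear_combination hlin⟩
  have hτ0 : 0 ≤ τ := by
    by_contra hc
    have : (p : ℤ) * τ ≤ (p : ℤ) * (-1) := mul_le_mul_of_nonneg_left (by omega) (by omega)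
    omega
  have hτ2 : τ ≤ 2 := by
    by_contra hc
    have : (p : ℤ) * 3 ≤ (p : ℤ) * τ := mul_le_mul_of_nonneg_left (by omega) (by omega)
    omega
  have hfz : (C.f : ℤ) = 2 * p - 1 := by omega
  have hkz : (k : ℤ) = p * τ - r * ((p : ℤ) - 1) := by linear_combination hτ
  have hp0 : (p : ℤ) ≠ 0 := by omega
  have hsz : s = -r - τ := mul_left_cancel₀ hp0 (by
    rw [hfz, hkz] at hlin; linear_combination hlin)
  have hquad' : (p : ℤ) * (τ - r) ^ 2 - 3 * p * (τ - r) + 6 * r ^ 2 + 6 * r * (τ - r) +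
      (τ - r) ^ 2 - 3 * r = 0 := mul_left_cancel₀ hp0 (by
    rw [hfz, hkz, hsz] at hquad
    linear_combination hquad)
  have hkl : (1 : ℤ) ≤ k := by exact_mod_cast hk1
  have hku : (k : ℤ) + 2 ≤ 3 * p := by exact_mod_cast hk2
  rw [hkz] at hkl hku
  have hp1 : (0 : ℤ) < (p : ℤ) - 1 := by omega
  have hr1 : -3 ≤ r := by
    by_contra hc
    have h1 : (4 : ℤ) * ((p : ℤ) - 1) ≤ -r * ((p : ℤ) - 1) :=
      mul_le_mul_of_nonneg_right (by omega) hp1.le
    have h2 : 0 ≤ (p : ℤ) * τ := mul_nonneg (by omega) hτ0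
    linarith
  have hr2 : r ≤ 2 := by
    by_contra hc
    have h1 : (3 : ℤ) * ((p : ℤ) - 1) ≤ r * ((p : ℤ) - 1) :=
      mul_le_mul_of_nonneg_right (by omega) hp1.le
    have h2 : (p : ℤ) * τ ≤ p * 2 := mul_le_mul_of_nonneg_left hτ2 (by omega)
    linarith
  have hp5' : p = 5 := by
    interval_cases τ <;> interval_cases r <;> norm_num at hquad' <;> omega
  -- `p = 5` with `q > 1`
  subst hp5'
  have hf9 : C.f = 9 := by omega
  have hh8 : h = 8 := by omega
  rw [hf9, hh8] at hG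
  have hfact : Nat.card G ∣ (15).factorial := by
    have hinj : Function.Injective (MulAction.toPermHom G Ω) := MulAction.toPerm_injective
    have := Subgroup.card_dvd_of_injective _ hinj
    rwa [Nat.card_perm, Nat.card_eq_fintype_card (α := Ω), hΩ] at this
  rw [hG] at hfact
  have hqd : q ∣ 5040 := by
    have h360 : (15).factorial = 360 * (5040 ^ 2 * 143) := by decide
    rw [h360, show 5 * 9 * 8 * q ^ 2 = 360 * q ^ 2 by ring] at hfact
    have h1 : q ^ 2 ∣ 5040 ^ 2 * 143 := Nat.dvd_of_mul_dvd_mul_left (by norm_num) hfact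
    have hcop : Nat.Coprime (q ^ 2) 143 := by
      refine Nat.Coprime.pow_left _ ?_
      rw [show 143 = 11 * 13 by norm_num]
      refine Nat.Coprime.mul_right ?_ ?_
      all_goals
        refine ((Nat.Prime.coprime_iff_not_dvd (by norm_num)).2 fun hd => ?_).symm
        have h2 := (pow_dvd_pow_of_dvd hd 2).trans h1
        norm_num at h2
    exact (Nat.pow_dvd_pow_iff two_ne_zero).1 (hcop.dvd_of_dvd_mul_right h1)
  have hMmod : q ^ 2 % 5 = 1 := by
    have hM : C.M = C.n * 5 + 1 := rfl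
    rw [hf9, hh8] at h2M
    omega
  have hq2 : q = 9 ∨ q = 21 := by
    have key : ∀ d ∈ Nat.divisors 5040, ¬ 2 ∣ d → 3 ≤ d → d ^ 2 % 5 = 1 → d = 9 ∨ d = 21 := by
      decide +kernel
    exact key q (Nat.mem_divisors.2 ⟨hqd, by norm_num⟩) hqodd hq3 hMmod
  have hWvsum : ∑ g ∈ C.R.erase 1, W g * C.val g = 4 * (2 * (C.M : ℤ)) - W 1 * 9 := by
    rw [← Finset.add_sum_erase _ _ C.one_mem_R, C.val_one, hf9] at hWv
    push_cast at hWv
    linear_combination hWv
  obtain ⟨g, hg, hWg, hvg⟩ : ∃ g ∈ C.R.erase 1, W g ≠ 0 ∧ 4 ≤ C.val g := by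
    by_contra! hall
    have h1 : ∑ g ∈ C.R.erase 1, W g * C.val g ≤ ∑ g ∈ C.R.erase 1, W g * 3 :=
      Finset.sum_le_sum fun g hg => by
        by_cases h0 : W g = 0
        · simp [h0]
        · exact mul_le_mul_of_nonneg_left (by have := hall g hg h0; omega) (hW0 g)
    rw [← Finset.sum_mul, hWvsum] at h1
    have h2 := hWsum
    rw [← Finset.add_sum_erase _ _ C.one_mem_R] at h2
    rw [hW1, hf9] at h1 h2 hXgt
    rw [hf9] at h2Mz
    push_cast at h1 h2 h2Mz hXgt
    rcases hq2 with rfl | rfl <;> norm_num at h1 h2 h2Mz <;> omega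
  obtain ⟨hg1, hgR⟩ := Finset.mem_erase.1 hg
  rw [C.mem_R] at hgR
  obtain ⟨n, hn0, hn⟩ := C.exists_n hy hgR hg1
  rw [hvy, hcq, hf9, hh8] at hn
  push_cast at hn
  have hcn : (C.cz g : ℤ) * n = q * (9 - C.val g) := by linarith
  set K := Finset.univ.filter (fun x : G => IsConj g x) with hK
  have hKR : K ⊆ C.R.erase 1 := by
    intro x hx
    obtain ⟨c, rfl⟩ := isConj_iff.1 (Finset.mem_filter.1 hx).2
    rw [Finset.mem_erase, C.mem_R, Blocks.orderOf_conj']
    exact ⟨fun e => hg1 (conj_eq_one_iff.1 e), hgR⟩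
  have hKle : (K.card : ℤ) * W g ≤ ∑ x ∈ C.R.erase 1, W x := by
    have h1 := Finset.sum_le_sum_of_subset_of_nonneg hKR (f := W) fun x _ _ => hW0 x
    rwa [Finset.sum_congr rfl (g := fun _ => W g) (fun x hx => by
        obtain ⟨c, rfl⟩ := isConj_iff.1 (Finset.mem_filter.1 hx).2
        simp only [hW, C.val_conj]),
      Finset.sum_const, nsmul_eq_mul] at h1
  have hKc : (K.card : ℤ) * C.cz g = 360 * (q : ℤ) ^ 2 := by
    have h1 := C.card_class g
    rw [Nat.card_eq_fintype_card, Fintype.card_subtype, ← hK, hG] at h1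
    have h1' : ((K.card * C.cz g : ℕ) : ℤ) = ((5 * 9 * 8 * q ^ 2 : ℕ) : ℤ) := by rw [h1]
    push_cast at h1'
    linarith
  have hsumR : ∑ x ∈ C.R.erase 1, W x ≤ 72 * (q : ℤ) ^ 2 := by
    have h2 := hWsum
    rw [← Finset.add_sum_erase _ _ C.one_mem_R] at h2
    rw [hf9] at h2Mz
    norm_num at h2Mz
    linarith
  have hkey : 5 * W g ≤ C.cz g := by
    have h2 : 360 * (q : ℤ) ^ 2 * W g ≤ 72 * (q : ℤ) ^ 2 * C.cz g := by
      rw [← hKc, mul_right_comm]
      exact mul_le_mul_of_nonneg_right (hKle.trans hsumR) (Int.natCast_nonneg _)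
    have hq2pos : (0 : ℤ) < 72 * (q : ℤ) ^ 2 := by positivity
    refine le_of_mul_le_mul_left ?_ hq2pos
    linarith
  have hvlt : C.val g ≤ 8 := by have := C.val_lt hg1; omega
  simp only [hW] at hkey
  have hczle : (C.cz g : ℤ) ≤ q * (9 - C.val g) := by
    rw [← hcn]; exact le_mul_of_one_le_right (Int.natCast_nonneg _) hn0
  rcases eq_or_ne (C.val g) 4 with hv4 | hv4
  · have hd : C.cz g ∣ q * 5 := by
      rw [hv4] at hcn
      exact Int.natCast_dvd_natCast.1 ⟨n, by push_cast; linear_combination -hcn⟩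
    have hcop : Nat.Coprime (C.cz g) 5 :=
      ((Fact.out : Nat.Prime 5).coprime_iff_not_dvd.2 (C.not_dvd_cz hgR hg1)).symm
    have hle := Nat.le_of_dvd hq0 (hcop.dvd_of_dvd_mul_right hd)
    rw [hv4] at hkey
    rcases hq2 with rfl | rfl <;> omega
  · have h20 : (20 : ℤ) ≤ C.val g ^ 2 - C.val g := by
      have : (5 : ℤ) ≤ C.val g := by omega
      nlinarith
    have h4 : (q : ℤ) * (9 - C.val g) ≤ 21 * 4 :=
      mul_le_mul (by rcases hq2 with rfl | rfl <;> norm_num) (by omega) (by omega) (by norm_num)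
    omega

end Ctx

end Cfsg.Agent.Fg24.DegThreeP
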