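import Cfsg.Agent.Fg24.DegThreeP.One
import Cfsg.Agent.Fg24.DegThreeP.Two
import Cfsg.Agent.Fg24.DegThreeP.ThreeOne
import Cfsg.Agent.Fg24.DegThreeP.ThreeThree
import Cfsg.Agent.SmallOrder.Order360

/-!
# Simple groups of degree `3p` with normaliser of order `2p`

The possible degrees of the non-exceptional character of the principal block and the assembly
of the classification.
-/

set_option autoImplicit false
set_option linter.unusedSectionVars false

open Cfsg MulAction
open scoped Classical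

namespace Cfsg.Agent.Fg24.DegThreeP

universe u v

variable {G : Type u} [Group G] [Fintype G] [IsSimpleGroup G] {p : ℕ} [Fact p.Prime]

namespace Ctx

variable (C : Ctx G p)
include C

theorem card_Y : 2 * C.D.Y.card + 1 = p := by
  obtain ⟨t, ht⟩ := C.p_odd
  rw [C.D.cardY]
  omega

theorem f_plus (ha : C.a = 1) : p + 1 ≤ C.f := by
  have h := C.f_mod
  rw [ha] at h
  have := Int.le_of_dvd (by have := C.f_ge_two; omega) h
  omega

/-- In degree `p` the character has degree `p - 1`. -/
theorem cases_one {X : Type v} [Fintype X] [MulAction G X] [IsPretransitive G X]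
    (hX : Fintype.card X = p) : C.a = -1 ∧ C.f + 1 = p := by
  have hp5 := C.hp5
  have hY := C.card_Y
  have : Nonempty X := Fintype.card_pos_iff.1 (by rw [hX]; omega)
  obtain ⟨m, k, -, -, -, -, hrel, rest, -, hdeg⟩ :=
    C.decomp (X := X) (j := 1) (by rw [hX, one_mul]) (by omega)
  have hrest : 0 ≤ ∑ θ ∈ rest, ((m θ * charDegree (θ : G → ℂ) : ℕ) : ℤ) :=
    Finset.sum_nonneg fun _ _ => Int.natCast_nonneg _
  rcases C.a_or with ha | ha
  · exfalso
    have hf := C.f_plus ha
    rw [ha] at hrel hdeg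
    have hk : 1 ≤ k := by omega
    have h1 : (C.D.Y.card : ℤ) * (((p : ℤ) + 2)) ≤ C.D.Y.card * (k * ((C.f : ℤ) + 1)) := by
      refine mul_le_mul_of_nonneg_left ?_ (Int.natCast_nonneg _)
      calc ((p : ℤ) + 2) ≤ 1 * ((C.f : ℤ) + 1) := by omega
        _ ≤ k * ((C.f : ℤ) + 1) := mul_le_mul_of_nonneg_right (by omega) (by omega)
    have h2 : (2 : ℤ) * ((p : ℤ) + 2) ≤ C.D.Y.card * ((p : ℤ) + 2) :=
      mul_le_mul_of_nonneg_right (by omega) (by omega)
    have h3 : (0 : ℤ) ≤ (m C.χ : ℤ) * C.f := by positivity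
    omega
  · refine ⟨ha, ?_⟩
    obtain ⟨u, hu0, hu⟩ := C.f_bound ha
    by_contra hne
    have hu2 : 2 ≤ u := by
      by_contra h
      exact hne (by rw [hu, show u = 1 by omega, one_mul])
    have hfu : 2 * p ≤ C.f + 1 := hu ▸ Nat.mul_le_mul_right p hu2
    rw [ha] at hrel hdeg
    have hm : 1 ≤ m C.χ := by omega
    have h1 : (C.f : ℤ) ≤ (m C.χ : ℤ) * C.f :=
      le_mul_of_one_le_left (Int.natCast_nonneg _) (by exact_mod_cast hm)
    have h2 : (0 : ℤ) ≤ C.D.Y.card * (k * ((C.f : ℤ) + -1)) :=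
      mul_nonneg (Int.natCast_nonneg _) (mul_nonneg (Int.natCast_nonneg _) (by omega))
    omega

/-- In degree `3p` the possible degrees of the character. -/
theorem cases_three {Ω : Type v} [Fintype Ω] [MulAction G Ω] [IsPretransitive G Ω]
    (hΩ : Fintype.card Ω = 3 * p) :
    C.a = -1 ∧ (C.f + 1 = p ∨
      ((C.f + 1 = 2 * p ∨ C.f + 1 = 3 * p) ∧ ∃ m : IrrCharacter G → ℕ, m C.χ = 1 ∧
        m (Blocks.triv G) = 1 ∧ (∀ η ∈ C.D.Y, m η = 0) ∧
        (∀ θ : IrrCharacter G, classInner (fun g => (fix Ω g : ℂ)) (θ : G → ℂ) = m θ) ∧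
        (∀ g, (fix Ω g : ℂ) = ∑ θ : IrrCharacter G, (m θ : ℂ) * (θ : G → ℂ) g) ∧
        (C.f + 1 = 3 * p → ∀ θ, θ ∉ C.D.X → θ ∉ C.D.Y → m θ = 0))) := by
  have hp : p.Prime := Fact.out
  have hp5 := C.hp5
  have hY := C.card_Y
  have : Nonempty Ω := Fintype.card_pos_iff.1 (by rw [hΩ]; omega)
  obtain ⟨m, k, hm, hexp, hmt, hmY, hrel, rest, hmem, hdeg⟩ :=
    C.decomp (X := Ω) (j := 3) hΩ (by omega)
  have hrest : 0 ≤ ∑ θ ∈ rest, ((m θ * charDegree (θ : G → ℂ) : ℕ) : ℤ) :=
    Finset.sum_nonneg fun _ _ => Int.natCast_nonneg _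
  have hzero : ∑ θ ∈ rest, ((m θ * charDegree (θ : G → ℂ) : ℕ) : ℤ) = 0 →
      ∀ θ, θ ∉ C.D.X → θ ∉ C.D.Y → m θ = 0 := by
    intro h θ h1 h2
    have := (Finset.sum_eq_zero_iff_of_nonneg fun _ _ => Int.natCast_nonneg _).1 h θ
      ((hmem θ).2 ⟨h1, h2⟩)
    exact (mul_eq_zero.1 (by exact_mod_cast this : m θ * charDegree (θ : G → ℂ) = 0)).resolve_right
      (Blocks.charDegree_pos θ.2).ne'
  rcases C.a_or with ha | ha
  · exfalso
    have hf := C.f_plus ha
    rw [ha] at hrel hdeg
    have hk : k = m C.χ + 1 := by omega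
    have h1 : (C.D.Y.card : ℤ) * ((k : ℤ) * ((p : ℤ) + 2)) ≤
        C.D.Y.card * (k * ((C.f : ℤ) + 1)) :=
      mul_le_mul_of_nonneg_left (mul_le_mul_of_nonneg_left (by omega) (Int.natCast_nonneg _))
        (Int.natCast_nonneg _)
    have hmf : (0 : ℤ) ≤ (m C.χ : ℤ) * C.f := by positivity
    have hk1 : k = 1 := by
      by_contra hne
      have h2 : (2 : ℤ) * (2 * ((p : ℤ) + 2)) ≤ C.D.Y.card * ((k : ℤ) * ((p : ℤ) + 2)) :=
        mul_le_mul (by omega) (mul_le_mul_of_nonneg_right (by omega) (by omega))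
          (by positivity) (Int.natCast_nonneg _)
      omega
    subst hk1
    simp only [Nat.cast_one, one_mul] at h1 hdeg
    have h5 : p = 5 := by
      by_contra hne
      have hp6 : p ≠ 6 := fun h6 => by rw [h6] at hp; norm_num at hp
      have h2 : (3 : ℤ) * ((p : ℤ) + 2) ≤ C.D.Y.card * ((p : ℤ) + 2) :=
        mul_le_mul_of_nonneg_right (by omega) (by omega)
      omega
    have hY2 : C.D.Y.card = 2 := by omega
    have hm0 : m C.χ = 0 := by omega
    rw [hm0, hY2] at hdeg
    simp only [Nat.cast_zero, Nat.cast_ofNat, zero_mul] at hdeg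
    have hfmod := C.f_mod
    rw [ha] at hfmod
    obtain ⟨q, hq⟩ := hfmod
    have hpz : (p : ℤ) = 5 := by exact_mod_cast h5
    rw [hpz] at hq hdeg
    have hf6 : C.f = 6 := by omega
    have hr0 : ∑ θ ∈ rest, ((m θ * charDegree (θ : G → ℂ) : ℕ) : ℤ) = 0 := by omega
    obtain ⟨y, hy⟩ := C.exists_involution
    have hF : fix Ω y = 3 := by rw [C.fix_invol hΩ hy, if_pos (by omega)]
    have hv : C.val y = 0 := by
      have h := hexp y
      rw [hF, ← Finset.sum_add_sum_compl (C.D.X ∪ C.D.Y), Finset.sum_union C.D.disj, C.sum_X,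
        Finset.sum_eq_zero (s := (C.D.X ∪ C.D.Y)ᶜ) (fun θ hθ => by
          rw [Finset.mem_compl, Finset.mem_union, not_or] at hθ
          rw [hzero hr0 θ hθ.1 hθ.2, Nat.cast_zero, zero_mul]),
        Finset.sum_congr (s₁ := C.D.Y) rfl (g := fun _ => ((C.val y : ℂ) + 1)) (fun η hη => by
          rw [hmY η hη, Nat.cast_one, one_mul, C.eta_apply hη (C.not_dvd_invol hy), C.val_spec,
            ha, Int.cast_one]),
        Finset.sum_const, hY2, hmt, hm0] at h
      simp [Blocks.triv] at h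
      have h' : (3 : ℤ) = 1 + 2 * (C.val y + 1) := by
        apply Int.cast_injective (α := ℂ)
        push_cast
        linear_combination h
      omega
    have hk' := C.key hy
    rw [ha, hv, hf6, hpz] at hk'
    have hnat : Nat.card G * 6 = 35 * C.cz y ^ 2 := by
      have : ((Nat.card G * 6 : ℕ) : ℤ) = ((35 * C.cz y ^ 2 : ℕ) : ℤ) := by
        push_cast
        push_cast at hk'
        linarith
      exact_mod_cast this
    have h4 := (Nat.prime_two.pow_dvd_iff_le_factorization Nat.card_pos.ne').1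
      (show 2 ^ 2 ∣ Nat.card G from C.four_dvd_card)
    have hfac := congrArg (fun n => Nat.factorization n 2) hnat
    rw [Nat.factorization_mul Nat.card_pos.ne' (by norm_num),
      Nat.factorization_mul (by norm_num) (pow_ne_zero _ (C.cz_pos y).ne'),
      Nat.factorization_pow, show (6 : ℕ) = 2 * 3 by norm_num,
      Nat.factorization_mul (by norm_num) (by norm_num)] at hfac
    simp only [Finsupp.coe_add, Pi.add_apply, Finsupp.coe_smul, Pi.smul_apply, smul_eq_mul,
      C.factorization_cz hy, Nat.prime_two.factorization_self] at hfac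
    rw [Nat.factorization_eq_zero_of_not_dvd (show ¬ 2 ∣ 35 by norm_num),
      Nat.factorization_eq_zero_of_not_dvd (show ¬ 2 ∣ 3 by norm_num)] at hfac
    omega
  · refine ⟨ha, ?_⟩
    obtain ⟨u, hu0, hu⟩ := C.f_bound ha
    rcases (show u = 1 ∨ 2 ≤ u by omega) with rfl | hu2
    · exact Or.inl (by rw [hu, one_mul])
    refine Or.inr ?_
    have hfu : 2 * p ≤ C.f + 1 := hu ▸ Nat.mul_le_mul_right p hu2
    rw [ha] at hrel hdeg
    have hmk : m C.χ = k + 1 := by omega
    have hk0 : k = 0 := by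
      by_contra hne
      have h1 : (2 : ℤ) * C.f ≤ (m C.χ : ℤ) * C.f :=
        mul_le_mul_of_nonneg_right (by omega) (Int.natCast_nonneg _)
      have h2 : (2 : ℤ) * (1 * ((C.f : ℤ) + -1)) ≤ C.D.Y.card * (k * ((C.f : ℤ) + -1)) :=
        mul_le_mul (by omega) (mul_le_mul_of_nonneg_right (by omega) (by omega))
          (mul_nonneg zero_le_one (by omega)) (Int.natCast_nonneg _)
      omega
    subst hk0
    rw [hmk] at hdeg
    simp only [Nat.cast_zero, Nat.cast_one, zero_add, one_mul, zero_mul, mul_zero] at hdeg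
    have hu3 : u ≤ 3 := Nat.le_of_mul_le_mul_right (show u * p ≤ 3 * p by omega) hp.pos
    have hf : C.f + 1 = 2 * p ∨ C.f + 1 = 3 * p := by
      rcases (show u = 2 ∨ u = 3 by omega) with rfl | rfl
      · exact Or.inl hu
      · exact Or.inr hu
    exact ⟨hf, m, hmk, hmt, hmY, hm, hexp, fun hf3 => hzero (by omega)⟩

end Ctx

/-- The classification of simple groups of degree `3p` with a normaliser of order `2p`. -/
theorem main (hnc : ¬ IsMulCommutative G) (hp3 : 3 < p) {Ω : Type v} [Fintype Ω] [MulAction G Ω]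
    [FaithfulSMul G Ω] [IsPretransitive G Ω] (hΩ : Fintype.card Ω = 3 * p) (P : Sylow p G)
    (hN : Nat.card (Subgroup.normalizer (P : Set G)) = 2 * p) :
    (IsPreprimitive G Ω → p = 5 ∧ Nonempty (G ≃* alternatingGroup (Fin 6))) ∧
      (¬ IsPreprimitive G Ω → ∃ (F : Type) (_ : Field F) (_ : Fintype F) (m : ℕ),
        Fintype.card F = 2 ^ m ∧ p = 2 ^ m + 1 ∧
        Nonempty (G ≃* Matrix.ProjectiveSpecialLinearGroup (Fin 2) F)) := by
  have hp : p.Prime := Fact.out
  have hp5 : 5 ≤ p := by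
    have : p ≠ 4 := fun h => by rw [h] at hp; norm_num at hp
    omega
  have : Nontrivial Ω := Fintype.one_lt_card_iff_nontrivial.1 (by rw [hΩ]; omega)
  obtain ⟨a₀⟩ : Nonempty Ω := inferInstance
  have hidx : (stabilizer G a₀).index = 3 * p := by
    rw [index_stabilizer_of_transitive G a₀, Nat.card_eq_fintype_card, hΩ]
  have hdvd : p ∣ Nat.card G :=
    (dvd_mul_left p 3).trans (hidx ▸ Subgroup.index_dvd_card _)
  obtain ⟨C⟩ := exists_ctx hnc hp5 hdvd P hN
  constructor
  · intro hprim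
    obtain ⟨ha, hf | ⟨hf, m, hm1, hmt, hmY, hm, hexp, hm0⟩⟩ := C.cases_three hΩ
    · exact (C.not_coatom ha hf _ ((isCoatom_stabilizer_iff_preprimitive (G := G) a₀).2 hprim)
        hidx).elim
    · rcases hf with hf | hf
      · obtain ⟨h5, h360⟩ := C.main_two hΩ ha hf hm1 hmt hmY hm hexp
        exact ⟨h5, SmallOrder.Order360.alt_six h360⟩
      · have T := C.three_of_decomp hΩ ha hf hm1 hmt hmY (hm0 hf) hm hexp
        obtain ⟨t, ht⟩ := C.p_odd
        rcases (show p % 4 = 1 ∨ p % 4 = 3 by omega) with h4 | h4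
        · exact (T.not_one h4 hprim).elim
        · exact (T.not_three h4).elim
  · intro hprim
    have hne : stabilizer G a₀ ≠ ⊤ := fun h => by
      rw [h, Subgroup.index_top] at hidx
      omega
    have hnot : ¬ IsCoatom (stabilizer G a₀) :=
      fun h => hprim ((isCoatom_stabilizer_iff_preprimitive (G := G) a₀).1 h)
    obtain ⟨L, hlt, hLtop⟩ : ∃ L, stabilizer G a₀ < L ∧ L ≠ ⊤ := by
      by_contra! h
      exact hnot ⟨hne, h⟩
    have hmul := Subgroup.relIndex_mul_index hlt.le
    rw [hidx] at hmul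
    have hL1 : L.index ≠ 1 := fun h => hLtop (Subgroup.index_eq_one.1 h)
    have hrel : (stabilizer G a₀).relIndex L ≠ 1 := fun h =>
      hlt.not_ge (Subgroup.relIndex_eq_one.1 h)
    have hL : L.index = 3 ∨ L.index = p := by
      obtain ⟨d₁, d₂, hd₁, hd₂, heq⟩ := exists_dvd_and_dvd_of_dvd_mul
        (show L.index ∣ 3 * p from ⟨_, by rw [← hmul, mul_comm]⟩)
      rcases (Nat.dvd_prime Nat.prime_three).1 hd₁ with rfl | rfl <;>
        rcases (Nat.dvd_prime hp).1 hd₂ with h2 | h2 <;> rw [h2] at heq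
      · exact absurd (by simpa using heq) hL1
      · exact Or.inr (by simpa using heq)
      · exact Or.inl (by simpa using heq)
      · exfalso
        rw [heq] at hmul
        exact hrel (Nat.eq_of_mul_eq_mul_right (show 0 < 3 * p by omega)
          (by rw [one_mul]; exact hmul))
    rcases hL with hL | hL
    · exfalso
      have hinj : Function.Injective (toPermHom G (G ⧸ L)) := by
        rw [← MonoidHom.ker_eq_bot_iff]
        refine (IsSimpleGroup.eq_bot_or_eq_top_of_normal _ inferInstance).resolve_right fun h =>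
          hLtop ((Subgroup.eq_top_iff' L).2 fun g => ?_)
        have hg : g ∈ (toPermHom G (G ⧸ L)).ker := h ▸ Subgroup.mem_top g
        rw [MonoidHom.mem_ker] at hg
        have h1 := Equiv.Perm.congr_fun hg ((1 : G) : G ⧸ L)
        rw [toPermHom_apply, toPerm_apply, Equiv.Perm.one_apply, MulAction.Quotient.smul_coe,
          QuotientGroup.eq, smul_eq_mul, mul_one, mul_one] at h1
        exact inv_mem_iff.1 h1
      have h6 := Subgroup.card_dvd_of_injective _ hinj
      rw [Nat.card_perm, ← Subgroup.index_eq_card, hL] at h6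
      have := Nat.le_of_dvd (Nat.factorial_pos 3) (hdvd.trans h6)
      have hne6 : p ≠ 6 := fun h => by rw [h] at hp; norm_num at hp
      have h6' : p ∣ 6 := hdvd.trans h6
      have : p = 5 := by
        simp [Nat.factorial] at this
        omega
      rw [this] at h6'
      norm_num at h6'
    · obtain ⟨ha, hf⟩ := C.cases_one (X := G ⧸ L)
        (by rw [← Nat.card_eq_fintype_card, ← Subgroup.index_eq_card, hL])
      exact C.identify ha hf

end Cfsg.Agent.Fg24.DegThreeP
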