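import Cfsg.Agent.Fg24.DegThreeP.Act
import Cfsg.Agent.S0996
import Cfsg.Agent.Classical.SmallPSL
import Cfsg.Agent.Classical.Linear2

/-!
# The case of a character of degree `p - 1`

The group is `PSL(2, 2^m)` with `p = 2^m + 1`, and it has no maximal subgroup of index `3 p`.
-/

set_option autoImplicit false
set_option linter.unusedSectionVars false

open Cfsg MulAction
open scoped Classical

namespace Cfsg.Agent.Fg24.DegThreeP

open Cfsg.Agent.Fg24.Brauer

universe u

variable {G : Type u} [Group G] [Fintype G] [IsSimpleGroup G] {p : ℕ} [Fact p.Prime]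

namespace Ctx

variable (C : Ctx G p)
include C

theorem two_M (ha : C.a = -1) (hf : C.f + 1 = p) : 2 * C.M = (p - 1) * (p - 2) := by
  refine order_of_deg_sub_one C.hp5 C.F C.D C.hG C.χX ha (show C.f = p - 1 by omega)
    (fun η hη => ?_) fun g hg => ?_
  · have := C.eta_degree hη
    rw [ha] at this
    omega
  · rw [C.val_spec, C.degree_one] at hg
    exact C.eq_one_of_val (by exact_mod_cast hg)

theorem card_G (ha : C.a = -1) (hf : C.f + 1 = p) : Nat.card G = p * (C.f * (C.f - 1)) := by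
  rw [C.hG', mul_assoc, C.two_M ha hf, show p - 1 = C.f by omega, show p - 2 = C.f - 1 by omega]

theorem identify (ha : C.a = -1) (hf : C.f + 1 = p) :
    ∃ (F : Type) (_ : Field F) (_ : Fintype F) (m : ℕ), Fintype.card F = 2 ^ m ∧ p = 2 ^ m + 1 ∧
      Nonempty (G ≃* Matrix.ProjectiveSpecialLinearGroup (Fin 2) F) := by
  have hp : p.Prime := Fact.out
  have hp5 := C.hp5
  obtain ⟨z, hz, hz1, hzo⟩ := C.exists_z
  have hC : Subgroup.centralizer ({z} : Set G) = Subgroup.zpowers z := by
    rw [C.F.setup.centralizer_eq hz hz1, C.F.cent, C.F.setup.zpowers_eq hz hz1]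
  have hsyl : Nat.card (Sylow p G) = C.M := by
    rw [C.P.card_eq_index_normalizer]
    have h := Subgroup.index_mul_card (Subgroup.normalizer (C.P : Set G))
    rw [C.card_normalizer, C.hG', show p * 2 * C.M = C.M * (2 * p) by ring] at h
    exact Nat.eq_of_mul_eq_mul_right (by have := hp.pos; omega) h
  have hlt : 2 * Nat.card (Sylow p G) < (p + 1) * (p + 2) := by
    rw [hsyl, C.two_M ha hf]
    calc (p - 1) * (p - 2) ≤ p * p := Nat.mul_le_mul (by omega) (by omega)
      _ < _ := by nlinarith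
  rcases S0996.result C.perf p z hzo hC hlt with ⟨K, iK, iKF, hK, -, ⟨φ⟩⟩ |
      ⟨m, K, iK, iKF, hK, hpm, -, hφ⟩
  · have hcard := C.card_G ha hf
    have h1 := Classical.card_psl_mul (ι := Fin 2) (F := K)
    rw [Classical.card_sl2, Fintype.card_fin, ← Nat.card_congr φ.toEquiv, hcard, hK] at h1
    obtain ⟨q, hq⟩ := C.p_odd
    rw [show Nat.gcd 2 (p - 1) = 2 from Nat.gcd_eq_left ⟨q, by omega⟩] at h1
    obtain ⟨r, hr⟩ : ∃ r, p = r + 2 := ⟨p - 2, by omega⟩
    rw [show C.f - 1 = r by omega, show C.f = r + 1 by omega, hr,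
      show (r + 2) ^ 2 - 1 = (r + 1) * (r + 3) by
        rw [show (r + 2) ^ 2 = (r + 1) * (r + 3) + 1 by ring, Nat.add_sub_cancel]] at h1
    have h2 : (r + 2) * (r + 1) * (2 * r) = (r + 2) * (r + 1) * (r + 3) := by linarith
    have hr3 : r = 3 := by
      have := Nat.eq_of_mul_eq_mul_left (by positivity) h2
      omega
    have h60 : Nat.card G = 60 := by
      rw [hcard, show C.f = 4 by omega, show p = 5 by omega]
    have : Fact (Nat.Prime 2) := ⟨Nat.prime_two⟩
    let iF : Fintype (GaloisField 2 2) := Fintype.ofFinite _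
    have hF4 : Fintype.card (GaloisField 2 2) = 4 := by
      rw [← Nat.card_eq_fintype_card, GaloisField.card 2 2 two_ne_zero]
      rfl
    obtain ⟨e₁⟩ := Classical.Small.simple_sixty h60
    obtain ⟨e₂⟩ := Classical.Small.psl_two_sixty (F := GaloisField 2 2) (Or.inl hF4)
    exact ⟨GaloisField 2 2, inferInstance, iF, 2, hF4, by omega, ⟨e₁.trans e₂.symm⟩⟩
  · exact ⟨K, iK, iKF, m, hK, hpm, hφ⟩

theorem val_cases (ha : C.a = -1) (hf : C.f + 1 = p) {g : G} (hg : ¬ p ∣ orderOf g) (hg1 : g ≠ 1) :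
    C.val g = 0 ∨ C.val g = 1 := by
  have hp5 := C.hp5
  have h2 := C.two_M ha hf
  have hnn : ∀ x ∈ C.R, 0 ≤ C.val x ^ 2 - C.val x := fun x _ => by
    rcases le_or_gt (C.val x) 0 with h | h <;> nlinarith
  have hsum : ∑ x ∈ C.R, (C.val x ^ 2 - C.val x) = (C.f : ℤ) ^ 2 - C.f := by
    rw [Finset.sum_sub_distrib, C.sum_R_sq, C.sum_R_val, ha]
    have : (2 : ℤ) * C.M = ((p : ℤ) - 1) * ((p : ℤ) - 2) := by
      have h3 : ((2 * C.M : ℕ) : ℤ) = (((p - 1) * (p - 2) : ℕ) : ℤ) := by rw [h2]
      push_cast [Nat.cast_sub (show 1 ≤ p by omega), Nat.cast_sub (show 2 ≤ p by omega)] at h3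
      exact h3
    have hfz : (C.f : ℤ) = p - 1 := by omega
    rw [hfz]
    linear_combination this
  rw [← Finset.add_sum_erase _ _ C.one_mem_R, C.val_one, add_eq_left,
    Finset.sum_eq_zero_iff_of_nonneg (fun x hx => hnn x (Finset.mem_of_mem_erase hx))] at hsum
  have h := hsum g (Finset.mem_erase.2 ⟨hg1, C.mem_R.2 hg⟩)
  have h' : C.val g * (C.val g - 1) = 0 := by linear_combination h
  rcases mul_eq_zero.1 h' with h'' | h'' <;> omega

theorem not_coatom (ha : C.a = -1) (hf : C.f + 1 = p) (H : Subgroup G) (hH : IsCoatom H)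
    (hidx : H.index = 3 * p) : False := by
  have hp : p.Prime := Fact.out
  have h2f : Fact (Nat.Prime 2) := ⟨Nat.prime_two⟩
  have hp5 := C.hp5
  have hG := C.card_G ha hf
  obtain ⟨q, hq⟩ := C.p_odd
  -- an involution
  obtain ⟨y, hy⟩ := C.exists_involution
  have hy1 : y ≠ 1 := fun e => by rw [e, orderOf_one] at hy; omega
  have hcy2 : (C.f : ℤ) - C.val y = C.cz y := by
    have h := C.key hy
    rw [ha] at h
    have hne : (Nat.card G : ℤ) ≠ 0 := Int.natCast_ne_zero.2 Nat.card_pos.ne'
    have hGz : (Nat.card G : ℤ) = p * (C.f * ((C.f : ℤ) + -1)) := by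
      rw [hG]; push_cast [Nat.cast_sub (show 1 ≤ C.f by omega)]; ring
    have h' : ((C.f : ℤ) - C.val y) ^ 2 = (C.cz y : ℤ) ^ 2 := mul_left_cancel₀ hne (by
      rw [h, hGz]; ring)
    rcases sq_eq_sq_iff_eq_or_eq_neg.1 h' with h'' | h''
    · exact h''
    · have := C.val_lt hy1; omega
  have hcy : C.cz y = C.f ∧ C.val y = 0 := by
    rcases C.val_cases ha hf (C.not_dvd_invol hy) hy1 with h | h
    · exact ⟨by omega, h⟩
    · exfalso
      have h2 : 2 ∣ C.cz y := hy ▸ Subgroup.orderOf_dvd_natCard _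
        (Subgroup.mem_centralizer_singleton_iff.2 rfl)
      omega
  have hn1 : ∀ g : G, ¬ p ∣ orderOf g → g ≠ 1 → C.val g = 1 →
      (orderOf g : ℤ) ∣ (C.f : ℤ) - 1 := by
    intro g hg hg1 hv
    obtain ⟨n, hn0, hn⟩ := C.exists_n hy hg hg1
    rw [hcy.2, hcy.1, hv, sub_zero, mul_comm ((C.f : ℤ))] at hn
    have h3 : (C.cz g : ℤ) * n = (C.f : ℤ) - 1 := mul_right_cancel₀
      (show (C.f : ℤ) ≠ 0 by omega) hn
    exact (Int.natCast_dvd_natCast.2 (Subgroup.orderOf_dvd_natCard _
      (Subgroup.mem_centralizer_singleton_iff.2 rfl))).trans ⟨n, h3.symm⟩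
  -- the involutions
  set I := Finset.univ.filter (fun g : G => IsConj y g) with hI
  set V := (C.R.erase 1).filter (fun g => C.val g = 0) with hV
  have hIV : I = V := by
    refine Finset.eq_of_subset_of_card_le (fun g hg => ?_) ?_
    · rw [hI, Finset.mem_filter] at hg
      have ho : orderOf g = 2 := by
        obtain ⟨c, rfl⟩ := isConj_iff.1 hg.2
        rwa [Blocks.orderOf_conj']
      rw [hV, Finset.mem_filter, Finset.mem_erase, C.mem_R, C.val_isConj hg.2]
      exact ⟨⟨fun e => by rw [e, orderOf_one] at ho; omega, C.not_dvd_invol ho⟩, hcy.2⟩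
    · have hIc : I.card * C.f = p * (C.f - 1) * C.f := by
        have h := C.card_class y
        rw [hcy.1, Nat.card_eq_fintype_card, Fintype.card_subtype, ← hI, hG] at h
        rw [h]; ring
      have hVc : (V.card : ℤ) = ∑ g ∈ C.R.erase 1, (1 - C.val g) := by
        rw [hV, Finset.card_filter]
        push_cast
        refine Finset.sum_congr rfl fun g hg => ?_
        rw [Finset.mem_erase, C.mem_R] at hg
        rcases C.val_cases ha hf hg.2 hg.1 with h | h <;> simp [h]
      have hsum : ∑ g ∈ C.R, (1 - C.val g) = 2 * (C.M : ℤ) := by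
        rw [Finset.sum_sub_distrib, C.sum_R_val, ha, Finset.sum_const, nsmul_eq_mul, mul_one,
          C.card_R]
        ring
      rw [← Finset.add_sum_erase _ _ C.one_mem_R, C.val_one, ← hVc] at hsum
      have h2 : ((2 * C.M : ℕ) : ℤ) = (((p - 1) * (p - 2) : ℕ) : ℤ) := by rw [C.two_M ha hf]
      rw [show p - 1 = C.f by omega, show p - 2 = C.f - 1 by omega] at h2
      push_cast [Nat.cast_sub (show 1 ≤ C.f by omega)] at h2
      have hI' : (I.card : ℤ) = ((p * (C.f - 1) : ℕ) : ℤ) := by
        exact_mod_cast Nat.eq_of_mul_eq_mul_right (show 0 < C.f by omega) hIc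
      push_cast [Nat.cast_sub (show 1 ≤ C.f by omega)] at hI'
      have : (V.card : ℤ) = I.card := by
        rw [hI', show (p : ℤ) = C.f + 1 by omega]
        linear_combination hsum + h2
      exact_mod_cast this.le
  have hinv : ∀ g : G, ¬ p ∣ orderOf g → g ≠ 1 → C.val g = 0 → orderOf g = 2 := by
    intro g hg hg1 hv
    have : g ∈ I := hIV ▸ Finset.mem_filter.2 ⟨Finset.mem_erase.2 ⟨hg1, C.mem_R.2 hg⟩, hv⟩
    obtain ⟨c, rfl⟩ := isConj_iff.1 (Finset.mem_filter.1 this).2
    rwa [Blocks.orderOf_conj']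
  -- `f` is a power of two
  obtain ⟨m, hm⟩ : ∃ m, C.f = 2 ^ m := by
    refine ⟨_, Nat.eq_prime_pow_of_unique_prime_dvd (by omega) fun {l} hl hlf => ?_⟩
    by_contra hl2
    have : Fact l.Prime := ⟨hl⟩
    have hlG : l ∣ Nat.card G := hlf.trans (by rw [hG]; exact dvd_mul_of_dvd_right (dvd_mul_right _ _) _)
    obtain ⟨g, hg⟩ := exists_prime_orderOf_dvd_card' l hlG
    have hgp : ¬ p ∣ orderOf g := fun h => by
      rw [hg, Nat.prime_dvd_prime_iff_eq hp hl] at h
      have := Nat.le_of_dvd (by omega) hlf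
      omega
    have hg1 : g ≠ 1 := fun e => by rw [e, orderOf_one] at hg; exact hl.one_lt.ne hg
    rcases C.val_cases ha hf hgp hg1 with h | h
    · exact hl2 (hg ▸ hinv g hgp hg1 h)
    · have h1 := hn1 g hgp hg1 h
      rw [hg] at h1
      have h2 : (l : ℤ) ∣ 1 := by
        have := dvd_sub (Int.natCast_dvd_natCast.2 hlf) h1
        rwa [sub_sub_cancel] at this
      have := Int.le_of_dvd one_pos h2
      have := hl.two_le
      omega
  have hfac : (Nat.card G).factorization 2 = m := by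
    rw [← C.factorization_cz hy, hcy.1, hm, Nat.prime_two.factorization_pow, Finsupp.single_eq_same]
  have hU : ∀ U : Sylow 2 G, Nat.card (U : Subgroup G) = C.f := fun U => by
    rw [U.card_eq_multiplicity, hfac, hm]
  have hcent : ∀ U : Sylow 2 G, ∀ x ∈ (U : Subgroup G), x ≠ 1 →
      orderOf x = 2 ∧ Subgroup.centralizer ({x} : Set G) = (U : Subgroup G) := by
    intro U
    have hsq : ∀ x ∈ (U : Subgroup G), x ≠ 1 → orderOf x = 2 := by
      intro x hx hx1
      obtain ⟨k, hk⟩ := (IsPGroup.iff_orderOf.1 U.isPGroup') ⟨x, hx⟩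
      rw [Subgroup.orderOf_mk] at hk
      have hxp : ¬ p ∣ orderOf x := fun h => by
        rw [hk] at h
        have := Nat.le_of_dvd two_pos (hp.dvd_of_dvd_pow h)
        omega
      rcases C.val_cases ha hf hxp hx1 with h | h
      · exact hinv x hxp hx1 h
      · exfalso
        have h1 := hn1 x hxp hx1 h
        have h2 : (2 : ℤ) ∣ (orderOf x : ℤ) := by
          rw [hk]
          exact_mod_cast dvd_pow_self 2 (fun e => hx1 (by
            rw [e, pow_zero] at hk; exact orderOf_eq_one_iff.1 hk))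
        have := h2.trans h1
        omega
    intro x hx hx1
    refine ⟨hsq x hx hx1, (Subgroup.eq_of_le_of_card_ge (fun w hw => ?_) ?_).symm⟩
    · have hs : ∀ a ∈ (U : Subgroup G), a⁻¹ = a := fun a ha' => by
        by_cases e : a = 1
        · rw [e, inv_one]
        · have := pow_orderOf_eq_one a
          rw [hsq a ha' e, sq] at this
          exact inv_eq_of_mul_eq_one_right this
      rw [Subgroup.mem_centralizer_singleton_iff]
      calc w * x = (w * x)⁻¹ := (hs _ (mul_mem hw hx)).symm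
        _ = x⁻¹ * w⁻¹ := mul_inv_rev _ _
        _ = x * w := by rw [hs x hx, hs w hw]
    · rw [hU]
      have : C.cz x = C.f := by rw [C.cz_isConj (C.invol_conj hy (hsq x hx hx1)), hcy.1]
      exact this.le
  -- the number of Sylow 2-subgroups
  have hS : Nat.card (Sylow 2 G) = p := by
    have hbij : Function.Bijective
        (fun a : Σ U : Sylow 2 G, {x : (U : Subgroup G) // x ≠ 1} =>
          (⟨(a.2.1 : G), (C.invol_conj hy (hcent a.1 _ a.2.1.2
            (fun e => a.2.2 (Subtype.ext e))).1)⟩ : {g : G // IsConj y g})) := by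
      constructor
      · rintro ⟨U, x, hx⟩ ⟨U', x', hx'⟩ h
        have h' : (x : G) = x' := congrArg Subtype.val h
        have hxne : (x : G) ≠ 1 := fun e => hx (Subtype.ext e)
        have e1 := (hcent U _ x.2 hxne).2
        have e2 := (hcent U' _ x'.2 (h' ▸ hxne)).2
        rw [← h', e1] at e2
        have : U = U' := Sylow.ext e2
        subst this
        simp only [Sigma.mk.injEq, heq_eq_eq, true_and]
        exact Subtype.ext (Subtype.ext h')
      · rintro ⟨g, hg⟩
        have ho : orderOf g = 2 := by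
          obtain ⟨c, rfl⟩ := isConj_iff.1 hg
          rwa [Blocks.orderOf_conj']
        obtain ⟨U, hle⟩ := (IsPGroup.of_card (p := 2) (n := 1) (G := Subgroup.zpowers g)
          (by rw [Nat.card_zpowers, ho, pow_one])).exists_le_sylow
        exact ⟨⟨U, ⟨⟨g, hle (Subgroup.mem_zpowers g)⟩, fun e => by
          have : g = 1 := congrArg Subtype.val e
          rw [this, orderOf_one] at ho; omega⟩⟩, rfl⟩
    have h := Nat.card_eq_of_bijective _ hbij
    rw [Nat.card_sigma, Finset.sum_congr rfl (g := fun _ => C.f - 1) (fun U _ => ?_),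
      Finset.sum_const, Finset.card_univ, smul_eq_mul, ← Nat.card_eq_fintype_card] at h
    · have h2 := C.card_class y
      rw [← h, hcy.1, hG] at h2
      have h3 : Nat.card (Sylow 2 G) * ((C.f - 1) * C.f) = p * ((C.f - 1) * C.f) := by
        rw [← mul_assoc, h2]; ring
      exact Nat.eq_of_mul_eq_mul_right (Nat.mul_pos (by omega) (by omega)) h3
    · rw [Nat.card_eq_fintype_card, Fintype.card_subtype_compl, Fintype.card_subtype_eq,
        ← Nat.card_eq_fintype_card, hU]
  -- the maximal subgroup contains a Sylow 2-subgroup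
  have hcH : 3 * Nat.card H = C.f * (C.f - 1) := by
    have h := Subgroup.index_mul_card H
    rw [hidx, hG, mul_comm 3 p, mul_assoc] at h
    exact Nat.eq_of_mul_eq_mul_left hp.pos h
  have hfH : 2 ^ m ∣ Nat.card H := by
    rw [← hm]
    refine (Nat.Coprime.dvd_of_dvd_mul_left ?_ ⟨_, hcH⟩)
    rw [hm]
    exact Nat.Coprime.pow_left _ (by norm_num)
  obtain ⟨K, hK⟩ := Sylow.exists_subgroup_card_pow_prime 2 hfH
  have hK2 : IsPGroup 2 (K.map H.subtype) := (IsPGroup.of_card hK).map _
  obtain ⟨U₀, hKU⟩ := hK2.exists_le_sylow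
  have hU₀H : (U₀ : Subgroup G) ≤ H := by
    have : K.map H.subtype = (U₀ : Subgroup G) := Subgroup.eq_of_le_of_card_ge hKU (by
      rw [hU U₀, hm, ← hK, Subgroup.card_map_of_injective H.subtype_injective])
    rw [← this]
    exact Subgroup.map_subtype_le K
  have hfree : ∀ x ∈ (U₀ : Subgroup G), x ≠ 1 → ∀ U : Sylow 2 G, x • U = U → U = U₀ := by
    intro x hx hx1 U hU'
    have hxN : x ∈ Subgroup.normalizer ((U : Subgroup G) : Set G) :=
      (Sylow.smul_eq_iff_mem_normalizer).1 hU'
    have hz : IsPGroup 2 (Subgroup.zpowers x) := IsPGroup.of_card (n := 1)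
      (by rw [Nat.card_zpowers, (hcent U₀ x hx hx1).1, pow_one])
    have hxU : x ∈ (U : Subgroup G) := by
      have := hz.inf_normalizer_sylow U
      exact (this ▸ ⟨Subgroup.mem_zpowers x, hxN⟩ : x ∈ Subgroup.zpowers x ⊓ (U : Subgroup G)).2
    exact Sylow.ext ((hcent U x hxU hx1).2.symm.trans (hcent U₀ x hx hx1).2)
  set O := MulAction.orbit H U₀ with hO
  have hOle : Nat.card O ≤ p := hS ▸ Nat.card_le_card_of_injective _ Subtype.val_injective
  have hOdvd : Nat.card O ∣ Nat.card H := by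
    rw [hO, Nat.card_coe_set_eq, ← index_stabilizer]
    exact Subgroup.index_dvd_card _
  have hOmod : Nat.card O % C.f = 1 := by
    let U₀' := (U₀ : Subgroup G).subgroupOf H
    have hc : Nat.card U₀' = C.f := by
      rw [Nat.card_congr (Subgroup.subgroupOfEquivOfLe hU₀H).toEquiv, hU]
    have h := sum_fix_subgroup (G := H) U₀' O
    have hfx : ∀ w ∈ (Finset.univ : Finset U₀').erase 1, fix O (w : H) = 1 := by
      intro w hw
      have hw1 : ((w : H) : G) ≠ 1 := fun e =>
        Finset.ne_of_mem_erase hw (Subtype.ext (Subtype.ext e))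
      rw [fix, Nat.card_eq_one_iff_unique]
      refine ⟨⟨fun a b => Subtype.ext (Subtype.ext ?_)⟩, ⟨⟨⟨U₀, mem_orbit_self _⟩, ?_⟩⟩⟩
      · have ha' := hfree _ w.2 hw1 a.1.1 (congrArg Subtype.val a.2)
        have hb' := hfree _ w.2 hw1 b.1.1 (congrArg Subtype.val b.2)
        rw [ha', hb']
      · refine Subtype.ext ?_
        show ((w : H) : G) • U₀ = U₀
        exact Sylow.smul_eq_iff_mem_normalizer.2 (Subgroup.le_normalizer w.2)
    rw [← Finset.add_sum_erase _ _ (Finset.mem_univ (1 : U₀')), Finset.sum_congr rfl hfx,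
      Finset.sum_const, Finset.card_erase_of_mem (Finset.mem_univ _), Finset.card_univ,
      OneMemClass.coe_one, fix_one, ← Nat.card_eq_fintype_card, ← Nat.card_eq_fintype_card, hc,
      smul_eq_mul, mul_one] at h
    obtain ⟨k, hk⟩ : ∃ k, Nat.card O = k * C.f + 1 := by
      refine ⟨Nat.card (orbitRel.Quotient U₀' O) - 1, ?_⟩
      rw [Nat.sub_mul, one_mul]
      have h0 : C.f ≤ Nat.card (orbitRel.Quotient U₀' O) * C.f := by
        have : 0 < Nat.card O := Nat.card_pos_iff.2 ⟨⟨⟨U₀, mem_orbit_self _⟩⟩, inferInstance⟩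
        omega
      omega
    rw [hk, Nat.mul_add_mod']
    exact Nat.one_mod_eq_one.2 (by omega)
  have hO1 : Nat.card O = 1 := by
    by_contra hne
    obtain ⟨k, hk⟩ : ∃ k, Nat.card O = k * C.f + 1 :=
      ⟨Nat.card O / C.f, by have := Nat.div_add_mod (Nat.card O) C.f; rw [hOmod, mul_comm] at this; omega⟩
    have hk1 : k = 1 := by
      rcases k with _ | _ | k
      · rw [zero_mul, zero_add] at hk; exact absurd hk hne
      · rfl
      · exfalso
        rw [hk] at hOle
        have : (k + 1 + 1) * C.f ≥ 2 * C.f := Nat.mul_le_mul_right _ (by omega)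
        omega
    rw [hk1, one_mul, hf] at hk
    have h3 : p ∣ 3 * Nat.card H := dvd_mul_of_dvd_right (hk ▸ hOdvd) 3
    rw [hcH] at h3
    rcases hp.dvd_mul.1 h3 with h | h <;> have := Nat.le_of_dvd (by omega) h <;> omega
  have hHN : H ≤ Subgroup.normalizer ((U₀ : Subgroup G) : Set G) := by
    intro x hx
    refine Sylow.smul_eq_iff_mem_normalizer.1 ?_
    have : Subsingleton O := (Nat.card_eq_one_iff_unique.1 hO1).1
    exact congrArg Subtype.val (Subsingleton.elim (α := O)
      ⟨_, ⟨⟨x, hx⟩, rfl⟩⟩ ⟨U₀, mem_orbit_self _⟩)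
  have hNidx : (Subgroup.normalizer ((U₀ : Subgroup G) : Set G)).index = p :=
    U₀.card_eq_index_normalizer.symm.trans hS
  rcases hHN.eq_or_lt with h | h
  · rw [h, hNidx] at hidx; omega
  · rw [hH.2 _ h, Subgroup.index_top] at hNidx; omega

end Ctx

end Cfsg.Agent.Fg24.DegThreeP
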