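import Cfsg.Agent.Fg24.DegThreeP.Act

/-!
# The case of a character of degree `3p - 1`

The permutation character is `1 + χ`, the action is doubly transitive; the fixed point sums
common to the two congruence classes of `p`.
-/

set_option autoImplicit false
set_option linter.unusedSectionVars false

open Cfsg MulAction
open Function.Embedding (embFinTwo embFinTwo_apply_zero embFinTwo_apply_one)
open scoped Classical ComplexConjugate

namespace Cfsg.Agent.Fg24.DegThreeP

universe u v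

section Aux

variable {G : Type u} [Group G] [Fintype G]

theorem fixedBy_card_eq {X : Type v} [Fintype X] [MulAction G X] (g : G) :
    fix X g = (Finset.univ.filter fun x : X => g • x = x).card := by
  rw [fix, Nat.card_eq_fintype_card]
  exact Fintype.card_subtype _

theorem exists_fixed_pair {X : Type v} [Fintype X] [MulAction G X] {g : G} (h : 2 ≤ fix X g) :
    ∃ a b : X, a ≠ b ∧ g • a = a ∧ g • b = b := by
  rw [fixedBy_card_eq] at h
  obtain ⟨a, ha, b, hb, hab⟩ := Finset.one_lt_card.1 h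
  rw [Finset.mem_filter] at ha hb
  exact ⟨a, b, hab, ha.2, hb.2⟩

theorem smul_emb_iff {k : ℕ} {X : Type v} [MulAction G X] (g : G) (x y : Fin k ↪ X) :
    g • x = y ↔ ∀ i, g • x i = y i :=
  ⟨fun h i => by rw [← h]; rfl, fun h => Function.Embedding.ext h⟩

theorem fix_two_cast {X : Type v} [Fintype X] [MulAction G X] (g : G) :
    (fix (Fin 2 ↪ X) g : ℤ) = (fix X g : ℤ) * ((fix X g : ℤ) - 1) := by
  rw [fix_embedding]
  rcases fix X g with _ | n
  · simp
  · simp [Nat.descFactorial]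
    ring

theorem fix_three_cast {X : Type v} [Fintype X] [MulAction G X] (g : G) :
    (fix (Fin 3 ↪ X) g : ℤ) = (fix X g : ℤ) * ((fix X g : ℤ) - 1) * ((fix X g : ℤ) - 2) := by
  rw [fix_embedding]
  rcases fix X g with _ | _ | n
  · simp
  · simp [Nat.descFactorial]
  · simp [Nat.descFactorial]
    ring

/-- A transitive set has as many group elements sending each point to any prescribed image as
points, counted over all points. -/
theorem sum_card_twist {X : Type v} [Fintype X] [MulAction G X] [IsPretransitive G X] [Nonempty X]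
    (s : X → X) :
    ∑ g : G, (Finset.univ.filter fun x : X => g • x = s x).card = Nat.card G := by
  obtain ⟨a⟩ := ‹Nonempty X›
  have h : ∀ x : X, (Finset.univ.filter fun g : G => g • x = s x).card =
      Nat.card (stabilizer G a) := by
    intro x
    obtain ⟨u, hu⟩ := MulAction.exists_smul_eq G a x
    obtain ⟨v, hv⟩ := MulAction.exists_smul_eq G a (s x)
    rw [← card_filter_stab (G := G) a]
    refine Finset.card_equiv ((Equiv.mulLeft v⁻¹).trans (Equiv.mulRight u)) fun g => ?_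
    simp only [Finset.mem_filter, Finset.mem_univ, true_and, Equiv.trans_apply, Equiv.coe_mulLeft,
      Equiv.coe_mulRight, mul_smul, hu, inv_smul_eq_iff, hv]
  simp only [Finset.card_filter]
  rw [Finset.sum_comm]
  simp only [← Finset.card_filter, h, Finset.sum_const, Finset.card_univ, smul_eq_mul,
    card_stab_mul]

theorem sum_filter_eq_subgroup {M : Type*} [AddCommMonoid M] (H : Subgroup G) {pr : G → Prop}
    (hH : ∀ g, pr g ↔ g ∈ H) (φ : G → M) :
    ∑ g ∈ Finset.univ.filter pr, φ g = ∑ g : H, φ (g : G) :=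
  Finset.sum_subtype _ (fun g => by simp [hH]) φ

theorem triple_injective {X : Type v} {a b c : X} (hab : a ≠ b) (hac : a ≠ c) (hbc : b ≠ c) :
    Function.Injective ![a, b, c] := by
  intro i j h
  fin_cases i <;> fin_cases j <;> simp_all

/-- An ordered triple of distinct points. -/
def triple {X : Type v} {a b c : X} (hab : a ≠ b) (hac : a ≠ c) (hbc : b ≠ c) : Fin 3 ↪ X :=
  ⟨![a, b, c], triple_injective hab hac hbc⟩

theorem stab_triple {X : Type v} [MulAction G X] (x : Fin 3 ↪ X) (g : G) :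
    g ∈ stabilizer G x ↔ g • x 0 = x 0 ∧ g • x 1 = x 1 ∧ g • x 2 = x 2 := by
  rw [mem_stabilizer_iff, smul_emb_iff, Fin.forall_fin_succ, Fin.forall_fin_two]
  rfl

end Aux

variable {G : Type u} [Group G] [Fintype G] [IsSimpleGroup G] {p : ℕ} [Fact p.Prime]

/-- The permutation character of degree `3p` is `1 + χ`. -/
structure Three (C : Ctx G p) (Ω : Type v) [Fintype Ω] [MulAction G Ω] : Prop where
  hΩ : Fintype.card Ω = 3 * p
  ha : C.a = -1
  hf : C.f + 1 = 3 * p
  hv : ∀ g : G, C.val g = (fix Ω g : ℤ) - 1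
  trans2 : IsMultiplyPretransitive G Ω 2

namespace Ctx

variable (C : Ctx G p) {Ω : Type v} [Fintype Ω] [MulAction G Ω] [IsPretransitive G Ω]
include C

theorem three_of_decomp (hΩ : Fintype.card Ω = 3 * p) (ha : C.a = -1) (hf : C.f + 1 = 3 * p)
    {m : IrrCharacter G → ℕ} (hm1 : m C.χ = 1) (hmt : m (Blocks.triv G) = 1)
    (hY : ∀ η ∈ C.D.Y, m η = 0)
    (hrest : ∀ θ, θ ∉ C.D.X → θ ∉ C.D.Y → m θ = 0)
    (hm : ∀ θ : IrrCharacter G, classInner (fun g => (fix Ω g : ℂ)) (θ : G → ℂ) = m θ)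
    (hexp : ∀ g, (fix Ω g : ℂ) = ∑ θ : IrrCharacter G, (m θ : ℂ) * (θ : G → ℂ) g) :
    Three C Ω := by
  have hval : ∀ g, (fix Ω g : ℂ) = 1 + (C.χ : G → ℂ) g := by
    intro g
    rw [hexp g, ← Finset.sum_add_sum_compl C.D.X, C.sum_X,
      Finset.sum_eq_zero (s := C.D.Xᶜ) (fun θ hθ => by
        rw [Finset.mem_compl] at hθ
        by_cases hθY : θ ∈ C.D.Y
        · rw [hY θ hθY, Nat.cast_zero, zero_mul]
        · rw [hrest θ hθ hθY, Nat.cast_zero, zero_mul]), hmt, hm1]
    simp [Blocks.triv]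
  refine ⟨hΩ, ha, hf, fun g => ?_, ?_⟩
  · have h := hval g
    rw [C.val_spec] at h
    have h' : (fix Ω g : ℤ) = 1 + C.val g := by exact_mod_cast h
    omega
  · have hp5 := C.hp5
    obtain ⟨a₀⟩ : Nonempty Ω := Fintype.card_pos_iff.1 (by rw [hΩ]; omega)
    have hnorm : classInner (fun g : G => (fix Ω g : ℂ)) (fun g : G => (fix Ω g : ℂ)) = (2 : ℕ) := by
      have hsum : (fun g : G => (fix Ω g : ℂ)) = (Blocks.triv G : G → ℂ) + (C.χ : G → ℂ) :=
        funext fun g => by rw [Pi.add_apply, hval g]; rfl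
      refine (congrArg (classInner fun g : G => (fix Ω g : ℂ)) hsum).trans ?_
      rw [Char.classInner_add_right, hm, hm, hmt, hm1]
      norm_num
    have hq : Nat.card (orbitRel.Quotient (stabilizer G a₀) Ω) = 2 := by
      have h := Char.pi_inner_self (G := G) a₀
      rw [show (fun g : G => (Nat.card (fixedBy Ω g) : ℂ)) = fun g => (fix Ω g : ℂ) from rfl,
        hnorm] at h
      exact_mod_cast h.symm
    have hone : ∀ b d : Ω, b ≠ a₀ → d ≠ a₀ → ∃ g : G, g • a₀ = a₀ ∧ g • b = d := by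
      intro b d hb hd
      let mk : Ω → orbitRel.Quotient (stabilizer G a₀) Ω := fun x => Quotient.mk'' x
      have hne : ∀ x, x ≠ a₀ → mk x ≠ mk a₀ := fun x hx e => by
        obtain ⟨g, hg⟩ := orbitRel_apply.1 (Quotient.eq''.1 e)
        exact hx (hg.symm.trans (mem_stabilizer_iff.1 g.2))
      by_cases e : mk d = mk b
      · obtain ⟨g, hg⟩ := orbitRel_apply.1 (Quotient.eq''.1 e)
        exact ⟨g, mem_stabilizer_iff.1 g.2, hg⟩
      · exfalso
        have h3 : ({mk a₀, mk b, mk d} : Finset _).card = 3 :=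
          Finset.card_eq_three.2 ⟨_, _, _, (hne b hb).symm, (hne d hd).symm, Ne.symm e, rfl⟩
        have := h3.symm.le.trans (Finset.card_le_univ _)
        rw [← Nat.card_eq_fintype_card, hq] at this
        omega
    rw [is_two_pretransitive_iff]
    intro a b c d hab hcd
    obtain ⟨u, rfl⟩ := MulAction.exists_smul_eq G a₀ a
    obtain ⟨v, rfl⟩ := MulAction.exists_smul_eq G a₀ c
    obtain ⟨g, hg1, hg2⟩ := hone (u⁻¹ • b) (v⁻¹ • d)
      (fun e => hab (by rw [← e, smul_inv_smul]))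
      (fun e => hcd (by rw [← e, smul_inv_smul]))
    refine ⟨v * g * u⁻¹, ?_, ?_⟩
    · rw [mul_smul, mul_smul, inv_smul_smul, hg1]
    · rw [mul_smul, mul_smul, hg2, smul_inv_smul]

end Ctx

namespace Three

variable {C : Ctx G p} {Ω : Type v} [Fintype Ω] [MulAction G Ω] [IsPretransitive G Ω]
variable (T : Three C Ω)
include T

theorem nonempty : Nonempty Ω :=
  Fintype.card_pos_iff.1 (by rw [T.hΩ]; have := C.hp5; omega)

theorem exists_two {a b c d : Ω} (hab : a ≠ b) (hcd : c ≠ d) :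
    ∃ g : G, g • a = c ∧ g • b = d :=
  is_two_pretransitive_iff.1 T.trans2 hab hcd

theorem fix_singular {g : G} (hg : p ∣ orderOf g) : fix Ω g = 0 :=
  C.fix_singular T.hΩ (by have := C.hp5; omega) hg

theorem fix_le' (g : G) : (fix Ω g : ℤ) ≤ 3 * p := by
  have := fix_le Ω g
  rw [T.hΩ] at this
  exact_mod_cast this

theorem card_pairs : (Fintype.card (Fin 2 ↪ Ω) : ℤ) = 3 * p * (3 * p - 1) := by
  rw [Fintype.card_embedding_eq, Fintype.card_fin, T.hΩ]
  obtain ⟨q, hq⟩ : ∃ q, 3 * p = q + 1 := ⟨3 * p - 1, by have := C.hp5; omega⟩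
  have hq' : (3 : ℤ) * p = q + 1 := by exact_mod_cast hq
  rw [hq, hq']
  simp [Nat.descFactorial]
  ring

theorem card_triples :
    (Fintype.card (Fin 3 ↪ Ω) : ℤ) = 3 * p * (3 * p - 1) * (3 * p - 2) := by
  rw [Fintype.card_embedding_eq, Fintype.card_fin, T.hΩ]
  obtain ⟨q, hq⟩ : ∃ q, 3 * p = q + 2 := ⟨3 * p - 2, by have := C.hp5; omega⟩
  have hq' : (3 : ℤ) * p = q + 2 := by exact_mod_cast hq
  rw [hq, hq']
  simp [Nat.descFactorial]
  ring

theorem sum_F : ∑ g : G, (fix Ω g : ℤ) = Nat.card G :=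
  sum_fix T.nonempty.some

theorem sum_f2 : ∑ g : G, (fix Ω g : ℤ) * ((fix Ω g : ℤ) - 1) = Nat.card G := by
  have := T.trans2
  obtain ⟨a, b, hab⟩ : ∃ a b : Ω, a ≠ b := Fintype.exists_pair_of_one_lt_card
    (by rw [T.hΩ]; have := C.hp5; omega)
  rw [← sum_fix (G := G) (embFinTwo hab)]
  exact Finset.sum_congr rfl fun g _ => (fix_two_cast g).symm

theorem sum_sq : ∑ g : G, (fix Ω g : ℤ) ^ 2 = 2 * Nat.card G := by
  rw [two_mul]
  conv_rhs => arg 1; rw [← T.sum_f2]
  conv_rhs => arg 2; rw [← T.sum_F]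
  rw [← Finset.sum_add_distrib]
  exact Finset.sum_congr rfl fun g _ => by ring

theorem sum_R_eq (φ : G → ℤ) (hφ : ∀ g, fix Ω g = 0 → φ g = 0) :
    ∑ g ∈ C.R, φ g = ∑ g, φ g :=
  Finset.sum_subset (Finset.subset_univ _) fun g _ hg =>
    hφ g (T.fix_singular (by simpa [C.mem_R] using hg))

theorem card_G : (Nat.card G : ℤ) = p * (2 * C.M) := by
  rw [C.hG']
  push_cast
  ring

theorem sum_R_deficit : ∑ g ∈ C.R, ((fix Ω g : ℤ) - 1) * ((fix Ω g : ℤ) - 2) = 2 * C.M := by
  have h : ∀ g ∈ C.R, ((fix Ω g : ℤ) - 1) * ((fix Ω g : ℤ) - 2) =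
      (fix Ω g : ℤ) ^ 2 - 3 * (fix Ω g : ℤ) + 2 := fun g _ => by ring
  rw [Finset.sum_congr rfl h, Finset.sum_add_distrib, Finset.sum_sub_distrib, ← Finset.mul_sum,
    T.sum_R_eq _ (fun g hg => by rw [hg]; simp), T.sum_R_eq _ (fun g hg => by rw [hg]; simp),
    T.sum_sq, T.sum_F, Finset.sum_const, nsmul_eq_mul, C.card_R, T.card_G]
  ring

theorem deficit_nonneg (g : G) :
    0 ≤ ((fix Ω g : ℤ) - 1) * ((fix Ω g : ℤ) - 2) * (3 * p - (fix Ω g : ℤ)) := by
  refine mul_nonneg ?_ (by linarith [T.fix_le' g])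
  rcases le_or_gt ((fix Ω g : ℤ)) 1 with h | h
  · exact mul_nonneg_of_nonpos_of_nonpos (by linarith) (by linarith)
  · exact mul_nonneg (by linarith) (by omega)

theorem sum_R_T :
    ∑ g ∈ C.R, ((fix Ω g : ℤ) - 1) * ((fix Ω g : ℤ) - 2) * (3 * p - (fix Ω g : ℤ)) =
      3 * Nat.card G - ∑ g : G, (fix Ω g : ℤ) * ((fix Ω g : ℤ) - 1) * ((fix Ω g : ℤ) - 2) := by
  have h : ∀ g ∈ C.R,
      ((fix Ω g : ℤ) - 1) * ((fix Ω g : ℤ) - 2) * (3 * p - (fix Ω g : ℤ)) =
      3 * p * (((fix Ω g : ℤ) - 1) * ((fix Ω g : ℤ) - 2)) -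
        (fix Ω g : ℤ) * ((fix Ω g : ℤ) - 1) * ((fix Ω g : ℤ) - 2) := fun g _ => by ring
  rw [Finset.sum_congr rfl h, Finset.sum_sub_distrib, ← Finset.mul_sum, T.sum_R_deficit,
    T.sum_R_eq _ (fun g hg => by rw [hg]; simp), T.card_G]
  ring

/-- The order of a pointwise stabiliser of two points. -/
theorem card_pair_stab {a b : Ω} (hab : a ≠ b) :
    3 * p * (3 * p - 1) * Nat.card ↥(stabilizer G a ⊓ stabilizer G b) = Nat.card G := by
  have := T.trans2
  have h := card_stab_mul (G := G) (embFinTwo hab)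
  rw [Fintype.card_embedding_eq, Fintype.card_fin, T.hΩ] at h
  have h2 : stabilizer G (embFinTwo hab) = stabilizer G a ⊓ stabilizer G b := by
    ext g
    rw [Subgroup.mem_inf, mem_stabilizer_iff, mem_stabilizer_iff, mem_stabilizer_iff, smul_emb_iff,
      Fin.forall_fin_two, embFinTwo_apply_zero, embFinTwo_apply_one]
  rw [h2] at h
  rw [← h]
  obtain ⟨q, hq⟩ : ∃ q, 3 * p = q + 1 := ⟨3 * p - 1, by have := C.hp5; omega⟩
  rw [hq, show (q + 1).descFactorial 2 = (q + 1) * q by simp [Nat.descFactorial]; ring,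
    Nat.add_sub_cancel]

theorem val_sub (g : G) : (C.f : ℤ) - C.val g = 3 * p - (fix Ω g : ℤ) := by
  rw [T.hv]
  have := T.hf
  omega

theorem count {y g : G} (hy : orderOf y = 2) (hg : ¬ p ∣ orderOf g) (hg1 : g ≠ 1) :
    ∃ n : ℤ, 0 < n ∧ (C.cz g : ℤ) * n * (3 * p - (fix Ω y : ℤ)) =
      C.cz y * (3 * p - (fix Ω g : ℤ)) := by
  obtain ⟨n, hn, h⟩ := C.exists_n hy hg hg1
  rw [T.val_sub, T.val_sub] at h
  exact ⟨n, hn, h⟩

theorem key {y : G} (hy : orderOf y = 2) :
    (Nat.card G : ℤ) * (3 * p - (fix Ω y : ℤ)) ^ 2 =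
      p * (C.cz y : ℤ) ^ 2 * ((3 * p - 1) * (3 * p - 2)) := by
  have h := C.key hy
  rw [T.val_sub, T.ha] at h
  rw [h]
  have : (C.f : ℤ) = 3 * p - 1 := by have := T.hf; omega
  rw [this]
  ring

/-- A doubly transitive action with a two-point stabiliser transitive on the remaining points is
triply transitive. -/
theorem trans3_of {α β : Ω} (hαβ : α ≠ β)
    (hrest : ∀ c d, c ≠ α → c ≠ β → d ≠ α → d ≠ β →
      ∃ g : G, g • α = α ∧ g • β = β ∧ g • c = d) : IsMultiplyPretransitive G Ω 3 := by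
  refine ⟨fun x z => ?_⟩
  obtain ⟨g, hg0, hg1⟩ := T.exists_two (a := x 0) (b := x 1) (c := α) (d := β)
    (fun e => absurd (x.injective e) (by decide)) hαβ
  obtain ⟨g', hg0', hg1'⟩ := T.exists_two (a := z 0) (b := z 1) (c := α) (d := β)
    (fun e => absurd (z.injective e) (by decide)) hαβ
  obtain ⟨h, hhα, hhβ, hhc⟩ := hrest (g • x 2) (g' • z 2)
    (fun e => absurd (x.injective (smul_left_cancel g (e.trans hg0.symm))) (by decide))
    (fun e => absurd (x.injective (smul_left_cancel g (e.trans hg1.symm))) (by decide))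
    (fun e => absurd (z.injective (smul_left_cancel g' (e.trans hg0'.symm))) (by decide))
    (fun e => absurd (z.injective (smul_left_cancel g' (e.trans hg1'.symm))) (by decide))
  refine ⟨g'⁻¹ * (h * g), ?_⟩
  rw [smul_emb_iff]
  intro i
  rw [mul_smul, mul_smul, inv_smul_eq_iff]
  fin_cases i
  · exact (congrArg (h • ·) hg0).trans (hhα.trans hg0'.symm)
  · exact (congrArg (h • ·) hg1).trans (hhβ.trans hg1'.symm)
  · exact hhc

theorem fix_lt [FaithfulSMul G Ω] {g : G} (hg : g ≠ 1) : fix Ω g < 3 * p := by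
  rw [← T.hΩ]
  refine lt_of_le_of_ne (fix_le Ω g) fun e => hg (FaithfulSMul.eq_of_smul_eq_smul fun x : Ω => ?_)
  rw [one_smul]
  rw [fixedBy_card_eq] at e
  exact (Finset.mem_filter.1 ((Finset.eq_univ_of_card _ e).symm ▸ Finset.mem_univ x :
    x ∈ Finset.univ.filter fun x : Ω => g • x = x)).2

end Three

end Cfsg.Agent.Fg24.DegThreeP
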